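import Cfsg.Agent.Lib.RE.Defs
import Cfsg.Agent.Lib.H1.StQ

/-!
# Groups without real elements of order three: closure properties, Goldschmidt input
-/

set_option autoImplicit false
set_option linter.unusedVariables false
set_option linter.unusedSectionVars false

namespace Cfsg.Agent.RE

open Subgroup Cfsg.Agent.FT Cfsg.Agent.GW
open Cfsg.Agent.H6 hiding Op cent_sup fit_le le_fit
open scoped commutatorElement

universe u

variable {G : Type*} [Group G] [Finite G] {A B D E H K L M N P Q R S T U V X Y : Subgroup G}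
  {p q m f : ℕ} {a b c d g k s t u v w x y z φ : G}

omit [Finite G] in
theorem NR.of_inj {G' : Type*} [Group G'] (h : NR G) (f : G' →* G) (hf : Function.Injective f) :
    NR G' := fun x hx hc =>
  h (f x) ((orderOf_injective f hf x).trans hx) (map_inv f x ▸ f.map_isConj hc)

theorem NR.sub (h : NR G) (H : Subgroup G) : NR H :=
  h.of_inj H.subtype H.subtype_injective

theorem NR.of_equiv {G' : Type*} [Group G'] (h : NR G) (e : G ≃* G') : NR G' :=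
  h.of_inj e.symm.toMonoidHom e.symm.injective

theorem NR.not_inv (h : NR G) (hx : 3 ∣ orderOf x) (g : G) : g * x * g⁻¹ ≠ x⁻¹ := fun e =>
  h (x ^ (orderOf x / 3)) (orderOf_pow_orderOf_div (orderOf_pos x).ne' hx)
    (isConj_iff.2 ⟨g, by rw [← conj_pow, e, inv_pow]⟩)

theorem NR.sq_cent (h : NR G) (hP : IsPGroup 3 P) (hn : g ∈ 𝒩(P)) (h2 : g * g ∈ 𝒞(P)) :
    g ∈ 𝒞(P) := by
  haveI : Fact (Nat.Prime 3) := ⟨Nat.prime_three⟩
  refine mem_cent.2 fun r hr => ?_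
  have h1 : r⁻¹ * (g * r * g⁻¹) ∈ P := mul_mem (inv_mem hr) (conj_mem_of_mem_normalizer hn hr)
  by_contra hne
  have h3 : r⁻¹ * (g * r * g⁻¹) ≠ 1 := fun e => hne (by
    rw [inv_mul_eq_one, eq_mul_inv_iff_mul_eq] at e
    exact e)
  obtain ⟨k, hk⟩ := IsPGroup.iff_orderOf.1 hP ⟨_, h1⟩
  rw [← orderOf_coe] at hk
  refine h.not_inv (x := r⁻¹ * (g * r * g⁻¹)) ?_ g ?_
  · refine hk ▸ dvd_pow_self 3 fun e => h3 ?_
    rw [e, pow_zero] at hk
    exact orderOf_eq_one_iff.1 hk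
  · have := mem_cent.1 h2 r hr
    calc g * (r⁻¹ * (g * r * g⁻¹)) * g⁻¹ = g * r⁻¹ * g⁻¹ * (g * g * r) * (g * g)⁻¹ := by group
      _ = (r⁻¹ * (g * r * g⁻¹))⁻¹ := by rw [← this]; group

/-- A 2-group normalizing a 3-group centralizes it. -/
theorem NR.le_cent (h : NR G) (hP : IsPGroup 3 P) (hT : IsPGroup 2 T) (hn : T ≤ 𝒩(P)) :
    T ≤ 𝒞(P) := fun g hg => by
  obtain ⟨k, hk⟩ := hT ⟨g, hg⟩
  have key : ∀ k : ℕ, ∀ g ∈ 𝒩(P), g ^ 2 ^ k ∈ 𝒞(P) → g ∈ 𝒞(P) := fun k => by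
    induction k with
    | zero => intro g _ e; simpa using e
    | succ k ih =>
      intro g hg e
      exact h.sq_cent hP hg (ih _ (mul_mem hg hg) (by rwa [← sq, ← pow_mul, ← pow_succ']))
  exact key k g (hn hg) (by
    rw [show g ^ 2 ^ k = 1 from congrArg Subtype.val hk]; exact one_mem _)

theorem NR.mem_cent (h : NR G) (hP : IsPGroup 3 P) (ht : t * t = 1) (hn : t ∈ 𝒩(P)) :
    t ∈ 𝒞(P) :=
  h.sq_cent hP hn (ht ▸ one_mem _)

theorem NR.odd_relIndex (h : NR G) (hP : IsPGroup 3 P) : Odd (𝒞(P).relIndex 𝒩(P)) := by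
  haveI : Fact (Nat.Prime 2) := ⟨Nat.prime_two⟩
  obtain ⟨T, hT⟩ := H1.exists_isSylowIn 2 𝒩(P)
  exact Nat.not_even_iff_odd.1 fun e =>
    hT.not_dvd_relIndex_of_le (h.le_cent hP hT.isPGroup hT.le) (even_iff_two_dvd.1 e)

omit [Finite G] in
theorem inv_of_odd_pow (h : g * x * g⁻¹ = x⁻¹) (hm : Odd m) : g ^ m * x * (g ^ m)⁻¹ = x⁻¹ := by
  obtain ⟨j, rfl⟩ := hm
  have h2 : g ^ 2 * x = x * g ^ 2 := by
    have : g * (g * x * g⁻¹) * g⁻¹ = x := by rw [h, ← conj_inv, h, inv_inv]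
    rw [← mul_inv_eq_iff_eq_mul, sq]
    exact Eq.trans (by group) this
  have h3 : Commute ((g ^ 2) ^ j) x := (show Commute (g ^ 2) x from h2).pow_left j
  rw [pow_succ', pow_mul, mul_assoc g, h3.eq, ← h]
  group

theorem NR.surj {G' : Type*} [Group G'] (h : NR G) (f : G →* G') (hf : Function.Surjective f) :
    NR G' := fun x hx hc => by
  haveI : Fact (Nat.Prime 3) := ⟨Nat.prime_three⟩
  obtain ⟨g', hg'⟩ := isConj_iff.1 hc
  obtain ⟨g, rfl⟩ := hf g'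
  obtain ⟨R, hR⟩ := H1.exists_isSylowIn 3 ((zpowers x).comap f)
  have h1 : g ∈ 𝒩((zpowers x).comap f) := mem_normalizer_of_conj_mem fun a ha => by
    obtain ⟨k, hk⟩ := mem_zpowers_iff.1 (mem_comap.1 ha)
    rw [mem_comap, map_mul, map_mul, map_inv, ← hk, ← conj_zpow, hg']
    exact zpow_mem (inv_mem (mem_zpowers x)) k
  obtain ⟨k, hk, hn⟩ := hR.frattini_elt h1
  have h2 := hR.map f
  rw [map_comap_eq_self_of_surjective hf] at h2
  obtain ⟨r, hr, rfl⟩ : x ∈ R.map f :=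
    (h2.eq_of_le (IsPGroup.of_card (n := 1) (by rw [Nat.card_zpowers, hx, pow_one])) le_rfl
      h2.le).le (mem_zpowers x)
  have h3 : f (k * g) * f r * (f (k * g))⁻¹ = (f r)⁻¹ := by
    obtain ⟨j, hj⟩ := mem_zpowers_iff.1 (mem_comap.1 hk)
    rw [map_mul, mul_inv_rev, mul_assoc (f k), mul_assoc (f k), ← mul_assoc (f g * f r), hg', ← hj]
    group
  have h4 := inv_of_odd_pow h3 (h.odd_relIndex hR.isPGroup)
  have h5 := FT.mem_cent.1 (pow_relIndex_mem_of_norm (normalIn_cent_norm R).norm hn) r hr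
  rw [← map_pow, ← map_mul, ← h5, map_mul, mul_inv_cancel_right, eq_inv_iff_mul_eq_one,
    ← sq] at h4
  exact absurd (hx ▸ orderOf_dvd_of_pow_eq_one h4) (by decide)

theorem NR.quo (h : NR G) (K X : Subgroup G) : NR (quo K X) :=
  ((h.sub 𝒩(K)).surj _ (qmk_surjective K)).sub _

theorem NR.of_quot (N : Subgroup G) [N.Normal] (h3 : ¬ 3 ∣ Nat.card N) (h : NR (G ⧸ N)) :
    NR G := fun x hx hc => by
  haveI : Fact (Nat.Prime 3) := ⟨Nat.prime_three⟩
  refine h (QuotientGroup.mk' N x) (orderOf_eq_prime ?_ fun e => h3 ?_)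
    (map_inv (QuotientGroup.mk' N) x ▸ (QuotientGroup.mk' N).map_isConj hc)
  · rw [← map_pow, ← hx, pow_orderOf_eq_one, map_one]
  · exact hx ▸ N.orderOf_dvd_natCard ((QuotientGroup.eq_one_iff x).1 e)

theorem NR.pi {ι : Type*} {Γ : ι → Type*} [∀ i, Group (Γ i)] (h : ∀ i, NR (Γ i)) :
    NR (∀ i, Γ i) := fun x hx hc => by
  haveI : Fact (Nat.Prime 3) := ⟨Nat.prime_three⟩
  obtain ⟨i, hi⟩ : ∃ i, x i ≠ 1 := by
    by_contra! e
    rw [show x = 1 from funext e, orderOf_one] at hx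
    exact absurd hx (by decide)
  refine h i (x i) (orderOf_eq_prime ?_ hi) ((Pi.evalMonoidHom Γ i).map_isConj hc)
  rw [← Pi.pow_apply, ← hx, pow_orderOf_eq_one, Pi.one_apply]

theorem not_nr_qd : ¬ NR (qd 2) := fun h => by
  haveI : Fact (Nat.Prime 3) := ⟨Nat.prime_three⟩
  let x : qd 2 := ⟨⟨!![0, 1, 0; 1, 1, 0; 0, 0, 1], by decide⟩,
    subset_closure ⟨by decide, by decide, by decide⟩⟩
  let s : qd 2 := ⟨⟨!![0, 1, 0; 1, 0, 0; 0, 0, 1], by decide⟩,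
    subset_closure ⟨by decide, by decide, by decide⟩⟩
  have h1 : x ^ 3 = 1 := by
    rw [pow_succ, sq]
    exact Subtype.ext (Subtype.ext (by decide))
  have h2 : x ≠ 1 := fun e => absurd (congrArg (fun y : qd 2 => y.1.1 0 0) e) (by decide)
  refine h x (orderOf_eq_prime h1 h2) (isConj_iff.2 ⟨s, ?_⟩)
  rw [mul_inv_eq_iff_eq_mul, eq_inv_mul_iff_mul_eq]
  exact Subtype.ext (Subtype.ext (by decide))

theorem NR.not_involves (h : NR G) : ¬ Involves (qd 2) G := by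
  rintro ⟨K, R, _, ⟨e⟩⟩
  exact not_nr_qd (((h.sub K).surj _ (QuotientGroup.mk'_surjective _)).of_equiv e)

/-- Stellmacher: there is a strongly closed elementary abelian 2-subgroup. -/
theorem NR.exists_za [IsSimpleGroup G] (h : NR G) (hG : ¬ IsMulCommutative G) :
    ∃ (T : Set G) (A : Subgroup G), G74.ZA T A ∧ A ≠ ⊥ := by
  haveI : Fact (Nat.Prime 2) := ⟨Nat.prime_two⟩
  obtain ⟨S⟩ : Nonempty (Sylow 2 G) := inferInstance
  have hS1 : (S : Subgroup G) ≠ ⊥ := fun e => hG ⟨⟨IsSimpleGroup.comm_iff_isSolvable.2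
    (isSolvable_of_odd (Nat.not_even_iff_odd.1 fun h2 => S.not_dvd_index
      (by rw [e, index_bot]; exact even_iff_two_dvd.1 h2)))⟩⟩
  obtain ⟨W, h1, h2, -, h4⟩ := St.exists_char_normal
    (fun _ _ _ _ _ _ hH => let ⟨Q, D, t, h, _⟩ := BD.bender_simple hH; ⟨Q, D, t, h⟩)
    (fun _ _ _ _ S _ h1 h2 h3 => G74.goldschmidt S h1 h2 h3) S.isPGroup' hS1
  have h5 := h4 _ (FusionSystem.groupFusionSystem_isSaturated S)
    fun e => h.not_involves ((H1.hasSec_group_iff S).1 e)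
  have hW := S.isPGroup'.to_le h1
  have h6 : omegaOne 2 (Zc W) ≤ W := omega_le.trans inf_le_left
  have h7 : IsStronglyClosed (omegaOne 2 (Zc W)) (S : Subgroup G) := by
    refine ⟨h6.trans h1, fun x hx g hg => ?_⟩
    obtain ⟨ψ, ⟨-, -, n, hn⟩, e1, e2⟩ := h5.2 (zpowers x) (conjHom _ g)
      ⟨zpowers_le.2 (h1 (h6 hx)), fun ⟨y, hy⟩ => by
        obtain ⟨k, rfl⟩ := mem_zpowers_iff.1 hy
        change g * x ^ k * g⁻¹ ∈ _
        rw [← conj_zpow]
        exact zpow_mem hg k, g, fun _ => rfl⟩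
    have e3 : n ∈ 𝒩(W) := mem_normalizer_of_conj_mem fun a ha =>
      e2.le ⟨⟨a, mem_sup_right ha⟩, ha, hn _⟩
    have e4 : n * x * n⁻¹ = g * x * g⁻¹ := (hn _).symm.trans (e1 ⟨x, mem_zpowers x⟩)
    rw [← e4]
    exact conj_mem_of_mem_normalizer (norm_le_norm_omega 2 _ (norm_le_norm_Zc W e3)) hx
  exact ⟨_, _, G74.za_of_closed (sylIn_top S) h7 fun a ha => by
    rw [← pow_two]; exact ((mem_omega_of_comm (Zc_comm W)).1 ha).2,
    omega_ne_bot_of_pgroup Nat.prime_two (hW.to_le inf_le_left) (Zc_ne_bot (nil_of_pgroup hW) h2)⟩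

/-- Among the groups with a strongly embedded subgroup only the Suzuki groups survive. -/
theorem NR.hyp3 [IsSimpleGroup G] (h : NR G) (h3 : SZ.Hyp3 ⊤ H Q D t) :
    ¬ 3 ∣ Nat.card G ∧ ¬ AB.Ab2 G := by
  haveI : Fact (Nat.Prime 3) := ⟨Nat.prime_three⟩
  obtain ⟨hQ, s, hs, c⟩ := h3.concl
  have key : (s * t) ^ 3 ≠ 1 := fun e => by
    refine h (s * t) (orderOf_eq_prime e fun h1 =>
      h3.tnot (eq_inv_of_mul_eq_one_right h1 ▸ inv_mem (h3.Q_le hs.mem))) (isConj_iff.2 ⟨s, ?_⟩)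
    rw [← mul_assoc, hs.sq, one_mul, mul_inv_rev, h3.t_inv]
  obtain ⟨c1, c2, c3⟩ := (c.resolve_left fun e => key e.2).resolve_right fun e => key e.2.2.1
  refine ⟨?_, fun e => c1 (e Q hQ)⟩
  have hD := G74.se_D_eq h3 topEquiv.isSimpleGroup
    fun x => h3.hh_mem_K hs (fun x => G74.se_sq h3 hQ) c2 c3
  obtain ⟨k, ⟨j, rfl⟩, hk⟩ := G74.se_odd_exp h3 hs hD c2 c3
  have h1 := h3.card_eq
  have h2 := h3.card_K
  rw [← hD, hk] at h2
  rw [card_top, c2, hk] at h1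
  have h4 : 2 ^ (2 * j + 1) % 3 = 2 := by
    rw [pow_succ, pow_mul]; simp [Nat.mul_mod, Nat.pow_mod]
  have h5 : Nat.card D % 3 = 1 := by
    rw [← h2] at h4
    omega
  rw [h1, Nat.dvd_iff_mod_eq_zero]
  simp [Nat.mul_mod, Nat.add_mod, Nat.pow_mod, h4, h5]

end Cfsg.Agent.RE
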