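import Cfsg.Agent.Lib.RE.Char4

/-!
# The character theory
-/

set_option autoImplicit false
set_option linter.unusedVariables false
set_option linter.unusedSectionVars false

namespace Cfsg.Agent.RE

open Subgroup Cfsg.Agent.FT Cfsg.Agent.GW
open scoped ComplexConjugate Classical

variable {G : Type*} [Group G] [Finite G] {B E K L N P S X : Subgroup G} {q m f : ℕ}
  {g s t u v w x y z : G} {α β η μ ν ν' φ ψ χ ξ : G → ℂ} {T : Finset (G → ℂ)}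

/-- `(Φ_{μ_j})` moved to the section of `t` and induced to `G`. -/
noncomputable abbrev FF (t w : G) (P S : Subgroup G) (η μ : G → ℂ) (j : Fin 3) : G → ℂ :=
  Ind 𝒞[t] ⊤ (sh t (Ph t P S η (cfConj (w ^ (j : ℕ)) μ)))

namespace CH

variable (h : CH t v w u E B P S K q m f) (hη : η ∈ Irr P) (hη1 : η ≠ cf1 P) (hμ : μ ∈ Irr S)
  (hμ1 : μ ≠ cf1 S)
include h hη hη1 hμ hμ1

theorem F_reg (j : Fin 3) (hy : y ∈ Reg 2 G) : FF t w P S η μ j y = 0 :=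
  sec_zero h.two.ha (mem_top t) (top_inf_eq _).symm (h.Ph_on hη hη1 (h.mu_mem hμ hμ1 j)).2 hy

theorem F_cfdot (j : Fin 3) (hα : α ∈ CFon 𝒞[t] (Reg 2 G)) :
    ⟪FF t w P S η μ j, Ind 𝒞[t] ⊤ (sh t α)⟫[⊤] =
      ⟪Ph t P S η (cfConj (w ^ (j : ℕ)) μ), α⟫[𝒞[t]] :=
  sec_cfdot h.two.ha (mem_top t) (top_inf_eq _).symm (h.Ph_on hη hη1 (h.mu_mem hμ hμ1 j)) hα

theorem exists_T : ∃ T, HD ⊤ (FF t w P S η μ) T := by
  have z := fun j : Fin 3 => h.Ph_mem hη hη1 (h.mu_mem hμ hμ1 j)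
  refine exists_hd (fun j => sec_mem_ZIrr h.two.ha (mem_top t) (top_inf_eq _).symm (z j))
    (fun i j => ?_) (fun i => ?_) fun j => h.F_reg hη hη1 hμ hμ1 j one_reg
  · rw [h.F_cfdot hη hη1 hμ hμ1 i (h.Ph_on hη hη1 (h.mu_mem hμ hμ1 j)),
      h.Ph_Ph hη hη1 (h.mu_mem hμ hμ1 i) (h.mu_mem hμ hμ1 j), h.Ps_Ps hμ hμ1]
  · have e : ∀ j : ℕ, Ind 𝒞[t] ⊤ (Ph t P S η (cfConj (w ^ j) μ)) = Ind 𝒞[t] ⊤ (Ph t P S η μ) :=
      fun j => by
        have := Ind_cfConj (K := S) (φ := μ) (mem_top (w ^ j))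
        rw [H6.cj_eq_self_iff.2 (h.wS j)] at this
        simp only [Ph, map_sub, Ind_Ind h.SH le_top, this]
    have a := (sec_ev h.two.ha (mem_top t) (top_inf_eq _).symm (z 0)).sub
      (sec_ev h.two.ha (mem_top t) (top_inf_eq _).symm (z i))
    rwa [e, e, sub_sub_sub_cancel_left] at a

variable (hd : HD ⊤ (FF t w P S η μ) T)
include hd

theorem orth_smul {c : ℂ} (hc : c ≠ 0)
    (h0 : ⟪∑ ψ ∈ T, ψ, Ind 𝒞[t] ⊤ (sh t (c • (Reg 2 G).indicator ξ))⟫[⊤] = 0) :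
    ⟪(Reg 2 G).indicator (sh t (∑ ψ ∈ T, ψ)), ξ⟫[𝒞[t]] = 0 := by
  rw [sec_left h.two.ha (mem_top t) (top_inf_eq _).symm (ZIrr_inv hd.X_mem), cfdot_smul_right,
    ← cfdot_reg] at h0
  exact (mul_eq_zero.1 h0).resolve_left ((map_ne_zero _).2 hc)

theorem orth_of (hα : α ∈ ZIrr 𝒞[t]) (hs : α ∈ supp (Reg 2 G)) {n : ℕ} (hn : ⟪α, α⟫[𝒞[t]] = n)
    (h4 : n ≤ 4) (h0 : ∀ j : Fin 3, ⟪Ph t P S η (cfConj (w ^ (j : ℕ)) μ), α⟫[𝒞[t]] = 0) :
    ⟪∑ ψ ∈ T, ψ, Ind 𝒞[t] ⊤ (sh t α)⟫[⊤] = 0 :=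
  have on : α ∈ CFon 𝒞[t] (Reg 2 G) := ⟨ZIrr_mem_CF hα, hs⟩
  hd.orth_of_one (sec_mem_ZIrr h.two.ha (mem_top t) (top_inf_eq _).symm hα)
    (fun j => (h.F_cfdot hη hη1 hμ hμ1 j on).trans (h0 j))
    ((sec_cfdot h.two.ha (mem_top t) (top_inf_eq _).symm on on).trans hn) h4
    (sec_zero h.two.ha (mem_top t) (top_inf_eq _).symm hs one_reg)

theorem cc_eq (hχ : χ ∈ T) (hψ : ψ ∈ T) (hy : y ∈ Reg 2 G) : centralChar χ y = centralChar ψ y := by
  have a : ∀ y ∈ Reg 2 G, χ y = ψ y := fun y hy => by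
    have := (hd.eq_on hχ fun j => h.F_reg hη hη1 hμ hμ1 j hy).trans
      (hd.eq_on hψ fun j => h.F_reg hη hη1 hμ hμ1 j hy).symm
    linear_combination this / 4
  rw [centralChar, centralChar, a y hy, a 1 one_reg]

/-- The central characters of the block of `T` do not vanish on `S#`. -/
theorem not_mem {M : Ideal AlgInt} [H5.PMod 2 M] (hχ : χ ∈ T)
    (h0 : ∀ s ∈ S, s ≠ 1 → centralChar χ s ∈ H5.locIdeal M) : False := by
  have on := h.Ph_on hη hη1 hμ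
  have a : ⟪Ph t P S η μ, (Reg 2 G).indicator (sh t χ)⟫[𝒞[t]] ≠ 0 := by
    have b := sec_left h.two.ha (mem_top t) (top_inf_eq _).symm (α := Ph t P S η μ)
      (Irr_inv (hd.sub hχ))
    rw [cfdot_congr_of_supp (ψ' := sh t χ) on.2 fun x hx _ => Set.indicator_of_mem hx _,
      Ne, cfdot_eq_zero_comm, ← b, cfdot_eq_zero_comm]
    have := hd.sign 0 χ hχ
    simp only [FF, Fin.val_zero, pow_zero, cfConj_one] at this
    rcases this with e | e <;> rw [e] <;> norm_num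
  obtain ⟨ξ, hξ, a1, a2⟩ := exists_common_Irr on.1 a
  have e := h.of_const hη hη1 hμ hμ1 hξ a1
  have e1 : ∀ y ∈ Reg 2 G, 4 * ξ y = Ph t P S η μ y := fun y hy => by
    rw [← e, Pi.smul_apply, Set.indicator_of_mem hy, smul_eq_mul]
  have k : ∀ s ∈ fs (nt S), -(q / 4 : ℂ) * (∑ j : Fin 3, Ps t v S (cfConj (w ^ (j : ℕ)) μ) s) *
      conj (μ s) ∈ H5.locIdeal M := fun s hs => by
    obtain ⟨s1, s2⟩ := mem_fs.1 hs
    refine H5.locIdeal_mul_right ?_ (H5.mem_locRing_of_isIntegral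
      (ZIrr_isIntegral (ZIrr_star (Irr_mem_ZIrr hμ)) s))
    have b := add_mem (link (M := M) ⟨1, h.two.ha⟩ (hd.sub hχ) hξ a2 s) (h0 s s1 s2)
    rw [sub_add_cancel, h.icc hξ s1 s2] at b
    convert b using 1
    have c1 := e1 1 one_reg
    rw [h.Ph_one hη hη1 hμ] at c1
    have c2 : ∀ j : Fin 3, Ps t v S (cfConj (w ^ (j : ℕ)) μ) s = -4 * cfConj (w ^ (j : ℕ)) ξ s :=
      fun j => by
        have m1 := (mem_normalizer_iff.1 (inv_mem (h.wS j)) s).1 s1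
        rw [inv_inv] at m1
        have := e1 _ (reg_of_odd h.oddS m1)
        rw [h.Ph_S hη hη1 m1 (fun e => s2 (by simpa [mul_assoc, inv_mul_eq_one] using e))] at this
        rw [← h.conj_Ps, cfConj_apply, cfConj_apply]
        linear_combination this
    have := h.f_ne; have := h.q1_ne
    rw [Finset.sum_congr rfl fun j _ => c2 j, ← Finset.mul_sum, show ξ 1 = f * (q - 1) by
      linear_combination c1 / 4]
    field_simp
  have k1 := sum_mem k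
  have k2 : ∀ j : Fin 3, ∑ s ∈ fs (nt S), Ps t v S (cfConj (w ^ (j : ℕ)) μ) s * conj (μ s) =
      m * (if j = 0 then 4 else 0) - 8 * f := fun j => by
    have b := h.Ps_Ps hμ hμ1 j 0
    rw [Fin.val_zero, pow_zero, cfConj_one, cfdot_Ind_right (ψ := Ps t v S _) h.normalS.le _
      (Ind_mem_CF _ _ _).2, cfdot, ← sum_fs_nt_add, h.Ps_one (h.mu_mem hμ hμ1 j), (h.lin hμ).2, h.cardS] at b
    rw [← b, mul_inv_cancel_left₀ h.m_ne]; simp
  simp only [mul_assoc, ← Finset.mul_sum, Finset.sum_mul] at k1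
  rw [Finset.sum_comm, Finset.sum_congr rfl fun j _ => k2 j, Fin.sum_univ_three] at k1
  have k3 : ((-q * (m - 6 * f) : ℤ) : ℂ) ∈ H5.locIdeal M := by
    convert k1 using 1
    simp only [Fin.reduceEq, if_true, if_false]; push_cast; ring
  have k4 := H5.intCast_mem_locIdeal_iff.1 k3
  obtain ⟨a, ha⟩ := h.oddm
  have := h.qm
  rcases Int.prime_two.dvd_or_dvd k4 with b | b <;> omega

theorem orth_all (hξ : ξ ∈ Irr 𝒞[t]) :
    ⟪(Reg 2 G).indicator (sh t (∑ ψ ∈ T, ψ)), ξ⟫[𝒞[t]] = 0 := by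
  by_cases c1 : ∃ ν ∈ Irr S, ν ≠ cf1 S ∧ ⟪Ph t P S η ν, ξ⟫[𝒞[t]] ≠ 0
  · obtain ⟨ν, hν, h1, h0⟩ := c1
    refine h.orth_smul hη hη1 hμ hμ1 hd (c := 4) (by norm_num) ?_
    rw [h.of_const hη hη1 hν h1 hξ h0]
    by_cases c2 : ∃ j : Fin 3, Ps t v S (cfConj (w ^ (j : ℕ)) μ) = Ps t v S ν
    · obtain ⟨j, e⟩ := c2
      rw [← h.Ph_congr e]; exact hd.orth j
    · refine h.orth_of hη hη1 hμ hμ1 hd (h.Ph_mem hη hη1 hν) (h.Ph_on hη hη1 hν).2 (n := 4)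
        (by rw [h.Ph_Ph hη hη1 hν hν, h.Ps_self hν h1]; norm_num) le_rfl fun j => ?_
      rw [h.Ph_Ph hη hη1 (h.mu_mem hμ hμ1 j) hν]
      exact cfdot_Ind_of_ne h.normalS hν (h.mu_mem hμ hμ1 j) fun e => c2 ⟨j, e⟩
  push Not at c1
  by_cases c2 : 4 ∣ deg ξ
  · obtain ⟨z, n, h4, hn⟩ := h.of_four hξ c2
    refine h.orth_smul hη hη1 hμ hμ1 hd (c := 2) (by norm_num) (h.orth_of hη hη1 hμ hμ1 hd z
      (Submodule.smul_mem _ _ fun x hx => Set.indicator_of_notMem hx _) (n := n)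
      (by rw [cfdot_self, hn]; norm_num) h4 fun j => ?_)
    rw [cfdot_smul_right, cfdot_congr_of_supp (ψ' := ξ) (h.Ph_on hη hη1 (h.mu_mem hμ hμ1 j)).2
      fun x hx _ => Set.indicator_of_mem hx _, c1 _ (h.mu_mem hμ hμ1 j) (h.mu_ne hμ hμ1 j), mul_zero]
  by_contra h0
  obtain ⟨χ, hχ, h1⟩ : ∃ χ ∈ T, ⟪(Reg 2 G).indicator (sh t χ), ξ⟫[𝒞[t]] ≠ 0 := by
    by_contra a
    push Not at a
    rw [cfdot_reg, map_sum, cfdot_sum_left] at h0
    exact h0 (Finset.sum_eq_zero fun χ hχ => by rw [← cfdot_reg, a χ hχ])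
  obtain ⟨M, hM⟩ := H3.exists_isPModular Nat.prime_two
  have : H5.PMod 2 M := ⟨hM⟩
  obtain ⟨b, k, e, hb⟩ := h.of_orth hη hη1 hξ c1
  refine h.not_mem hη hη1 hμ hμ1 hd (M := M) hχ fun s s1 s2 => ?_
  have a := link (M := M) ⟨1, h.two.ha⟩ (hd.sub hχ) hξ h1 s
  suffices inducedCentralChar 𝒞[t] (fun y => ξ y) s ∈ H5.locIdeal M by
    simpa using sub_mem this a
  rw [h.icc hξ s1 s2, Finset.sum_congr rfl (g := fun _ => (b : ℂ)) fun j _ => by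
    have m1 := (mem_normalizer_iff.1 (inv_mem (h.wS j)) s).1 s1
    rw [inv_inv] at m1
    exact hb _ m1 fun e => s2 (by simpa [mul_assoc, inv_mul_eq_one] using e), ← Irr_deg_cast hξ]
  have r : (b : ℂ) / deg ξ ∈ H5.locRing M := by
    rcases Nat.even_or_odd' (deg ξ) with ⟨d, a | a⟩
    · obtain ⟨b', rfl⟩ : ∃ b', b = 2 * b' := ⟨d - k, by omega⟩
      rw [a]; push_cast
      rw [mul_div_mul_left _ _ two_ne_zero, div_eq_mul_inv]
      exact mul_mem (intCast_mem _ _) (H5.inv_natCast_mem (p := 2) (by omega))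
    · exact mul_mem (intCast_mem _ _) (H5.inv_natCast_mem (p := 2) (by omega))
  convert H5.locIdeal_mul_right (H5.p_mem_locIdeal (p := 2) (M := M))
    (mul_mem (intCast_mem _ (3 * f * q * (2 * m - 1))) r) using 1
  rw [Fin.sum_univ_three]; push_cast; rw [h.qmC]; ring

theorem X_tu : (∑ ψ ∈ T, ψ) (t * u) = 0 := by
  have uH := h.PH h.uP
  have a : (Reg 2 G).indicator (sh t (Res 𝒞[t] (∑ ψ ∈ T, ψ))) = 0 :=
    CF_ext_Irr (reg_mem_CF 2 (sh_mem_CF h.tH le_rfl (Res_mem_CF le_top (ZIrr_mem_CF hd.X_mem))))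
      (zero_mem _) fun ξ hξ => by
        rw [cfdot_zero_left, ← h.orth_all hη hη1 hμ hμ1 hd hξ]
        exact cfdot_congr (fun y hy => by
          simp only [Set.indicator_apply, sh_apply, Res_of_mem (mul_mem h.tH hy)]) fun _ _ => rfl
  have := congrFun a u
  rwa [Set.indicator_of_mem (reg_of_odd h.oddP h.uP), sh_apply, Res_of_mem (mul_mem h.tH uH)] at this

end CH

theorem CH.false (h : CH t v w u E B P S K q m f) : False := by
  obtain ⟨η, hη, hη1⟩ := exists_Irr_ne (L := P) fun e => h.u1 (mem_bot.1 (e ▸ h.uP))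
  obtain ⟨s, s1, s2⟩ := h.exists_s
  obtain ⟨μ, hμ, hμ1⟩ := exists_Irr_ne (L := S) fun e => s2 (mem_bot.1 (e ▸ s1))
  obtain ⟨T, hd⟩ := h.exists_T hη hη1 hμ hμ1
  have ur := reg_of_odd h.oddP h.uP
  refine hd.false_of (c := ((∑ ψ ∈ T, ψ) u / (4 * f)) ^ 2) fun χ hχ => ?_
  have a := hd.apply hχ (t * u)
  have c : ∀ j, FF t w P S η μ j (t * u) = -(4 * f) := fun j =>
    (sec_apply h.two.ha (mem_top t) (top_inf_eq _).symm (h.Ph_on hη hη1 (h.mu_mem hμ hμ1 j))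
      (h.PH h.uP) ur).trans (h.Ph_P hη hη1 h.uP h.u1)
  rw [h.X_tu hη hη1 hμ hμ1 hd, zero_add, Finset.sum_congr rfl fun j _ => by rw [c j],
    ← Finset.sum_mul, ← mem_cent1.1 (h.PH h.uP)] at a
  have b := hd.eq_on hχ fun j => h.F_reg hη hη1 hμ hμ1 j ur
  have := h.f_ne
  rcases h.ku.val_mul h.two.ha ((IsPGroup.iff_orderOf.1 h.P3 ⟨u, h.uP⟩).imp fun k e => by
    rwa [← orderOf_coe] at e) (hd.sub hχ) with e | e
  · left
    rw [e, mul_zero] at a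
    exact (mul_eq_zero.1 a.symm).resolve_right (by simpa)
  · right
    rw [← b]; field_simp
    linear_combination e - (χ (u * t) / 4 - f * (∑ i, ⟪FF t w P S η μ i, χ⟫[⊤]) / 4) * a

end Cfsg.Agent.RE
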