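import Cfsg.Agent.Lib.RE.Defs

/-!
# Shifts by central involutions, three orthogonal virtual characters of norm four
-/

set_option autoImplicit false
set_option linter.unusedVariables false
set_option linter.unusedSectionVars false

namespace Cfsg.Agent.RE

open Subgroup Cfsg.Agent.FT
open scoped ComplexConjugate Classical

variable {G : Type*} [Group G] {K L : Subgroup G} {z x : G} {a φ ψ χ ξ : G → ℂ}

/-- `x ↦ φ (z x)` -/
def sh (z : G) : (G → ℂ) →ₗ[ℂ] (G → ℂ) where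
  toFun φ x := φ (z * x)
  map_add' _ _ := rfl
  map_smul' _ _ := rfl

theorem sh_apply (x : G) : sh z φ x = φ (z * x) := rfl

theorem sh_sh (h2 : z * z = 1) : sh z (sh z φ) = φ := by
  funext x; rw [sh_apply, sh_apply, ← mul_assoc, h2, one_mul]

theorem sh_mem_CF (hz : z ∈ L) (hc : L ≤ 𝒞[z]) (h : φ ∈ CF L) : sh z φ ∈ CF L :=
  ⟨fun x hx => CF_eq_zero h fun e => hx ((L.mul_mem_cancel_left hz).1 e), fun y hy x => by
    rw [sh_apply, sh_apply, ← CF_conj h hy (z * x), ← mul_assoc, ← mul_assoc,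
      ← mem_cent1.1 (hc hy), mul_assoc y z x]⟩

variable [Finite G]

theorem cfdot_sh (hz : z ∈ L) : ⟪sh z φ, sh z ψ⟫[L] = ⟪φ, ψ⟫[L] := by
  unfold cfdot
  rw [← sum_fs_mul_left hz fun x => φ x * conj (ψ x)]
  rfl

theorem cfdot_sh_left (hz : z ∈ L) (h2 : z * z = 1) : ⟪sh z φ, ψ⟫[L] = ⟪φ, sh z ψ⟫[L] := by
  rw [← cfdot_sh (φ := φ) hz, sh_sh h2]

theorem sh_Irr (hξ : ξ ∈ Irr L) (hz : z ∈ L) (hc : L ≤ 𝒞[z]) (h2 : z * z = 1) :
    sh z ξ = ξ ∨ sh z ξ = -ξ := by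
  have h := (mem_Irr.1 hξ).2
  obtain ⟨ω, -, hω⟩ := H3.IsCharacter_mul_of_norm_eq (H3.IsIrrCharacter_isCharacter h)
    (H3.IsIrrCharacter_norm_eq_of_mem_center h (z := ⟨z, hz⟩)
      (mem_center_iff.2 fun g => Subtype.ext (mem_cent1.1 (hc g.2))))
  have e : sh z ξ = ω • ξ := by
    funext x
    by_cases hx : x ∈ L
    · exact hω ⟨x, hx⟩
    · rw [CF_eq_zero (sh_mem_CF hz hc (Irr_mem_CF hξ)) hx, Pi.smul_apply, Irr_supp hξ x hx,
        smul_zero]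
  have e2 : ω * ω = 1 := by
    have := congrFun (sh_sh (φ := ξ) h2) 1
    rw [e, map_smul, e, smul_smul, Pi.smul_apply, smul_eq_mul] at this
    exact mul_right_cancel₀ (Irr_one_ne_zero hξ) (by rw [this, one_mul])
  rcases mul_self_eq_one_iff.1 e2 with rfl | rfl
  · left; rw [e, one_smul]
  · right; rw [e, neg_smul, one_smul]

/-- `φ ∈ 2 ℤ[Irr L]` -/
def Ev (L : Subgroup G) (φ : G → ℂ) : Prop := ∃ θ ∈ ZIrr L, φ = (2 : ℂ) • θ

theorem ZIrr_two (h : φ ∈ ZIrr L) : (2 : ℂ) • φ ∈ ZIrr L := by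
  simpa using ZIrr_natCast_smul h 2

theorem Ev.mem (h : Ev L φ) : φ ∈ ZIrr L := by
  obtain ⟨θ, h1, rfl⟩ := h; exact ZIrr_two h1

theorem ev_two (h : φ ∈ ZIrr L) : Ev L ((2 : ℂ) • φ) := ⟨φ, h, rfl⟩

theorem ev_zero : Ev L (0 : G → ℂ) := ⟨0, zero_mem _, by simp⟩

theorem Ev.add (h : Ev L φ) (h' : Ev L ψ) : Ev L (φ + ψ) := by
  obtain ⟨θ, h1, rfl⟩ := h; obtain ⟨θ', h2, rfl⟩ := h'
  exact ⟨θ + θ', add_mem h1 h2, (smul_add _ _ _).symm⟩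

theorem Ev.neg (h : Ev L φ) : Ev L (-φ) := by
  obtain ⟨θ, h1, rfl⟩ := h
  exact ⟨-θ, neg_mem h1, (smul_neg _ _).symm⟩

theorem Ev.sub (h : Ev L φ) (h' : Ev L ψ) : Ev L (φ - ψ) := by
  rw [sub_eq_add_neg]; exact h.add h'.neg

theorem Ev.ind (h : Ev K φ) (hK : K ≤ L) : Ev L (Ind K L φ) := by
  obtain ⟨θ, h1, rfl⟩ := h
  exact ⟨_, ZIrr_Ind h1 hK, map_smul _ _ _⟩

theorem Ev.cfdot (h : Ev L φ) (hψ : ψ ∈ ZIrr L) : ∃ n : ℤ, ⟪φ, ψ⟫[L] = 2 * n := by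
  obtain ⟨θ, h1, rfl⟩ := h
  obtain ⟨n, hn⟩ := ZIrr_cfdot h1 hψ
  exact ⟨n, by rw [cfdot_smul_left, hn]⟩

theorem ev_sh (h : φ ∈ ZIrr L) (hz : z ∈ L) (hc : L ≤ 𝒞[z]) (h2 : z * z = 1) :
    Ev L (φ - sh z φ) := by
  induction h using Submodule.span_induction with
  | mem ξ hξ =>
    rcases sh_Irr hξ hz hc h2 with e | e <;> rw [e]
    · rw [sub_self]; exact ev_zero
    · rw [sub_neg_eq_add, ← two_smul ℂ]; exact ev_two (Irr_mem_ZIrr hξ)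
  | zero => rw [map_zero, sub_self]; exact ev_zero
  | add a b _ _ ha hb => rw [map_add, add_sub_add_comm]; exact ha.add hb
  | smul n a _ ha =>
    obtain ⟨θ, h1, e⟩ := ha
    exact ⟨n • θ, Submodule.smul_mem _ n h1, by rw [map_zsmul, ← smul_sub, e, smul_comm]⟩

theorem sh_mem_ZIrr (h : φ ∈ ZIrr L) (hz : z ∈ L) (hc : L ≤ 𝒞[z]) (h2 : z * z = 1) :
    sh z φ ∈ ZIrr L := by
  have := sub_mem h (ev_sh h hz hc h2).mem
  rwa [sub_sub_cancel] at this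

theorem exists_co (h : φ ∈ ZIrr L) : ∃ c : (G → ℂ) → ℤ, (∀ χ ∈ Irr L, ⟪φ, χ⟫[L] = c χ) ∧
    ⟪φ, φ⟫[L] = ((∑ χ ∈ Irr L, c χ ^ 2 : ℤ) : ℂ) := by
  choose! c hc using (mem_ZIrr_iff.1 h).2
  refine ⟨c, hc, ?_⟩
  rw [cfdot_eq_sum_Irr (ZIrr_mem_CF h)]
  push_cast
  exact Finset.sum_congr rfl fun χ hχ => by rw [hc χ hχ, map_intCast, sq]

theorem norm_four (h : φ ∈ ZIrr L) (h4 : ⟪φ, φ⟫[L] = 4) (h1 : φ 1 = 0) (hχ : χ ∈ Irr L) :
    ⟪φ, χ⟫[L] = 0 ∨ ⟪φ, χ⟫[L] = 1 ∨ ⟪φ, χ⟫[L] = -1 := by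
  obtain ⟨c, hc, hn⟩ := exists_co h
  have h5 : ∑ χ ∈ Irr L, c χ ^ 2 = 4 := by rw [h4] at hn; exact_mod_cast hn.symm
  have h6 : c χ ^ 2 ≤ 4 := h5 ▸ Finset.single_le_sum (fun _ _ => sq_nonneg _) hχ
  have h7 : c χ ^ 2 ≠ 4 := fun e => by
    have e1 : ((c χ : ℂ)) ^ 2 = 4 := by exact_mod_cast e
    have e2 : φ - (c χ : ℂ) • χ = 0 := eq_zero_of_cfdot_self
      (sub_mem (ZIrr_supp h) (Submodule.smul_mem _ _ (Irr_supp hχ))) (by
        simp only [cfdot_sub_left, cfdot_sub_right, cfdot_smul_left, cfdot_smul_right, h4, hc χ hχ,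
          cfdot_comm_of_int (hc χ hχ), cfdot_Irr_self hχ, map_intCast]
        linear_combination -e1)
    have e3 := congrFun e2 1
    simp only [Pi.sub_apply, h1, Pi.smul_apply, smul_eq_mul, zero_sub, Pi.zero_apply, neg_eq_zero,
      mul_eq_zero, Irr_one_ne_zero hχ, or_false] at e3
    rw [e3] at e1; norm_num at e1
  rw [hc χ hχ]
  have : c χ = 0 ∨ c χ = 1 ∨ c χ = -1 := by
    have a1 : c χ < 2 := by nlinarith [lt_of_le_of_ne h6 h7]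
    have a2 : -2 < c χ := by nlinarith [lt_of_le_of_ne h6 h7]
    omega
  rcases this with e | e | e <;> simp [e]

/-- Four irreducible characters and three rows of a Hadamard matrix. -/
structure HD (L : Subgroup G) (F : Fin 3 → G → ℂ) (T : Finset (G → ℂ)) : Prop where
  mem : ∀ i, F i ∈ ZIrr L
  norm : ∀ i j, ⟪F i, F j⟫[L] = if i = j then 4 else 0
  sub : T ⊆ Irr L
  card : T.card = 4
  sign : ∀ i, ∀ χ ∈ T, ⟪F i, χ⟫[L] = 1 ∨ ⟪F i, χ⟫[L] = -1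
  out : ∀ i, ∀ χ ∈ Irr L, χ ∉ T → ⟪F i, χ⟫[L] = 0
  inv : ∀ χ ∈ T, (4 : ℂ) • χ = ∑ ψ ∈ T, ψ + ∑ i, ⟪F i, χ⟫[L] • F i

variable {F : Fin 3 → G → ℂ} {T : Finset (G → ℂ)}

theorem cfdot_eq_sum_of_out (h : φ ∈ CF L) (hT : T ⊆ Irr L)
    (h0 : ∀ χ ∈ Irr L, χ ∉ T → ⟪φ, χ⟫[L] = 0) (ψ : G → ℂ) :
    ⟪φ, ψ⟫[L] = ∑ χ ∈ T, ⟪φ, χ⟫[L] * conj ⟪ψ, χ⟫[L] := by
  rw [cfdot_eq_sum_Irr h]
  exact (Finset.sum_subset hT fun χ h1 h2 => by rw [h0 χ h1 h2, zero_mul]).symm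

theorem exists_hd (hZ : ∀ i, F i ∈ ZIrr L) (hn : ∀ i j, ⟪F i, F j⟫[L] = if i = j then 4 else 0)
    (he : ∀ i, Ev L (F i - F 0)) (h1 : ∀ i, F i 1 = 0) : ∃ T, HD L F T := by
  set T := (Irr L).filter fun χ => ⟪F 0, χ⟫[L] ≠ 0 with hT
  have hs : T ⊆ Irr L := Finset.filter_subset _ _
  have k := fun i χ hχ => norm_four (hZ i) (by rw [hn, if_pos rfl]) (h1 i) (χ := χ) hχ
  have par : ∀ i, ∀ χ ∈ Irr L, (⟪F i, χ⟫[L] = 0 ↔ ⟪F 0, χ⟫[L] = 0) := fun i χ hχ => by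
    obtain ⟨n, e⟩ := (he i).cfdot (Irr_mem_ZIrr hχ)
    rw [cfdot_sub_left] at e
    have b1 : ∀ n : ℤ, (1 : ℂ) ≠ 2 * n := fun n e => by
      have : (1 : ℤ) = 2 * n := by exact_mod_cast e
      omega
    rcases k i χ hχ with a | a | a <;> rcases k 0 χ hχ with b | b | b <;> rw [a, b] at e ⊢ <;>
      first
      | simp; done
      | exact absurd (by linear_combination e) (b1 n)
      | exact absurd (by push_cast; linear_combination -e) (b1 (-n))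
  have sg : ∀ i, ∀ χ ∈ T, ⟪F i, χ⟫[L] = 1 ∨ ⟪F i, χ⟫[L] = -1 := fun i χ hχ =>
    (k i χ (hs hχ)).resolve_left fun e => (Finset.mem_filter.1 hχ).2 ((par i χ (hs hχ)).1 e)
  have ou : ∀ i, ∀ χ ∈ Irr L, χ ∉ T → ⟪F i, χ⟫[L] = 0 := fun i χ h2 h3 =>
    (par i χ h2).2 (by by_contra e; exact h3 (Finset.mem_filter.2 ⟨h2, e⟩))
  set e : Fin 3 → (G → ℂ) → ℂ := fun i χ => ⟪F i, χ⟫[L] with he'
  have sq : ∀ i, ∀ χ ∈ T, e i χ * e i χ = 1 := fun i χ hχ => by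
    rcases sg i χ hχ with a | a <;> simp [he', a]
  have cj : ∀ i, ∀ χ ∈ T, conj (e i χ) = e i χ := fun i χ hχ => by
    rcases sg i χ hχ with a | a <;> simp [he', a]
  have gram : ∀ i j, ∑ χ ∈ T, e i χ * e j χ = if i = j then 4 else 0 := fun i j => by
    rw [← hn, cfdot_eq_sum_of_out (ZIrr_mem_CF (hZ i)) hs (ou i)]
    exact Finset.sum_congr rfl fun χ hχ => by rw [cj j χ hχ]
  have hc : (T.card : ℂ) = 4 := by
    have := gram 0 0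
    rwa [Finset.sum_congr rfl (sq 0), if_pos rfl, Finset.sum_const, nsmul_eq_mul, mul_one] at this
  set s : (G → ℂ) → ℂ := fun χ => e 0 χ * e 1 χ * e 2 χ with hs'
  have ss : ∀ χ ∈ T, s χ * s χ = 1 := fun χ hχ => by
    have := sq 0 χ hχ; have := sq 1 χ hχ; have := sq 2 χ hχ
    simp only [hs']; grind
  have cs : ∀ χ ∈ T, conj (s χ) = s χ := fun χ hχ => by simp only [hs', map_mul, cj _ χ hχ]
  set X := ∑ χ ∈ T, s χ • χ with hX
  have on : FT.IsON L T := (isON_Irr L).mono hs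
  have x1 : ∀ χ ∈ T, ⟪X, χ⟫[L] = s χ := fun χ hχ => on.cfdot_sum s hχ
  have x1' : ∀ χ ∈ T, ⟪χ, X⟫[L] = s χ := fun χ hχ => by rw [← conj_cfdot, x1 χ hχ, cs χ hχ]
  have e' : ∀ i, ∀ χ ∈ T, ⟪χ, F i⟫[L] = e i χ := fun i χ hχ => by
    rw [← conj_cfdot]; exact cj i χ hχ
  have x2 : ⟪X, X⟫[L] = 4 := by
    nth_rewrite 1 [hX]
    rw [cfdot_sum_left, ← hc, Finset.card_eq_sum_ones, Nat.cast_sum]
    exact Finset.sum_congr rfl fun χ hχ => by rw [cfdot_smul_left, x1' χ hχ, ss χ hχ, Nat.cast_one]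
  have x3 : ∀ i, ⟪X, F i⟫[L] = 0 := fun i => by
    rw [hX, cfdot_sum_left]
    have g12 := gram 1 2; have g02 := gram 0 2; have g01 := gram 0 1
    simp only [Fin.reduceEq, if_false] at g12 g02 g01
    fin_cases i
    · rw [← g12]; exact Finset.sum_congr rfl fun χ hχ => by
        rw [cfdot_smul_left, e' _ χ hχ]; have := sq 0 χ hχ; simp only [hs']
        change _ * e 0 χ = _; grind
    · rw [← g02]; exact Finset.sum_congr rfl fun χ hχ => by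
        rw [cfdot_smul_left, e' _ χ hχ]; have := sq 1 χ hχ; simp only [hs']
        change _ * e 1 χ = _; grind
    · rw [← g01]; exact Finset.sum_congr rfl fun χ hχ => by
        rw [cfdot_smul_left, e' _ χ hχ]; have := sq 2 χ hχ; simp only [hs']
        change _ * e 2 χ = _; grind
  have x4 : ∀ i, ⟪F i, X⟫[L] = 0 := fun i => cfdot_symm_zero (x3 i)
  have Xs : X ∈ supp (L : Set G) :=
    Submodule.sum_mem _ fun χ hχ => Submodule.smul_mem _ _ (Irr_supp (hs hχ))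
  have key : ∀ χ ∈ T, (4 : ℂ) • χ = s χ • X + ∑ i, e i χ • F i := fun χ hχ => by
    refine sub_eq_zero.1 (eq_zero_of_cfdot_self (L := L) (sub_mem (Submodule.smul_mem _ _
      (Irr_supp (hs hχ))) (add_mem (Submodule.smul_mem _ _ Xs) (Submodule.sum_mem _ fun i _ =>
        Submodule.smul_mem _ _ (ZIrr_supp (hZ i))))) ?_)
    have := sq 0 χ hχ; have := sq 1 χ hχ; have := sq 2 χ hχ; have := ss χ hχ
    have c4 : conj (4 : ℂ) = 4 := map_ofNat _ 4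
    simp only [Fin.sum_univ_three, cfdot_sub_left, cfdot_sub_right, cfdot_add_left, cfdot_add_right,
      cfdot_smul_left, cfdot_smul_right, x1 χ hχ, x1' χ hχ, e' _ χ hχ, x2, x3, x4, hn,
      cfdot_Irr_self (hs hχ), cj _ χ hχ, cs χ hχ, c4, Fin.reduceEq, if_true, if_false]
    change 4 * (4 * 1 - (s χ * s χ + (e 0 χ * e 0 χ + e 1 χ * e 1 χ + e 2 χ * e 2 χ))) - _ = 0
    grind
  have k1 : ∀ χ ∈ T, (4 : ℂ) * deg χ = s χ * X 1 := fun χ hχ => by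
    have := congrFun (key χ hχ) 1
    simpa [h1, Irr_deg_cast (hs hχ)] using this
  have k2 : ∀ χ ∈ T, ∀ ψ ∈ T, s χ = s ψ := fun χ hχ ψ hψ => by
    have a1 := k1 χ hχ; have a2 := k1 ψ hψ
    rcases mul_self_eq_one_iff.1 (ss χ hχ) with b | b <;>
      rcases mul_self_eq_one_iff.1 (ss ψ hψ) with c | c <;> rw [b, c] <;> rw [b] at a1 <;>
      rw [c] at a2 <;> exfalso <;>
      have a3 : (deg χ : ℂ) + deg ψ = 0 := by linear_combination (a1 + a2) / 4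
    all_goals
      have a4 : deg χ + deg ψ = 0 := by exact_mod_cast a3
      have := Irr_deg_pos (hs hχ); omega
  refine ⟨T, hZ, hn, hs, by exact_mod_cast hc, sg, ou, fun χ hχ => ?_⟩
  rw [key χ hχ, hX, Finset.smul_sum]
  congr 1
  exact Finset.sum_congr rfl fun ψ hψ => by rw [smul_smul, k2 ψ hψ χ hχ, ss χ hχ, one_smul]

namespace HD

variable (h : HD L F T)
include h

theorem X_mem : ∑ ψ ∈ T, ψ ∈ ZIrr L := Submodule.sum_mem _ fun χ hχ => Irr_mem_ZIrr (h.sub hχ)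

theorem nonempty : T.Nonempty := Finset.card_pos.1 (by rw [h.card]; norm_num)

theorem X_one : (∑ ψ ∈ T, ψ) 1 ≠ 0 := fun e => by
  obtain ⟨χ, hχ⟩ := h.nonempty
  rw [Finset.sum_apply, Finset.sum_congr rfl fun ψ hψ => (Irr_deg_cast (h.sub hψ)).symm,
    ← Nat.cast_sum, Nat.cast_eq_zero, Finset.sum_eq_zero_iff] at e
  exact (Irr_deg_pos (h.sub hχ)).ne' (e χ hχ)

theorem apply (hχ : χ ∈ T) (x : G) :
    4 * χ x = (∑ ψ ∈ T, ψ) x + ∑ i, ⟪F i, χ⟫[L] * F i x := by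
  simpa [Finset.sum_apply] using congrFun (h.inv χ hχ) x

theorem eq_on (hχ : χ ∈ T) (hx : ∀ i, F i x = 0) : 4 * χ x = (∑ ψ ∈ T, ψ) x := by
  rw [h.apply hχ]; simp [hx]

theorem coef (hχ : χ ∈ T) (ha : ∀ i, ⟪F i, a⟫[L] = 0) : 4 * ⟪χ, a⟫[L] = ⟪∑ ψ ∈ T, ψ, a⟫[L] := by
  rw [← cfdot_smul_left, h.inv χ hχ, cfdot_add_left, cfdot_sum_left (s := Finset.univ)]
  simp [ha]

theorem orth (i : Fin 3) : ⟪∑ ψ ∈ T, ψ, F i⟫[L] = 0 := by
  obtain ⟨χ, hχ⟩ := h.nonempty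
  have := congrArg (fun φ => ⟪φ, F i⟫[L]) (h.inv χ hχ)
  simp only [cfdot_smul_left, cfdot_add_left, cfdot_sum_left (s := Finset.univ), h.norm, mul_ite,
    mul_zero, Finset.sum_ite_eq', Finset.mem_univ, if_true,
    ZIrr_cfdot_comm (Irr_mem_ZIrr (h.sub hχ)) (h.mem i)] at this
  linear_combination -this

/-- A virtual character orthogonal to the `F i`. -/
theorem cases (ha : a ∈ ZIrr L) (h0 : ∀ i, ⟪F i, a⟫[L] = 0) {n : ℕ} (hn : ⟪a, a⟫[L] = n)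
    (h4 : n ≤ 4) : (∀ χ ∈ T, ⟪χ, a⟫[L] = 0) ∨ a = ∑ ψ ∈ T, ψ ∨ a = -∑ ψ ∈ T, ψ := by
  obtain ⟨χ, hχ⟩ := h.nonempty
  obtain ⟨k, hk⟩ := ZIrr_cfdot (Irr_mem_ZIrr (h.sub hχ)) ha
  have h1 : ∀ ψ ∈ T, ⟪ψ, a⟫[L] = k := fun ψ hψ => by
    have := (h.coef hψ h0).trans (h.coef hχ h0).symm
    linear_combination this / 4 + hk
  have h2 : ⟪∑ ψ ∈ T, ψ, a⟫[L] = 4 * k := by rw [← h.coef hχ h0, hk]
  have h3 : ⟪∑ ψ ∈ T, ψ, ∑ ψ ∈ T, ψ⟫[L] = 4 := by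
    rw [cfdot_self, ((isON_Irr L).mono h.sub).cfnorm_sum_one, h.card]; norm_num
  have hb := sub_mem ha (ZIrr_intCast_smul h.X_mem k)
  have h5 : ⟪a - (k : ℂ) • ∑ ψ ∈ T, ψ, a - (k : ℂ) • ∑ ψ ∈ T, ψ⟫[L] = n - 4 * k ^ 2 := by
    simp only [cfdot_sub_left, cfdot_sub_right, cfdot_smul_left, cfdot_smul_right, hn, h2, h3,
      ZIrr_cfdot_comm ha h.X_mem, map_intCast]
    ring
  obtain ⟨l, hl⟩ := ZIrr_cfnorm hb
  rw [cfdot_self, hl] at h5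
  have h6 : (l : ℤ) = n - 4 * k ^ 2 := by exact_mod_cast h5
  have h7 : k = 0 ∨ k = 1 ∨ k = -1 := by
    have a1 : k < 2 := by nlinarith
    have a2 : -2 < k := by nlinarith
    omega
  have h8 : k ≠ 0 → a = (k : ℂ) • ∑ ψ ∈ T, ψ := fun e => sub_eq_zero.1
    (eq_zero_of_cfnorm (ZIrr_supp hb) (by
      have : l = 0 := by rcases h7 with e' | e' | e' <;> rw [e'] at h6 <;> omega
      rw [hl, this, Nat.cast_zero]))
  rcases h7 with e | e | e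
  · exact Or.inl fun ψ hψ => by rw [h1 ψ hψ, e, Int.cast_zero]
  · right; left; rw [h8 (by omega), e]; simp
  · right; right; rw [h8 (by omega), e]; simp

theorem orth_of_one (ha : a ∈ ZIrr L) (h0 : ∀ i, ⟪F i, a⟫[L] = 0) {n : ℕ} (hn : ⟪a, a⟫[L] = n)
    (h4 : n ≤ 4) (h1 : a 1 = 0) : ⟪∑ ψ ∈ T, ψ, a⟫[L] = 0 := by
  rcases h.cases ha h0 hn h4 with e | e | e
  · rw [cfdot_sum_left]; exact Finset.sum_eq_zero e
  · exact absurd (e ▸ h1) h.X_one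
  · exact absurd (neg_eq_zero.1 (by rw [e] at h1; exact h1)) h.X_one

/-- The row sums are odd and not all of the same absolute value. -/
theorem false_of {c : ℂ} (hc : ∀ χ ∈ T, ∑ i, ⟪F i, χ⟫[L] = 0 ∨ (∑ i, ⟪F i, χ⟫[L]) ^ 2 = c) :
    False := by
  have h1 : ∀ χ ∈ T, (∑ i, ⟪F i, χ⟫[L]) ^ 2 = c ∧ (c = 1 ∨ c = 9) := fun χ hχ => by
    have := hc χ hχ
    rw [Fin.sum_univ_three] at this ⊢
    rcases h.sign 0 χ hχ with a | a <;> rcases h.sign 1 χ hχ with b | b <;>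
      rcases h.sign 2 χ hχ with d | d <;> rw [a, b, d] at this ⊢ <;> norm_num at this ⊢ <;>
      simp [← this]
  have hm : ∑ i, F i ∈ ZIrr L := Submodule.sum_mem _ fun i _ => h.mem i
  have h2 : ⟪∑ i, F i, ∑ i, F i⟫[L] = 12 := by
    simp only [Fin.sum_univ_three, cfdot_add_left, cfdot_add_right, h.norm, Fin.reduceEq, if_true,
      if_false]
    norm_num
  rw [cfdot_eq_sum_of_out (ZIrr_mem_CF hm) h.sub (fun χ a b => by
    rw [cfdot_sum_left]; exact Finset.sum_eq_zero fun i _ => h.out i χ a b),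
    Finset.sum_congr rfl (g := fun _ => c) fun χ hχ => by
      rw [conj_cfdot, ← ZIrr_cfdot_comm hm (Irr_mem_ZIrr (h.sub hχ)), cfdot_sum_left, ← sq,
        (h1 χ hχ).1], Finset.sum_const, h.card] at h2
  obtain ⟨χ, hχ⟩ := h.nonempty
  rcases (h1 χ hχ).2 with e | e <;> rw [e] at h2 <;> norm_num at h2

end HD

end Cfsg.Agent.RE
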