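import Cfsg.Agent.Lib.RE.Char1
import Cfsg.Agent.Lib.H3.IndCentral
import Cfsg.Agent.S0923
import Cfsg.Agent.S0969

/-!
# Consequences of Brauer's second main theorem
-/

set_option autoImplicit false
set_option linter.unusedVariables false
set_option linter.unusedSectionVars false

namespace Cfsg.Agent.RE

open Subgroup Cfsg.Agent.FT
open scoped ComplexConjugate Classical

variable {G : Type*} [Group G] [Finite G] {C K L : Subgroup G} {g t u x z : G}
  {a φ ψ χ ξ : G → ℂ}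

/-- the `p`-regular elements -/
abbrev Reg (p : ℕ) (G : Type*) [Group G] : Set G := {y | ¬ p ∣ orderOf y}

theorem reg_mem_CF (p : ℕ) (h : φ ∈ CF L) : (Reg p G).indicator φ ∈ CF L :=
  ⟨fun x hx => by rw [Set.indicator_apply, CF_eq_zero h hx, ite_self], fun y hy x => by
    simp only [Set.indicator_apply, Set.mem_setOf_eq, CF_conj h hy, H6.orderOf_conj]⟩

theorem cfdot_reg (p : ℕ) (φ ψ : G → ℂ) :
    ⟪(Reg p G).indicator φ, ψ⟫[L] = ⟪φ, (Reg p G).indicator ψ⟫[L] := by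
  unfold cfdot
  refine congrArg _ (Finset.sum_congr rfl fun y _ => ?_)
  by_cases h : y ∈ Reg p G <;> simp [h]

theorem icc_eq_sum (C : Subgroup G) (ξ : G → ℂ) (g : G) :
    inducedCentralChar C (fun y => ξ y) g =
      (∑ y ∈ fs {y | y ∈ C ∧ IsConj g y}, ξ y) / ξ 1 := by
  rw [inducedCentralChar, finsum_mem_eq_finite_toFinset_sum _ (Set.toFinite _), Finset.sum_div]
  refine Finset.sum_bij (fun y _ => (y : G)) (fun y hy => ?_) (fun _ _ _ _ e => Subtype.ext e)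
    (fun y hy => ?_) fun _ _ => rfl
  · exact mem_fs.2 ⟨y.2, by simpa using hy⟩
  · exact ⟨⟨y, (mem_fs.1 hy).1⟩, by simpa using (mem_fs.1 hy).2, rfl⟩

theorem icc_eq_Ind (C : Subgroup G) (ξ : G → ℂ) (g : G) :
    inducedCentralChar C (fun y => ξ y) g = centralChar (Ind C ⊤ ξ) g := by
  have := Fintype.ofFinite G
  rw [H3.inducedCentralChar_eq_centralChar_indFun]
  congr 1
  funext y
  rw [H4.indFun_apply', Ind_of_mem (mem_top y), coe_top, fs_univ]
  refine congrArg _ (Finset.sum_congr rfl fun k _ => ?_)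
  rw [H4.extendByZero_res, Res_apply]

variable {p : ℕ} [Fact p.Prime] {M : Ideal AlgInt} [hM : H5.PMod p M]

theorem link (hx : ∃ k, orderOf x = p ^ k) (hχ : χ ∈ Irr ⊤) (hξ : ξ ∈ Irr 𝒞[x])
    (h : ⟪(Reg p G).indicator (sh x χ), ξ⟫[𝒞[x]] ≠ 0) (g : G) :
    inducedCentralChar 𝒞[x] (fun y => ξ y) g - centralChar χ g ∈ H5.locIdeal M := by
  have := Fintype.ofFinite 𝒞[x]
  let χ' : IrrCharacter G := ⟨χ, mem_Irr_top.1 hχ⟩
  let ξ' : IrrCharacter 𝒞[x] := ⟨_, (mem_Irr.1 hξ).2⟩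
  by_contra hn
  have h1 := fun y hy => S0923.result p M hM.out x hx _ (H5.isPBlock_blockOf χ') χ'
    (H5.self_mem_blockOf χ') _ (H5.isPBlock_blockOf ξ')
    (fun e => hn (e.2.2 ξ' (H5.self_mem_blockOf ξ') χ' (H5.self_mem_blockOf χ') g)) y hy
  apply h
  have h2 : (fun y : 𝒞[x] => (Reg p G).indicator (sh x χ) y) =
      pRegularPart p fun c : 𝒞[x] => χ (x * c) := by
    funext y
    rw [H3.pRegularPart_eq_indicator, Set.indicator_apply, Set.indicator_apply]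
    simp only [Set.mem_setOf_eq, orderOf_coe]
    rfl
  rw [cfdot_eq_classInner, h2]
  change classInner _ (ξ' : 𝒞[x] → ℂ) = 0
  rw [← H3.classInner_blockPart_of_mem _ (H5.self_mem_blockOf (M := M) ξ'),
    H3.blockPart_pRegularPart (H5.blk_idem_mem (H5.isPBlock_blockOf ξ')).1]
  refine (congrArg (fun φ => classInner φ _) (funext fun y => ?_)).trans (H4.classInner_zero_left _)
  by_cases hy : IsPRegular p y
  · rw [H3.pRegularPart_of_regular _ hy]; exact h1 y hy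
  · exact H3.pRegularPart_of_not_regular _ hy

omit hM in
/-- Characters of central defect vanish off the sections of the defect group. -/
theorem vanish (hξ : ξ ∈ Irr L) (hz : z ∈ L) (hc : L ≤ 𝒞[z]) (hp : IsPGroup p (zpowers z))
    (hd : (deg ξ).factorization p = ((zpowers z).relIndex L).factorization p) (hg : g ∈ L)
    (h : H5.pPart p g ∉ zpowers z) : ξ g = 0 := by
  obtain ⟨M, hM⟩ := H3.exists_isPModular (Fact.out : p.Prime)
  refine (S0969.result p M hM ((zpowers z).subgroupOf L) hp.comap_subtype (fun y hy => ?_)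
    ⟨_, (mem_Irr.1 hξ).2⟩ hd).2 ⟨g, hg⟩ ⟨H5.pPart p g, H5.pPart_mem hg⟩ ?_ h
  · obtain ⟨k, hk⟩ := mem_subgroupOf.1 hy
    refine mem_center_iff.2 fun w => Subtype.ext ?_
    rw [coe_mul, coe_mul, ← hk]
    exact (Commute.zpow_right (mem_cent1.1 (hc w.2)) k).eq
  · obtain ⟨y, h1, h2, h3, h4⟩ := H5.isPPart_pPart (p := p) g
    have hy : y ∈ L := (L.mul_mem_cancel_left (H5.pPart_mem hg)).1 (h1.symm ▸ hg)
    exact ⟨⟨y, hy⟩, Subtype.ext h1, Subtype.ext h2.eq, by simpa [← orderOf_coe] using h3,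
      by simpa [← orderOf_coe] using h4⟩

namespace KU

variable (h : KU t u K) (ht : orderOf t = 2)
include h ht

theorem mem : t ∈ 𝒞[u] := h.syl.le (mem_zpowers t)

theorem conj_of (hx : x ∈ 𝒞[u]) (ho : orderOf x = 2) : ∃ c ∈ 𝒞[u], c * t * c⁻¹ = x := by
  obtain ⟨c, hc, e⟩ := h.syl.exists_cj_le
    (IsPGroup.of_card (n := 1) (by rw [Nat.card_zpowers, ho, pow_one])) (zpowers_le.2 hx)
  rcases (ZD.mem_zpowers_two' (H6.mul_self_of_orderOf_two ht)).1
    (e (H6.conj_mem_cj (mem_zpowers x))) with e1 | e1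
  · exact absurd (by simpa using e1) (H6.ne_one_of_orderOf_two ho)
  · exact ⟨c⁻¹, inv_mem hc, by rw [← e1]; group⟩

theorem ord (hx : x ∈ K) : orderOf (x * t) = 2 := by
  have tt := H6.mul_self_of_orderOf_two ht
  refine orderOf_eq_prime ?_ fun e => ?_
  · have := h.inv x hx
    rw [inv_eq_of_mul_eq_one_right tt] at this
    rw [pow_two, mul_assoc, ← mul_assoc t, this, mul_inv_cancel]
  · have : t ∈ K := by rw [eq_inv_of_mul_eq_one_right e]; exact inv_mem hx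
    have := GW.odd_orderOf h.odd this
    rw [ht] at this; exact absurd this (by decide)

theorem sum_eq (hξ : ξ ∈ CF 𝒞[u]) :
    ∑ y ∈ fs {y | y ∈ 𝒞[u] ∧ IsConj t y}, ξ y = Nat.card K * ξ t ∧
      ∑ k ∈ fs (K : Set G), ξ (k * t) = Nat.card K * ξ t := by
  have h2 : ∑ k ∈ fs (K : Set G), ξ (k * t) = Nat.card K * ξ t := by
    rw [← card_fs_subgroup, ← nsmul_eq_mul, ← Finset.sum_const]
    refine Finset.sum_congr rfl fun k hk => ?_
    obtain ⟨c, hc, e⟩ := h.conj_of ht (mul_mem (h.le (mem_fs.1 hk)) (h.mem ht))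
      (h.ord ht (mem_fs.1 hk))
    rw [← e, CF_conj hξ hc]
  refine ⟨?_, h2⟩
  rw [← h2]
  refine (sum_fs_equiv (Equiv.mulRight t) (fun k => ⟨fun a => ?_, fun hk => ?_⟩) ξ).symm
  · obtain ⟨c, hc, e⟩ := h.conj_of ht a.1 (by
      obtain ⟨d, hd⟩ := isConj_iff.1 a.2
      rw [← hd, H6.orderOf_conj, ht])
    have := h.comm c hc
    rwa [e, Equiv.coe_mulRight, mul_inv_cancel_right] at this
  · obtain ⟨c, hc, e⟩ := h.conj_of ht (mul_mem (h.le hk) (h.mem ht)) (h.ord ht hk)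
    exact ⟨mul_mem (h.le hk) (h.mem ht), isConj_iff.2 ⟨c, e⟩⟩

theorem val (hξ : ξ ∈ Irr 𝒞[u]) : ∃ e : ℤ, (e = 0 ∨ e = 1 ∨ e = -1) ∧ ξ t = e * ξ 1 := by
  by_cases hk : K ≤ cfker 𝒞[u] ξ
  · have hi := (mem_Irr.1 hξ).2
    obtain ⟨ω, -, hω⟩ := H3.IsCharacter_mul_of_norm_eq (H3.IsIrrCharacter_isCharacter hi)
      (H3.mem_charCenter_of_commutator hi (z := ⟨t, h.mem ht⟩) fun g => cfker_apply (hk (by
        have := inv_mem (h.comm g g.2)
        simpa [mul_assoc] using this)))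
    have e1 : ξ (t * 1) = ω * ξ 1 := hω 1
    have e2 : ξ (t * t) = ω * ξ t := hω ⟨t, h.mem ht⟩
    rw [mul_one] at e1
    rw [H6.mul_self_of_orderOf_two ht, e1, ← mul_assoc] at e2
    rcases mul_self_eq_one_iff.1 (mul_right_cancel₀ (Irr_one_ne_zero hξ)
      (e2.symm.trans (one_mul _).symm)) with rfl | rfl
    · exact ⟨1, by simp, by simpa using e1⟩
    · exact ⟨-1, by simp, by simpa using e1⟩
  · have := sum_coset_Irr_eq_zero ⟨h.le, h.norm⟩ hξ hk (h.mem ht)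
    rw [(h.sum_eq ht (Irr_mem_CF hξ)).2] at this
    exact ⟨0, by simp, by simpa [Nat.card_pos.ne'] using this⟩

/-- `χ(u t) ∈ {0, ± χ(u)}`. -/
theorem val_mul (hu : ∃ k, orderOf u = 3 ^ k) (hχ : χ ∈ Irr ⊤) :
    χ (u * t) = 0 ∨ χ (u * t) ^ 2 = χ u ^ 2 := by
  haveI : Fact (Nat.Prime 3) := ⟨Nat.prime_three⟩
  obtain ⟨M, hM⟩ := H3.exists_isPModular Nat.prime_three
  haveI : H5.PMod 3 M := ⟨hM⟩
  set ϑ := (Reg 3 G).indicator (sh u (Res 𝒞[u] χ)) with hϑ
  have hu' : u ∈ 𝒞[u] := mem_cent1.2 rfl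
  have hc : ϑ ∈ CF 𝒞[u] := reg_mem_CF 3 (sh_mem_CF hu' le_rfl (Res_mem_CF le_top (Irr_mem_CF hχ)))
  have v : ∀ y ∈ 𝒞[u], ¬ 3 ∣ orderOf y → ϑ y = χ (u * y) := fun y hy h3 => by
    rw [hϑ, Set.indicator_of_mem h3, sh_apply, Res_of_mem (mul_mem hu' hy)]
  choose! e he using fun ξ hξ => h.val ht (ξ := ξ) hξ
  have k : ∀ ξ ∈ Irr 𝒞[u], ⟪ϑ, ξ⟫[𝒞[u]] ≠ 0 →
      (Nat.card K : ℂ) * e ξ - centralChar χ t ∈ H5.locIdeal M := fun ξ hξ h0 => by
    have := link (M := M) hu hχ hξ (by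
      rwa [← cfdot_congr (φ := ϑ) (fun y hy => ?_) fun _ _ => rfl]
      simp only [hϑ, Set.indicator_apply, sh_apply, Res_of_mem (mul_mem hu' hy)]) t
    rwa [icc_eq_sum, (h.sum_eq ht (Irr_mem_CF hξ)).1, (he ξ hξ).2, mul_div_assoc,
      mul_div_cancel_right₀ _ (Irr_one_ne_zero hξ)] at this
  have e1 := CF_apply_eq_sum hc t
  have e2 := CF_apply_eq_sum hc 1
  rw [v t (h.mem ht) (by rw [ht]; decide)] at e1
  rw [v 1 (one_mem _) (by simp), mul_one] at e2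
  by_cases h0 : ∀ ξ ∈ Irr 𝒞[u], ⟪ϑ, ξ⟫[𝒞[u]] = 0
  · exact Or.inl (e1.trans (Finset.sum_eq_zero fun ξ hξ => by rw [h0 ξ hξ, zero_mul]))
  push Not at h0
  obtain ⟨ξ, hξ, h0⟩ := h0
  have e3 : χ (u * t) = e ξ * χ u := by
    rw [e1, e2, Finset.mul_sum]
    refine Finset.sum_congr rfl fun η hη => ?_
    by_cases h1 : ⟪ϑ, η⟫[𝒞[u]] = 0
    · rw [h1, zero_mul, zero_mul, mul_zero]
    have h2 := sub_mem (k ξ hξ h0) (k η hη h1)
    rw [sub_sub_sub_cancel_right, ← mul_sub, ← Int.cast_natCast, ← Int.cast_sub, ← Int.cast_mul,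
      H5.intCast_mem_locIdeal_iff] at h2
    have h3 := (Int.prime_three.dvd_or_dvd h2).resolve_left fun a => h.three (by exact_mod_cast a)
    have h4 : e η = e ξ := by have := (he ξ hξ).1; have := (he η hη).1; omega
    rw [(he η hη).2, h4]; ring
  rcases (he ξ hξ).1 with a | a | a <;> rw [e3, a] <;> simp

end KU

end Cfsg.Agent.RE
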