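import Cfsg.Agent.Lib.RE.Char2

/-!
# The virtual characters of `C(t)`
-/

set_option autoImplicit false
set_option linter.unusedVariables false
set_option linter.unusedSectionVars false

namespace Cfsg.Agent.RE

open Subgroup Cfsg.Agent.FT Cfsg.Agent.GW
open scoped ComplexConjugate Classical

variable {G : Type*} [Group G] [Finite G] {B E K L N P S X : Subgroup G} {q m f : ℕ}
  {g s t u v w x y z : G} {α β η ν ν' φ ψ χ ξ : G → ℂ}

theorem Ind_eq_of_ti (hN : N ≤ L) (hx : x ∈ N) (h : ∀ y ∈ L, y * x * y⁻¹ ∈ K → y ∈ N) :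
    Ind K L φ x = Ind K N φ x := by
  rw [Ind_of_mem hx, Ind_of_mem (hN hx), sum_fs_subset (A := N) (B := L) hN fun y h1 h2 =>
    Res_of_not_mem fun e => h2 (h y h1 e)]

theorem cfdot_nt (h : ∀ x ∈ K, x ≠ 1 → φ x = ψ x) (χ : G → ℂ) :
    ⟪φ, χ⟫[K] = ⟪ψ, χ⟫[K] + (φ 1 - ψ 1) * conj (χ 1) / Nat.card K := by
  unfold cfdot
  rw [← sum_fs_nt_add, ← sum_fs_nt_add K fun x => ψ x * conj (χ x),
    Finset.sum_congr rfl fun x hx => by rw [h x (mem_fs.1 hx).1 (mem_fs.1 hx).2]]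
  field_simp
  ring

theorem Ind_reg (hK : Odd (Nat.card K)) (φ : G → ℂ) : Ind K L φ ∈ supp (Reg 2 G) := fun x hx =>
  Ind_eq_zero_of_forall fun y _ e => absurd (by
    have := odd_orderOf hK e
    rw [H6.orderOf_conj] at this
    exact this.not_two_dvd_nat) hx

theorem Ind_coprime (hx : x ∈ P) (h1 : x ≠ 1) (hc : (Nat.card P).Coprime (Nat.card K)) :
    Ind K L φ x = 0 := Ind_eq_zero_of_forall fun y _ e => absurd (orderOf_eq_one_iff.1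
  (Nat.eq_one_of_dvd_coprimes hc (H6.orderOf_dvd_card_of_mem hx)
    (H6.orderOf_conj y x ▸ H6.orderOf_dvd_card_of_mem e))) h1

section Sec

variable (hz : orderOf z = 2) (hL : z ∈ L) (hN : N = L ⊓ 𝒞[z])
include hz hL hN

theorem sec_mem : z ∈ N := hN ▸ ⟨hL, mem_cent1.2 rfl⟩

theorem sec_ti : NormedTI {x | x ∈ N ∧ z * x ∈ Reg 2 G} L N := by
  have zz := H6.mul_self_of_orderOf_two hz
  have pp : ∀ a, a ∈ N → z * a ∈ Reg 2 G → H5.pPart 2 a = z := fun a h1 h2 => by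
    have c : Commute z a := (mem_cent1.1 (hN ▸ h1 : a ∈ L ⊓ 𝒞[z]).2).symm
    have := H5.pPart_mul ((Commute.refl z).mul_right c) ⟨1, hz⟩ h2
    rwa [← mul_assoc, zz, one_mul] at this
  refine ⟨⟨z, sec_mem hz hL hN, by simp [zz]⟩, hN ▸ inf_le_left, fun a ha g hg => ⟨fun e => ?_,
    fun e => ⟨mul_mem (mul_mem e ha.1) (inv_mem e), ?_⟩⟩⟩
  · have := pp _ e.1 e.2
    rw [H5.pPart_conj, pp a ha.1 ha.2] at this
    exact hN ▸ ⟨hg, mem_cent1.2 (mul_inv_eq_iff_eq_mul.1 this)⟩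
  · have c := mem_cent1.1 (hN ▸ e : g ∈ L ⊓ 𝒞[z]).2
    have : z * (g * a * g⁻¹) = g * (z * a) * g⁻¹ := by rw [← mul_assoc, ← mul_assoc, ← c, mul_assoc g]
    rw [this, Set.mem_setOf_eq, H6.orderOf_conj]; exact ha.2

theorem sec_on (h : α ∈ CFon N (Reg 2 G)) : sh z α ∈ CFon N {x | x ∈ N ∧ z * x ∈ Reg 2 G} := by
  have h1 := sh_mem_CF (sec_mem hz hL hN) (hN ▸ inf_le_right) h.1
  refine ⟨h1, fun x hx => ?_⟩
  by_cases e : x ∈ N
  · exact h.2 _ fun e' => hx ⟨e, e'⟩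
  · exact CF_eq_zero h1 e

theorem sec_cfdot (h : α ∈ CFon N (Reg 2 G)) (h' : β ∈ CFon N (Reg 2 G)) :
    ⟪Ind N L (sh z α), Ind N L (sh z β)⟫[L] = ⟪α, β⟫[N] := by
  rw [(sec_ti hz hL hN).cfdot_Ind (fun _ h => h.1) (sec_on hz hL hN h).2 (sec_on hz hL hN h'),
    cfdot_sh (sec_mem hz hL hN)]

theorem sec_apply (h : α ∈ CFon N (Reg 2 G)) (hy : y ∈ N) (h2 : y ∈ Reg 2 G) :
    Ind N L (sh z α) (z * y) = α y := by
  have e : z * (z * y) = y := by rw [← mul_assoc, H6.mul_self_of_orderOf_two hz, one_mul]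
  rw [(sec_ti hz hL hN).Ind_apply (fun _ h => h.1) (sec_on hz hL hN h)
    ⟨mul_mem (sec_mem hz hL hN) hy, e.symm ▸ h2⟩, sh_apply, e]

theorem sec_zero (h : α ∈ supp (Reg 2 G)) (h2 : y ∈ Reg 2 G) : Ind N L (sh z α) y = 0 :=
  Ind_eq_zero_of_forall fun g _ e => h _ fun e' => by
    have c : Commute z (g * y * g⁻¹) := (mem_cent1.1 (hN ▸ e : _ ∈ L ⊓ 𝒞[z]).2).symm
    have := H5.pPart_mul c ⟨1, hz⟩ (by rw [H6.orderOf_conj]; exact h2)
    rw [H5.pPart_eq_one_iff.2 e'] at this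
    exact H6.ne_one_of_orderOf_two hz this.symm

theorem sec_left (h : Inv L χ) : ⟪χ, Ind N L (sh z α)⟫[L] = ⟪sh z χ, α⟫[N] := by
  rw [cfdot_Ind_right (hN ▸ inf_le_left) _ h,
    cfdot_sh_left (sec_mem hz hL hN) (H6.mul_self_of_orderOf_two hz)]

theorem sec_mem_ZIrr (h : α ∈ ZIrr N) : Ind N L (sh z α) ∈ ZIrr L :=
  ZIrr_Ind (sh_mem_ZIrr h (sec_mem hz hL hN) (hN ▸ inf_le_right) (H6.mul_self_of_orderOf_two hz))
    (hN ▸ inf_le_left)

theorem sec_ev (h : α ∈ ZIrr N) : Ev L (Ind N L α - Ind N L (sh z α)) := by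
  rw [← map_sub]
  exact (ev_sh h (sec_mem hz hL hN) (hN ▸ inf_le_right) (H6.mul_self_of_orderOf_two hz)).ind
    (hN ▸ inf_le_left)

end Sec

/-- `Ψ_ν = ν ^ {C(t, v)}` -/
noncomputable abbrev Ps (t v : G) (S : Subgroup G) (ν : G → ℂ) : G → ℂ :=
  Ind S (𝒞[t] ⊓ 𝒞[v]) ν

/-- `Φ_ν = 2 (η + η̄) ^ H - ν ^ H` -/
noncomputable def Ph (t : G) (P S : Subgroup G) (η ν : G → ℂ) : G → ℂ :=
  (2 : ℂ) • Ind P 𝒞[t] (η + star η) - Ind S 𝒞[t] ν

namespace CH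

variable (h : CH t v w u E B P S K q m f)
include h

theorem tH : t ∈ 𝒞[t] := mem_cent1.2 rfl
theorem vH : v ∈ 𝒞[t] := h.Ele h.vE
theorem PE : P ≤ E := h.PB.trans h.BE
theorem PH : P ≤ 𝒞[t] := h.PE.trans h.Ele
theorem SH : S ≤ 𝒞[t] := h.SE.trans h.Ele

theorem relIndex_E (hX : X ≤ 𝒞[t]) (ht : t ∈ X) : E.relIndex X = 2 := by
  refine relIndex_eq_two_iff.2 ⟨t, ht, fun b hb => ?_⟩
  rw [mem_cent1.1 (hX hb)]
  by_cases e : b ∈ E
  · exact Or.inr ⟨e, fun e' => h.tE ((E.mul_mem_cancel_right e).1 e')⟩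
  · exact Or.inl ⟨(h.cover b (hX hb)).resolve_left e, e⟩

theorem card_two (hX : X ≤ 𝒞[t]) (ht : t ∈ X) : Nat.card X = 2 * Nat.card (E ⊓ X : Subgroup G) := by
  rw [← relIndex_mul_card' (inf_le_right (a := E)), inf_relIndex_right, h.relIndex_E hX ht]

theorem normalE : NormalIn E 𝒞[t] :=
  ⟨h.Ele, fun g hg => H6.mem_normalizer_of_conj_mem fun x hx => by
    rcases h.cover g hg with e | e
    · exact mul_mem (mul_mem e hx) (inv_mem e)
    · have h1 := mul_mem (mul_mem e hx) (inv_mem e)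
      have c := mem_cent1.1 (mul_mem (mul_mem hg (h.Ele hx)) (inv_mem hg))
      rwa [show t * g * x * (t * g)⁻¹ = t * (g * x * g⁻¹) * t⁻¹ by group, ← c,
        mul_inv_cancel_right] at h1⟩

theorem mem_E (hx : x ∈ 𝒞[t]) (h2 : x ∈ Reg 2 G) : x ∈ E := by
  refine (h.cover x hx).elim id fun e => absurd ?_ h.tE
  have := H5.pPart_mem (p := 2) e
  rwa [H5.pPart_mul (mem_cent1.1 hx).symm ⟨1, h.two.ha⟩ h2] at this

theorem q_le : 11 ≤ q := by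
  have := h.qm; have := h.m1; obtain ⟨k, hk⟩ := h.oddm; omega

theorem three_dvd : 3 ∣ q := by
  obtain ⟨k, hk⟩ := h.P3.exists_card_eq
  have := h.q_le
  rw [← h.cardP, hk] at this ⊢
  exact dvd_pow_self 3 (by rintro rfl; omega)

theorem oddP : Odd (Nat.card P) := odd_of_pgroup Nat.prime_three (by decide) h.P3
theorem oddS : Odd (Nat.card S) := h.cardS ▸ h.oddm

theorem coprime : (Nat.card P).Coprime (Nat.card S) := by
  obtain ⟨k, hk⟩ := h.P3.exists_card_eq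
  rw [hk, h.cardS]
  refine Nat.Coprime.pow_left k ((Nat.Prime.coprime_iff_not_dvd Nat.prime_three).2 fun e => ?_)
  have := h.three_dvd; have := h.qm; omega

theorem qmC : (q : ℂ) = 4 * m - 1 := by
  have : ((4 * m : ℕ) : ℂ) = (q + 1 : ℕ) := congrArg _ h.qm
  push_cast at this; linear_combination -this

theorem q_ne : (q : ℂ) ≠ 0 := by have := h.q_le; exact_mod_cast (by omega : q ≠ 0)
theorem m_ne : (m : ℂ) ≠ 0 := by have := h.m1; exact_mod_cast (by omega : m ≠ 0)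
theorem f_ne : (f : ℂ) ≠ 0 := by exact_mod_cast h.oddf.pos.ne'
theorem q1_ne : (q : ℂ) - 1 ≠ 0 := by
  have := h.q_le; exact sub_ne_zero.2 (by exact_mod_cast (by omega : q ≠ 1))

theorem cardH : (Nat.card 𝒞[t] : ℂ) = f * q * (q ^ 2 - 1) := by
  rw [h.card_two le_rfl h.tH, inf_of_le_left h.Ele, h.cardE]
  have := h.q_le
  push_cast [Nat.cast_sub (show 1 ≤ q ^ 2 by nlinarith)]; rfl

theorem cardNP : (Nat.card (𝒞[t] ⊓ 𝒩(P) : Subgroup G) : ℂ) = f * q * (q - 1) := by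
  rw [h.card_two inf_le_left ⟨h.tH, cent_le_norm (le_cent1_iff.1 h.PH)⟩, ← inf_assoc,
    inf_of_le_left h.Ele, h.cardN, mul_left_comm, h.cardB]
  have := h.q_le
  push_cast [Nat.cast_sub (show 1 ≤ q by omega)]; ring

theorem cardCV : (Nat.card (𝒞[t] ⊓ 𝒞[v] : Subgroup G) : ℂ) = 8 * m * f := by
  rw [h.card_two inf_le_left ⟨h.tH, mem_cent1.2 h.two.comm⟩, ← inf_assoc, inf_of_le_left h.Ele,
    h.cardC]
  push_cast; ring

theorem exists_s : ∃ s ∈ S, s ≠ 1 :=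
  (S.ne_bot_iff_exists_ne_one.1 fun e => by
    have := h.cardS; have := h.m1; rw [e, card_bot] at *; omega).elim fun s hs =>
      ⟨s, s.2, fun e => hs (Subtype.ext e)⟩

theorem V_le : V4 t v ≤ 𝒞(S) := fun a ha x hx => by
  by_cases e : x = 1
  · simp [e]
  · exact (mem_cent1.1 ((h.centS x hx e).ge (mem_sup_left ha))).symm

theorem Y_le : V4 t v ⊔ S ≤ 𝒞[t] ⊓ 𝒞[v] :=
  sup_le (le_inf h.two.le_cent_a h.two.le_cent_b)
    (le_inf h.SH (le_cent1_iff.2 (h.V_le h.two.b_mem)))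

theorem CV_le : 𝒞[t] ⊓ 𝒞[v] ≤ 𝒩(V4 t v) := h.two.cent_eq ▸ cent_le_norm

theorem normalS : NormalIn S (𝒞[t] ⊓ 𝒞[v]) :=
  ⟨le_sup_right.trans h.Y_le, h.CV_le.trans h.normS⟩

theorem cardY : Nat.card (V4 t v ⊔ S : Subgroup G) = 4 * m := by
  rw [H1.card_sup_eq_of_disjoint (h.V_le.trans cent_le_norm)
    (disjoint_iff.2 (inf_eq_bot_of_odd h.oddS h.two.pgroup)).symm, h.cardS, h.two.card]

theorem lin (hν : ν ∈ Irr S) : IsLin S ν :=
  isLin_of_comm (fun a ha b hb => congrArg Subtype.val (h.Sab.is_comm.comm ⟨a, ha⟩ ⟨b, hb⟩)) hν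

/-- `N(V) / V S` acts semiregularly on the nontrivial characters of `S`. -/
theorem mem_Y (hν : ν ∈ Irr S) (h1 : ν ≠ cf1 S) (hg : g ∈ 𝒩(S)) (e : cfConj g ν = ν) :
    g ∈ V4 t v ⊔ S := by
  by_contra hn
  have c : ∀ a ∈ S, ∀ b ∈ S, a * b = b * a := fun a ha b hb =>
    congrArg Subtype.val (h.Sab.is_comm.comm ⟨a, ha⟩ ⟨b, hb⟩)
  have m1 : ∀ a ∈ S, g * a * g⁻¹ ∈ S := fun a ha => (mem_normalizer_iff.1 hg a).1 ha
  let F : S → S := fun a => ⟨g * a * g⁻¹ * (a : G)⁻¹, mul_mem (m1 a a.2) (inv_mem a.2)⟩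
  have hi : Function.Injective F := fun a b e => by
    by_contra hab
    have e1 : g * a * g⁻¹ * (a : G)⁻¹ = g * b * g⁻¹ * (b : G)⁻¹ := congrArg Subtype.val e
    refine hn ((h.centS ((b : G)⁻¹ * a) (mul_mem (inv_mem b.2) a.2) fun e =>
      hab (Subtype.ext (inv_mul_eq_one.1 e).symm)).le (mem_cent1.2 ?_))
    calc g * ((b : G)⁻¹ * a) = (g * b * g⁻¹)⁻¹ * (g * a * g⁻¹ * (a : G)⁻¹) * a * g := by group
      _ = _ := by rw [e1]; group
  refine h1 ((Irr_eq_cf1_iff hν).1 fun x hx => ((h.lin hν).mem_cfker).2 ⟨hx, ?_⟩)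
  obtain ⟨a, ha⟩ := Finite.surjective_of_injective hi ⟨x, hx⟩
  have e1 : x = g * a * g⁻¹ * (a : G)⁻¹ := (congrArg Subtype.val ha).symm
  rw [e1, (h.lin hν).map_mul (m1 a a.2) (inv_mem a.2), ← e, cfConj_apply_conj, e,
    ← (h.lin hν).map_mul a.2 (inv_mem a.2), mul_inv_cancel, (h.lin hν).2]

theorem inv_Y (hν : ν ∈ Irr S) : Inv (V4 t v ⊔ S) ν := inv_iff_cfConj.2 fun y hy =>
  ((sup_le (fun a ha => mem_inertia.2 ⟨mem_top a, funext fun x => by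
      by_cases hx : x ∈ S
      · rw [cfConj_apply, mul_assoc, h.V_le ha x hx, inv_mul_cancel_left]
      · rw [cfConj_apply, Irr_supp hν x hx, Irr_supp hν _ fun e => hx (by
          simpa [mul_assoc] using (mem_normalizer_iff.1 (cent_le_norm (h.V_le ha)) _).1 e)]⟩)
    (le_inertia le_top (Irr_inv hν)) : _ ≤ inertia ⊤ ν) hy).2

theorem Ps_self (hν : ν ∈ Irr S) (h1 : ν ≠ cf1 S) :
    ⟪Ps t v S ν, Ps t v S ν⟫[𝒞[t] ⊓ 𝒞[v]] = 4 := by
  have e : inertia (𝒞[t] ⊓ 𝒞[v]) ν = V4 t v ⊔ S := le_antisymm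
    (fun g hg => h.mem_Y hν h1 (h.normalS.norm hg.1) hg.2) (le_inertia h.Y_le (h.inv_Y hν))
  have := relIndex_mul_card' (le_sup_right (a := V4 t v) (b := S))
  rw [h.cardY, h.cardS] at this
  rw [cfdot_Ind_self_normal h.normalS hν, e, Nat.eq_of_mul_eq_mul_right h.oddm.pos this]
  norm_num

theorem Ps_one (hν : ν ∈ Irr S) : Ps t v S ν 1 = 8 * f := by
  have := congrArg (Nat.cast (R := ℂ)) (relIndex_mul_card' h.normalS.le)
  rw [Nat.cast_mul, h.cardCV, h.cardS] at this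
  rw [Ps, Ind_one h.normalS.le, (h.lin hν).2, mul_one]
  exact mul_right_cancel₀ h.m_ne (by linear_combination this)

theorem Ind_S (hs : s ∈ S) (h1 : s ≠ 1) : Ind S 𝒞[t] ν s = Ps t v S ν s :=
  Ind_eq_of_ti inf_le_left (h.normalS.le hs) fun y hy e => ⟨hy, h.normV ⟨h.tiS s hs h1 y e, hy⟩⟩

section
variable (hη : η ∈ Irr P) (hη1 : η ≠ cf1 P)
include hη hη1

theorem eta_one : η 1 = 1 :=
  (isLin_of_comm (fun a ha b hb => congrArg Subtype.val (h.Pab.is_comm.comm ⟨a, ha⟩ ⟨b, hb⟩)) hη).2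

theorem rho_mem : Ind P 𝒞[t] (η + star η) ∈ ZIrr 𝒞[t] :=
  ZIrr_Ind (add_mem (Irr_mem_ZIrr hη) (ZIrr_star (Irr_mem_ZIrr hη))) h.PH

theorem rho_P (hx : x ∈ P) (h1 : x ≠ 1) : Ind P 𝒞[t] (η + star η) x = -(2 * f) := by
  set ρ := Ind P 𝒞[t] (η + star η) with hρ
  have hN : NormalIn P (𝒞[t] ⊓ 𝒩(P)) := ⟨le_inf h.PH le_normalizer, inf_le_right⟩
  have c1 : ∀ y ∈ P, y ≠ 1 → ρ y = ρ x := fun y hy h2 => by
    obtain ⟨g, hg, e⟩ := h.orb x hx h1 y hy h2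
    rw [← CF_conj (φ := ρ) (Ind_mem_CF _ _ _) (h.Ele (h.BE hg)) x]
    rcases e with e | e <;> rw [e]
    rw [hρ, ZIrr_apply_inv (h.rho_mem hη hη1)]
    have := congrFun (Ind_star (K := P) (L := 𝒞[t]) (φ := η + star η)) y
    rwa [star_add, star_star, add_comm] at this
  have c2 : ∀ y ∈ P, y ≠ 1 → ρ y = (Nat.card P : ℂ)⁻¹ *
      ∑ g ∈ fs ((𝒞[t] ⊓ 𝒩(P) : Subgroup G) : Set G), (η + star η) (g * y * g⁻¹) := fun y hy h2 => by
    rw [← Ind_normal_apply hN hy]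
    refine Ind_eq_of_ti inf_le_left (hN.le hy) fun g hg e => ⟨hg, ?_⟩
    have tN := cent_le_norm (le_cent1_iff.1 h.PH)
    rcases h.cover g hg with a | a
    · exact h.tiP y hy h2 g a e
    · refine (mul_mem_cancel_left tN).1 (h.tiP y hy h2 _ a ?_)
      rw [show t * g * y * (t * g)⁻¹ = t * (g * y * g⁻¹) * t⁻¹ by group]
      exact (mem_normalizer_iff.1 tN _).1 e
  have c3 : ∑ y ∈ fs (nt P), (η + star η) y = -2 := by
    have a1 := sum_fs_nt_add P η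
    rw [sum_Irr_eq_zero hη hη1, h.eta_one hη hη1, add_eq_zero_iff_eq_neg] at a1
    simp only [Pi.add_apply, Finset.sum_add_distrib, Pi.star_apply, ← star_sum, a1]
    norm_num
  have c4 : ∑ y ∈ fs (nt P), ρ y = (q : ℂ)⁻¹ * (f * q * (q - 1) * -2) := by
    rw [Finset.sum_congr rfl fun y hy => c2 y (mem_fs.1 hy).1 (mem_fs.1 hy).2, ← Finset.mul_sum,
      Finset.sum_comm, h.cardP, Finset.sum_congr rfl fun g hg => (sum_fs_conj (fun y => ?_) _).trans c3,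
      Finset.sum_const, card_fs_subgroup, nsmul_eq_mul, h.cardNP]
    exact and_congr ((mem_normalizer_iff.1 (mem_fs.1 hg).2 y).symm) (by simp)
  have c5 := sum_fs_nt_add P fun _ => (1 : ℂ)
  rw [Finset.sum_congr rfl fun y hy => c1 y (mem_fs.1 hy).1 (mem_fs.1 hy).2] at c4
  simp only [Finset.sum_const, card_fs_subgroup, nsmul_eq_mul, mul_one, h.cardP] at c4 c5
  rw [eq_sub_of_add_eq c5] at c4
  have := h.q_ne
  refine mul_left_cancel₀ h.q1_ne (c4.trans ?_)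
  field_simp

theorem Ph_mem (hν : ν ∈ Irr S) : Ph t P S η ν ∈ ZIrr 𝒞[t] :=
  sub_mem (ZIrr_two (h.rho_mem hη hη1)) (ZIrr_Ind (Irr_mem_ZIrr hν) h.SH)

theorem Ph_on (hν : ν ∈ Irr S) : Ph t P S η ν ∈ CFon 𝒞[t] (Reg 2 G) :=
  ⟨ZIrr_mem_CF (h.Ph_mem hη hη1 hν),
    sub_mem (Submodule.smul_mem _ _ (Ind_reg h.oddP _)) (Ind_reg h.oddS _)⟩

theorem Ph_one (hν : ν ∈ Irr S) : Ph t P S η ν 1 = 4 * f * (q - 1) := by
  have a := congrArg (Nat.cast (R := ℂ)) (relIndex_mul_card' h.PH)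
  have b := congrArg (Nat.cast (R := ℂ)) (relIndex_mul_card' h.SH)
  rw [Nat.cast_mul, h.cardH] at a b
  rw [h.cardP] at a; rw [h.cardS] at b
  simp only [Ph, Pi.sub_apply, Pi.smul_apply, Ind_one h.PH, Ind_one h.SH, (h.lin hν).2,
    Pi.add_apply, Pi.star_apply, h.eta_one hη hη1, star_one, smul_eq_mul]
  refine mul_right_cancel₀ (mul_ne_zero h.q_ne h.m_ne) ?_
  have := h.qmC
  linear_combination (4 * m) * a - q * b - f * q * (q ^ 2 - 1) * this + f * q * (q - 1) * this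

theorem Ph_P (hx : x ∈ P) (h1 : x ≠ 1) : Ph t P S η ν x = -(4 * f) := by
  simp only [Ph, Pi.sub_apply, Pi.smul_apply, h.rho_P hη hη1 hx h1, Ind_coprime hx h1 h.coprime,
    smul_eq_mul]
  ring

theorem Ph_S (hs : s ∈ S) (h1 : s ≠ 1) : Ph t P S η ν s = -Ps t v S ν s := by
  simp [Ph, h.Ind_S hs h1, Ind_coprime hs h1 h.coprime.symm]

omit hη hη1 in
theorem cfdot_Ph (hξ : Inv 𝒞[t] ξ) :
    ⟪ξ, Ph t P S η ν⟫[𝒞[t]] = 2 * ⟪ξ, η + star η⟫[P] - ⟪ξ, ν⟫[S] := by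
  rw [Ph, cfdot_sub_right, cfdot_smul_right, cfdot_Ind_right h.PH _ hξ, cfdot_Ind_right h.SH _ hξ,
    map_ofNat]

theorem Ph_Ph (hν : ν ∈ Irr S) (hν' : ν' ∈ Irr S) :
    ⟪Ph t P S η ν, Ph t P S η ν'⟫[𝒞[t]] = ⟪Ps t v S ν, Ps t v S ν'⟫[𝒞[t] ⊓ 𝒞[v]] := by
  have a : ⟪cf1 P, η⟫[P] = 0 := cfdot_symm_zero (cfdot_cf1_Irr_of_ne hη hη1)
  have b : ⟪cf1 P, star η⟫[P] = 0 := by
    rw [cfdot_star_right, star_cf1]; exact cfdot_cf1_Irr_of_ne hη hη1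
  rw [h.cfdot_Ph (h.Ph_on hη hη1 hν).1.2, cfdot_nt (ψ := -(4 * f : ℂ) • cf1 P) (fun x hx h1 => by
      rw [h.Ph_P hη hη1 hx h1, Pi.smul_apply, cf1_of_mem hx, smul_eq_mul, mul_one]),
    cfdot_nt (K := S) (ψ := -Ps t v S ν) (fun x hx h1 => h.Ph_S hη hη1 hx h1),
    cfdot_Ind_right h.normalS.le _ (Ind_mem_CF _ _ _).2]
  simp only [cfdot_smul_left, cfdot_add_right, a, b, cfdot_neg_left, Pi.neg_apply, h.Ps_one hν,
    h.Ph_one hη hη1 hν, Pi.smul_apply, cf1_one, Pi.add_apply, Pi.star_apply, h.eta_one hη hη1,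
    (h.lin hν').2, h.cardP, h.cardS, star_one, map_add, map_one, smul_eq_mul]
  have := h.q_ne; have := h.m_ne
  field_simp
  rw [h.qmC]; ring

end

end CH

end Cfsg.Agent.RE
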