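import Cfsg.Agent.Lib.RE.Char3

/-!
# The irreducible characters of `C(t)` on the elements of odd order
-/

set_option autoImplicit false
set_option linter.unusedVariables false
set_option linter.unusedSectionVars false

namespace Cfsg.Agent.RE

open Subgroup Cfsg.Agent.FT Cfsg.Agent.GW
open scoped ComplexConjugate Classical

variable {G : Type*} [Group G] [Finite G] {B E K L N P S X : Subgroup G} {q m f : ℕ}
  {g s t u v w x y z : G} {α β η μ ν ν' φ ψ χ ξ : G → ℂ}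

theorem one_reg : (1 : G) ∈ Reg 2 G := by simp

theorem reg_of_odd (hK : Odd (Nat.card K)) (hx : x ∈ K) : x ∈ Reg 2 G :=
  (odd_orderOf hK hx).not_two_dvd_nat

theorem exists_Irr_ne (h : L ≠ ⊥) : ∃ χ ∈ Irr L, χ ≠ cf1 L := by
  obtain ⟨χ, h1, h2⟩ := exists_IrrK_not_le (N := ⊥) (L := L) (K := L)
    ⟨bot_le, by rw [normalizer_eq_top]; exact le_top⟩ (by rwa [le_bot_iff])
  exact ⟨χ, IrrK_subset h1, fun e => h2 (by rw [e, cfker_cf1])⟩

namespace CH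

variable (h : CH t v w u E B P S K q m f)
include h

theorem tt : t * t = 1 := h.two.aa

theorem sh_E (hα : α ∈ supp (E : Set G)) (hx : x ∈ E) : sh t α x = 0 :=
  hα _ fun e => h.tE ((E.mul_mem_cancel_right hx).1 e)

theorem on_E (hα : α ∈ CFon 𝒞[t] (Reg 2 G)) : α ∈ supp (E : Set G) := fun x hx => by
  by_cases e : x ∈ 𝒞[t]
  · exact hα.2 x fun e' => hx (h.mem_E e e')
  · exact CF_eq_zero hα.1 e

theorem Ps_on : Ps t v S ν ∈ CFon (𝒞[t] ⊓ 𝒞[v]) (Reg 2 G) := ⟨Ind_mem_CF _ _ _, Ind_reg h.oddS _⟩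

theorem Ph_congr (e : Ps t v S ν = Ps t v S ν') : Ph t P S η ν = Ph t P S η ν' := by
  have a : ∀ ν, Ind S 𝒞[t] ν = Ind (𝒞[t] ⊓ 𝒞[v]) 𝒞[t] (Ps t v S ν) := fun ν =>
    (Ind_Ind h.normalS.le inf_le_left ν).symm
  rw [Ph, Ph, a ν, a ν', e]

section
variable (hη : η ∈ Irr P) (hη1 : η ≠ cf1 P)
include hη hη1

/-- The constituents of `Φ_ν` agree with `Φ_ν / 4` on the elements of odd order. -/
theorem of_const (hν : ν ∈ Irr S) (h1 : ν ≠ cf1 S) (hξ : ξ ∈ Irr 𝒞[t])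
    (h0 : ⟪Ph t P S η ν, ξ⟫[𝒞[t]] ≠ 0) : (4 : ℂ) • (Reg 2 G).indicator ξ = Ph t P S η ν := by
  set Φ := Ph t P S η ν with hΦ
  set C := Ind (𝒞[t] ⊓ 𝒞[v]) 𝒞[t] (sh v (Ps t v S ν)) with hC
  have pz : Ps t v S ν ∈ ZIrr (𝒞[t] ⊓ 𝒞[v]) := ZIrr_Ind (Irr_mem_ZIrr hν) h.normalS.le
  have Cz : C ∈ ZIrr 𝒞[t] := sec_mem_ZIrr h.two.hb h.vH rfl pz
  have Φz : Φ ∈ ZIrr 𝒞[t] := h.Ph_mem hη hη1 hν
  have Φo : Φ ∈ CFon 𝒞[t] (Reg 2 G) := h.Ph_on hη hη1 hν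
  have C4 : ⟪C, C⟫[𝒞[t]] = 4 := (sec_cfdot h.two.hb h.vH rfl h.Ps_on h.Ps_on).trans (h.Ps_self hν h1)
  have Φ4 : ⟪Φ, Φ⟫[𝒞[t]] = 4 := (h.Ph_Ph hη hη1 hν hν).trans (h.Ps_self hν h1)
  have C0 : ∀ y ∈ Reg 2 G, C y = 0 := fun y hy => sec_zero h.two.hb h.vH rfl h.Ps_on.2 hy
  have CE : C ∈ supp (E : Set G) := Ind_mem_supp_of_inv
    (fun x hx => Ind_mem_supp_normal h.normalS ν _ fun e =>
      hx ((E.mul_mem_cancel_left h.vE).1 (h.SE e)))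
    fun y hy x hx => (mem_normalizer_iff.1 (h.normalE.norm hy) x).1 hx
  have ΦE : Φ ∈ supp (E : Set G) := h.on_E Φo
  have o : ∀ a ∈ supp (E : Set G), ∀ b ∈ supp (E : Set G), ⟪a, sh t b⟫[𝒞[t]] = 0 :=
    fun a ha b hb => cfdot_eq_zero_of_supp ha fun x hx _ => h.sh_E hb hx
  have ΦC : ⟪Φ, C⟫[𝒞[t]] = 0 := cfdot_eq_zero_of_supp Φo.2 fun x hx _ => C0 x hx
  have CΦ := cfdot_symm_zero ΦC
  have eΦ : Ev 𝒞[t] (Φ - C) := by
    have a := ((ev_two (h.rho_mem hη hη1)).sub (sec_ev h.two.hb h.vH rfl pz)).sub (ev_two Cz)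
    rw [Ind_Ind h.normalS.le inf_le_left] at a
    convert a using 1
    rw [hΦ, Ph, two_smul ℂ C]; abel
  obtain ⟨T, hd⟩ := exists_hd (L := 𝒞[t]) (F := ![C, sh t Φ, sh t C])
    (fun i => by
      fin_cases i
      exacts [Cz, sh_mem_ZIrr Φz h.tH le_rfl h.tt, sh_mem_ZIrr Cz h.tH le_rfl h.tt])
    (fun i j => by
      fin_cases i <;> fin_cases j <;>
        simp [C4, Φ4, ΦC, CΦ, cfdot_sh h.tH, o C CE Φ ΦE, o C CE C CE, cfdot_symm_zero (o C CE Φ ΦE),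
          cfdot_symm_zero (o C CE C CE)])
    (fun i => by
      fin_cases i
      · simpa using ev_zero
      · simpa using eΦ.sub (ev_sh Φz h.tH le_rfl h.tt)
      · simpa using (ev_sh Cz h.tH le_rfl h.tt).neg)
    (fun i => by
      fin_cases i
      exacts [C0 1 one_reg, h.sh_E ΦE (one_mem _), h.sh_E CE (one_mem _)])
  have e : Φ = ∑ ψ ∈ T, ψ := by
    rcases hd.cases Φz (fun i => by
      fin_cases i
      exacts [CΦ, cfdot_symm_zero (o Φ ΦE Φ ΦE), cfdot_symm_zero (o Φ ΦE C CE)]) (n := 4)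
      (by rw [Φ4]; norm_num) le_rfl with e | e | e
    · obtain ⟨χ, hχ⟩ := hd.nonempty
      obtain ⟨n, hn⟩ := eΦ.cfdot (Irr_mem_ZIrr (hd.sub hχ))
      rw [cfdot_sub_left, cfdot_symm_zero (e χ hχ)] at hn
      rcases hd.sign 0 χ hχ with a | a <;> change ⟪C, χ⟫[_] = _ at a <;> rw [a] at hn
      · have : (0 - 1 : ℤ) = 2 * n := by exact_mod_cast hn
        omega
      · have : (0 - -1 : ℤ) = 2 * n := by exact_mod_cast hn
        omega
    · exact e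
    · have a := congrFun e 1
      rw [hΦ, h.Ph_one hη hη1 hν, Pi.neg_apply, Finset.sum_apply,
        Finset.sum_congr rfl fun ψ hψ => (Irr_deg_cast (hd.sub hψ)).symm, ← Nat.cast_sum] at a
      have b : (4 * f * (q - 1) : ℤ) = -(∑ ψ ∈ T, deg ψ : ℕ) := by exact_mod_cast a
      have := h.q_le; have := h.oddf.pos
      have : (0 : ℤ) < 4 * f * (q - 1) := mul_pos (by omega) (by omega)
      omega
  have hT : ξ ∈ T := by
    by_contra a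
    rw [e, cfdot_sum_left] at h0
    exact h0 (Finset.sum_eq_zero fun ψ hψ => cfdot_Irr_of_ne (hd.sub hψ) hξ fun b => a (b ▸ hψ))
  funext x
  by_cases hx : x ∈ Reg 2 G
  · rw [Pi.smul_apply, Set.indicator_of_mem hx, smul_eq_mul]
    by_cases hx' : x ∈ 𝒞[t]
    · rw [e]
      refine hd.eq_on hT fun i => ?_
      fin_cases i
      exacts [C0 x hx, h.sh_E ΦE (h.mem_E hx' hx), h.sh_E CE (h.mem_E hx' hx)]
    · rw [Irr_supp hξ x hx', ZIrr_supp Φz x hx', mul_zero]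
  · rw [Pi.smul_apply, Set.indicator_of_notMem hx, smul_zero, Φo.2 x hx]

/-- The other characters are constant on `S#`. -/
theorem of_orth (hξ : ξ ∈ Irr 𝒞[t])
    (h0 : ∀ ν ∈ Irr S, ν ≠ cf1 S → ⟪Ph t P S η ν, ξ⟫[𝒞[t]] = 0) :
    ∃ b k : ℤ, (deg ξ : ℤ) = b + 2 * k ∧ ∀ s ∈ S, s ≠ 1 → ξ s = b := by
  have hz := Irr_mem_ZIrr hξ
  obtain ⟨k, hk⟩ := ZIrr_cfdot_of_le h.PH hz (add_mem (Irr_mem_ZIrr hη) (ZIrr_star (Irr_mem_ZIrr hη)))
  obtain ⟨a, ha⟩ := ZIrr_cfdot_of_le h.SH hz (cf1_mem_ZIrr S)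
  have k1 : ∀ x ∈ S, ξ x = a - 2 * k + 2 * k * if x = 1 then (Nat.card S : ℂ) else 0 := fun x hx => by
    rw [← sum_Irr_deg_mul, ← Res_of_mem (K := S) (φ := ξ) hx,
      CF_apply_eq_sum (Res_mem_CF h.SH (Irr_mem_CF hξ)) x, Finset.mul_sum,
      ← Finset.add_sum_erase _ _ (cf1_mem_Irr S), ← Finset.add_sum_erase _ _ (cf1_mem_Irr S),
      cfdot_Res_left, ha, cf1_of_mem hx, cf1_one, Finset.sum_congr rfl fun ν hν => ?_]
    · ring
    obtain ⟨n1, n2⟩ := Finset.mem_erase.1 hν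
    have := h.cfdot_Ph (η := η) (ν := ν) (Irr_inv hξ)
    rw [cfdot_symm_zero (h0 ν n2 n1), hk] at this
    rw [cfdot_Res_left, (h.lin n2).2, one_mul]
    congr 1; linear_combination this
  refine ⟨a - 2 * k, k * m, ?_, fun s hs h1 => by rw [k1 s hs, if_neg h1]; push_cast; ring⟩
  have := k1 1 (one_mem _)
  rw [← Irr_deg_cast hξ, if_pos rfl, h.cardS] at this
  exact_mod_cast this.trans (by ring : _ = (a - 2 * k + 2 * (k * m) : ℂ))

end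

theorem exists_odd : ∃ o, Odd o ∧ Nat.card E = 4 * o := by
  obtain ⟨n, hn⟩ : ∃ n, q = 2 * n + 1 ∧ Odd n := by
    obtain ⟨k, hk⟩ := h.oddm; have := h.qm
    exact ⟨4 * k + 1, by omega, by simp [parity_simps]⟩
  refine ⟨f * q * n * m, ((h.oddf.mul (h.cardP ▸ h.oddP)).mul hn.2).mul h.oddm, ?_⟩
  have a := h.cardE
  have b : q ^ 2 - 1 = 2 * n * (4 * m) := by
    rw [h.qm, hn.1]; exact Nat.sub_eq_of_eq_add (by ring)
  rw [b] at a; linarith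

/-- Characters of degree divisible by four. -/
theorem of_four (hξ : ξ ∈ Irr 𝒞[t]) (h4 : 4 ∣ deg ξ) :
    (2 : ℂ) • (Reg 2 G).indicator ξ ∈ ZIrr 𝒞[t] ∧
      ∃ n : ℕ, n ≤ 4 ∧ cfnorm 𝒞[t] ((2 : ℂ) • (Reg 2 G).indicator ξ) = n := by
  have z1 : zpowers t ≤ 𝒞[t] := zpowers_le.2 h.tH
  obtain ⟨o, ho, hE⟩ := h.exists_odd
  have i1 : (zpowers t).relIndex 𝒞[t] = 4 * o := by
    have := relIndex_mul_card' z1
    rw [h.card_two le_rfl h.tH, inf_of_le_left h.Ele, hE, Nat.card_zpowers, h.two.ha] at this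
    omega
  have d1 : deg ξ ∣ 4 * o := i1 ▸ H4.charDegree_dvd_index_of_norm_eq (mem_Irr.1 hξ).2 _ fun y hy =>
    H3.IsIrrCharacter_norm_eq_of_mem_center (mem_Irr.1 hξ).2 (mem_center_iff.2 fun c => Subtype.ext (by
      obtain ⟨k, hk⟩ := mem_subgroupOf.1 hy
      rw [coe_mul, coe_mul, ← hk]
      exact (Commute.zpow_right (mem_cent1.1 c.2) k).eq))
  have f1 : ∀ o, Odd o → (4 * o).factorization 2 = 2 := fun o ho => by
    rw [Nat.factorization_mul (by decide) ho.pos.ne', Finsupp.add_apply,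
      Nat.factorization_eq_zero_of_not_dvd ho.not_two_dvd_nat]
    exact (Nat.Prime.factorization_pow (k := 2) Nat.prime_two ▸ by simp :
      (2 ^ 2).factorization 2 = 2)
  have hd : (deg ξ).factorization 2 = ((zpowers t).relIndex 𝒞[t]).factorization 2 := by
    obtain ⟨d, e⟩ := h4
    rw [e] at d1
    rw [e, i1, f1 o ho, f1 d (ho.of_dvd_nat (Nat.dvd_of_mul_dvd_mul_left (by decide) d1))]
  have e : (Reg 2 G).indicator ξ = Res E ξ := by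
    funext x
    by_cases hx : x ∈ Reg 2 G
    · rw [Set.indicator_of_mem hx, Res_apply]
      split_ifs with a
      exacts [rfl, Irr_supp hξ x fun b => a (h.mem_E b hx)]
    · rw [Set.indicator_of_notMem hx, Res_apply]
      split_ifs with a
      · refine (vanish hξ h.tH le_rfl (IsPGroup.of_card (n := 1)
          (by rw [Nat.card_zpowers, h.two.ha, pow_one])) hd (h.Ele a) fun b => ?_).symm
        rcases (ZD.mem_zpowers_two' h.tt).1 b with c | c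
        exacts [hx (H5.pPart_eq_one_iff.1 c), h.tE (c ▸ H5.pPart_mem a)]
      · rfl
  have z : (2 : ℂ) • Res E ξ ∈ ZIrr 𝒞[t] := by
    have := ZIrr_Ind (ZIrr_Res (Irr_mem_ZIrr hξ) h.Ele) h.Ele
    rwa [Ind_Res, Res_Ind_of_inv h.normalE (Irr_inv hξ), h.relIndex_E le_rfl h.tH] at this
  rw [e]
  obtain ⟨n, hn⟩ := ZIrr_cfnorm z
  refine ⟨z, n, ?_, hn⟩
  have a := cfnorm_add_of_orth (L := 𝒞[t]) (φ := Res E ξ) (ψ := ξ - Res E ξ)
    (cfdot_eq_zero_of_supp (Res_mem_supp E ξ) fun x hx _ => by simp [Res_of_mem hx])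
  rw [add_sub_cancel, cfnorm_Irr hξ] at a
  rw [cfnorm_smul] at hn
  have b := cfnorm_nonneg 𝒞[t] (ξ - Res E ξ)
  have : (n : ℝ) ≤ 4 := by rw [← hn]; norm_num; linarith
  exact_mod_cast this

theorem wV (j : ℕ) : w ^ j ∈ 𝒩(V4 t v) := pow_mem (h.cyc.mem_norm h.two) j
theorem wS (j : ℕ) : w ^ j ∈ 𝒩(S) := h.normS (h.wV j)

theorem w_conj (j : Fin 3) : w ^ (j : ℕ) * t * (w ^ (j : ℕ))⁻¹ = ![t, v, t * v] j := by
  fin_cases j
  · simp
  · simpa using h.cyc.ab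
  · calc _ = w * (w * t * w⁻¹) * w⁻¹ := by simp only [pow_two, mul_assoc, mul_inv_rev]
      _ = _ := by rw [h.cyc.ab, h.cyc.bc]; rfl

theorem w_inj {i j : Fin 3} (e : (w ^ (i : ℕ))⁻¹ * w ^ (j : ℕ) ∈ 𝒞[t]) : i = j := by
  have a : ![t, v, t * v] j = ![t, v, t * v] i := by
    rw [← h.w_conj, ← h.w_conj]
    calc _ = w ^ (i : ℕ) * ((w ^ (i : ℕ))⁻¹ * w ^ (j : ℕ) * t) * (w ^ (j : ℕ))⁻¹ := by group
      _ = _ := by rw [mem_cent1.1 e]; group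
  have a1 := h.two.ne; have a2 := h.two.left.ne; have a3 := h.two.right.ne
  fin_cases i <;> fin_cases j <;> simp_all

theorem Ind_s (hφ : φ ∈ CF 𝒞[t]) (hs : s ∈ S) (h1 : s ≠ 1) :
    Ind 𝒞[t] ⊤ φ s = ∑ j : Fin 3, cfConj (w ^ (j : ℕ)) φ s := by
  have key : ∀ g, Res 𝒞[t] φ (g * s * g⁻¹) =
      ∑ j : Fin 3, cf1 𝒞[t] (g * w ^ (j : ℕ)) * cfConj (w ^ (j : ℕ)) φ s := fun g => by
    by_cases e : ∃ j : Fin 3, g * w ^ (j : ℕ) ∈ 𝒞[t]
    · obtain ⟨j, e⟩ := e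
      rw [Finset.sum_eq_single j (fun i _ hi => by
        rw [cf1_of_not_mem fun a => hi (h.w_inj (by simpa using mul_mem (inv_mem a) e)), zero_mul])
        (by simp), cf1_of_mem e, one_mul, Res_eq_self hφ.1, cfConj_apply,
        ← CF_conj hφ e ((w ^ (j : ℕ))⁻¹ * s * w ^ (j : ℕ))]
      congr 1; group
    · rw [Finset.sum_eq_zero fun j _ => by rw [cf1_of_not_mem fun a => e ⟨j, a⟩, zero_mul]]
      refine Res_of_not_mem fun a => e ?_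
      have b : g⁻¹ * t * g⁻¹⁻¹ ∈ V4 t v ⊔ S := (h.centS s hs h1).le (mem_cent1.2 (by
        calc g⁻¹ * t * g⁻¹⁻¹ * s = g⁻¹ * (t * (g * s * g⁻¹)) * g := by group
          _ = _ := by rw [← mem_cent1.1 a]; group))
      have o : orderOf (g⁻¹ * t * g⁻¹⁻¹) = 2 := by rw [H6.orderOf_conj, h.two.ha]
      have c : ∃ j, g⁻¹ * t * g⁻¹⁻¹ = ![t, v, t * v] j := by
        rcases h.two.mem_iff.1 (mem_of_mem_sup_odd h.oddS
          ((le_centralizer_iff.1 h.V_le).trans cent_le_norm) b o) with c | c | c | c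
        exacts [absurd c (H6.ne_one_of_orderOf_two o), ⟨0, c⟩, ⟨1, c⟩, ⟨2, c⟩]
      obtain ⟨j, c⟩ := c
      rw [← h.w_conj] at c
      exact ⟨j, mem_cent1.2 (by
        calc g * w ^ (j : ℕ) * t = g * (w ^ (j : ℕ) * t * (w ^ (j : ℕ))⁻¹) * w ^ (j : ℕ) := by group
          _ = _ := by rw [← c]; group)⟩
  rw [Ind_of_mem (mem_top s), Finset.sum_congr rfl fun g _ => key g, Finset.sum_comm, Finset.mul_sum]
  refine Finset.sum_congr rfl fun j _ => ?_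
  rw [← Finset.sum_mul, sum_fs_mul_right (mem_top _) (cf1 𝒞[t]),
    ← sum_fs_subset (A := 𝒞[t]) (B := (⊤ : Subgroup G)) (f := cf1 𝒞[t]) (fun x _ => mem_top x)
      fun x _ hx => cf1_of_not_mem hx,
    Finset.sum_congr rfl fun x hx => cf1_of_mem (mem_fs.1 hx), Finset.sum_const, card_fs_subgroup,
    nsmul_eq_mul, mul_one, inv_mul_cancel_left₀ (cardC_ne_zero _)]

theorem icc (hξ : ξ ∈ Irr 𝒞[t]) (hs : s ∈ S) (h1 : s ≠ 1) :
    inducedCentralChar 𝒞[t] (fun y => ξ y) s =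
      f * q * (q - 1) * (∑ j : Fin 3, cfConj (w ^ (j : ℕ)) ξ s) / ξ 1 := by
  have a := congrArg (Nat.cast (R := ℂ)) (𝒞[s]).index_mul_card
  have b := congrArg (Nat.cast (R := ℂ)) (𝒞[t]).index_mul_card
  rw [Nat.cast_mul, h.centS s hs h1, h.cardY] at a
  rw [Nat.cast_mul, h.cardH, ← a] at b
  have c : ((𝒞[t]).index : ℂ) ≠ 0 := by exact_mod_cast index_ne_zero_of_finite
  rw [icc_eq_Ind, centralChar, h.Ind_s (Irr_mem_CF hξ) hs h1, Ind_one le_top, relIndex_top_right,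
    h.centS s hs h1]
  have d : ((V4 t v ⊔ S).index : ℂ) = (𝒞[t]).index * (f * q * (q - 1)) :=
    mul_right_cancel₀ (mul_ne_zero (by norm_num : (4 : ℂ) ≠ 0) h.m_ne) (by
      push_cast at b; rw [← b, h.qmC]; ring)
  have := Irr_one_ne_zero hξ
  rw [d]; field_simp

section
variable (hμ : μ ∈ Irr S) (hμ1 : μ ≠ cf1 S)
include hμ hμ1

theorem mu_mem (j : ℕ) : cfConj (w ^ j) μ ∈ Irr S := cfConj_mem_Irr_of_norm hμ (h.wS j)

theorem mu_ne (j : ℕ) : cfConj (w ^ j) μ ≠ cf1 S := fun e =>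
  hμ1 (cfConj_injective _ (e.trans (cfConj_cf1_of_norm (h.wS j)).symm))

omit hμ hμ1 in
theorem wC (j : ℕ) : w ^ j ∈ 𝒩(𝒞[t] ⊓ 𝒞[v]) :=
  h.two.cent_eq ▸ H1.normalizer_le_normalizer_centralizer _ (h.wV j)

omit hμ hμ1 in
theorem conj_Ps (j : ℕ) : cfConj (w ^ j) (Ps t v S μ) = Ps t v S (cfConj (w ^ j) μ) := by
  rw [cfConj_Ind, H6.cj_eq_self_iff.2 (h.wS j), H6.cj_eq_self_iff.2 (h.wC j)]

theorem Ps_Ps (i j : Fin 3) : ⟪Ps t v S (cfConj (w ^ (i : ℕ)) μ), Ps t v S (cfConj (w ^ (j : ℕ)) μ)⟫[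
    𝒞[t] ⊓ 𝒞[v]] = if i = j then 4 else 0 := by
  split_ifs with e
  · rw [e]; exact h.Ps_self (h.mu_mem hμ hμ1 j) (h.mu_ne hμ hμ1 j)
  refine cfdot_Ind_of_not_mem_cfclass h.normalS (h.mu_mem hμ hμ1 j) (h.mu_mem hμ hμ1 i) fun a => ?_
  obtain ⟨c, hc, a⟩ := mem_cfclass.1 a
  have b := h.Y_le (h.mem_Y hμ hμ1 (g := (w ^ (i : ℕ))⁻¹ * c * w ^ (j : ℕ))
    (mul_mem (mul_mem (inv_mem (h.wS i)) (h.normalS.norm hc)) (h.wS j))
    (by rw [cfConj_mul, cfConj_mul, a, cfConj_inv_cfConj]))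
  have d := (mem_normalizer_iff.1 (inv_mem (h.wC i)) c).1 hc
  exact e (h.w_inj (by simpa [mul_assoc] using mul_mem (inv_mem (mem_inf.1 d).1) (mem_inf.1 b).1))

end

end CH

end Cfsg.Agent.RE
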