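import Cfsg.Agent.Lib.G74.Main
import Cfsg.Agent.Lib.AB.B

/-!
# Groups without real elements of order three: definitions
-/

set_option autoImplicit false

namespace Cfsg.Agent.RE

open Subgroup Cfsg.Agent.FT Cfsg.Agent.GW
open Cfsg.Agent.H6 hiding Op cent_sup fit_le le_fit
open scoped commutatorElement

universe u

variable {G : Type*} [Group G]

/-- No element of order three is real. -/
def NR (G : Type*) [Group G] : Prop := ∀ x : G, orderOf x = 3 → ¬ IsConj x x⁻¹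

/-- `q = 3 ^ (2 f + 1)` with `f ≥ 1`. -/
def Q3 (q : ℕ) : Prop := ∃ f, 1 ≤ f ∧ q = 3 ^ (2 * f + 1)

/-- `G ≅ PSL(2, 3 ^ (2 f + 1))` with `f ≥ 1`. -/
def L3 (G : Type*) [Group G] : Prop := ∃ q, Q3 q ∧ IsL2 G q

/-- `A` is an elementary abelian Sylow 2-subgroup of order eight. -/
structure E8 (A : Subgroup G) : Prop where
  syl : Syl 2 A ⊤
  card : Nat.card A = 8
  sq : ∀ a ∈ A, a * a = 1

/-- `N(A)` is transitive on the involutions of `A`. -/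
def Trs (A : Subgroup G) : Prop :=
  ∀ a ∈ A, a ≠ 1 → ∀ b ∈ A, b ≠ 1 → ∃ g ∈ 𝒩(A), g * a * g⁻¹ = b

/-- The four-group `V_b` of `A` belonging to the involution `b`. -/
def Vb (A : Subgroup G) (b : G) : Subgroup G := ⁅A, 𝒩(A) ⊓ 𝒞[b]⁆

/-- `w` normalizes `A`, fixes `b` and does not centralize `A`. -/
structure Wb (A : Subgroup G) (b w : G) : Prop where
  mem : b ∈ A
  ne : b ≠ 1
  norm : w ∈ 𝒩(A)
  cent : w ∈ 𝒞[b]
  ncent : w ∉ 𝒞(A)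

/-- The minimal counterexample (a simple group). -/
structure Min {G : Type u} [Group G] (A : Subgroup G) : Prop extends E8 A where
  nr : NR G
  tr : Trs A
  nse : ¬ G74.SE G
  ih : ∀ (K : Type u) [Group K] [Finite K] [IsSimpleGroup K], Nat.card K < Nat.card G →
    ¬ IsMulCommutative K → NR K → AB.Ab2 K → L3 K

/-- `X` is a proper overgroup of `A` of type `b`. -/
structure Ty (A X : Subgroup G) (b : G) : Prop where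
  le : A ≤ X
  ne_top : X ≠ ⊤
  mem : b ∈ A
  ne : b ≠ 1
  ns : ¬ Group.IsSolvable (X ⊓ 𝒞[b] : Subgroup G)

/-- `X = ⟨b⟩ × E` and `PSL(2, q) ≅ L ⊴ E ≤ Aut(L)`, `q = 3 ^ (2 f + 1)`. -/
structure TQ (X : Subgroup G) (b : G) (E L : Subgroup G) (q : ℕ) : Prop where
  ord : orderOf b = 2
  mem : b ∈ X
  cent : X ≤ 𝒞[b]
  le : E ≤ X
  nmem : b ∉ E
  cover : ∀ x ∈ X, x ∈ E ∨ b * x ∈ E
  lt : LT E L q
  q3 : Q3 q

/-- The configuration after `O(C(t)) = 1`. -/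
structure St {G : Type u} [Group G] (A : Subgroup G) (t v : G) (E L : Subgroup G) (q : ℕ) :
    Prop where
  min : Min A
  tq : TQ 𝒞[t] t E L q
  tA : t ∈ A
  vA : v ∈ A
  vL : v ∈ L
  v1 : v ≠ 1

/-- The structure of `C(u)`: `⟨t⟩` is a Sylow 2-subgroup, `K = [C(u), t]` is inverted by `t`. -/
structure KU (t u : G) (K : Subgroup G) : Prop where
  le : K ≤ 𝒞[u]
  norm : 𝒞[u] ≤ 𝒩(K)
  odd : Odd (Nat.card K)
  three : ¬ 3 ∣ Nat.card K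
  inv : ∀ k ∈ K, t * k * t⁻¹ = k⁻¹
  comm : ∀ x ∈ 𝒞[u], x * t * x⁻¹ * t⁻¹ ∈ K
  syl : Syl 2 (zpowers t) 𝒞[u]

/-- The data used by the character theory. -/
structure CH (t v w u : G) (E B P S K : Subgroup G) (q m f : ℕ) : Prop where
  two : Two t v
  cyc : Cyc w t v
  Ele : E ≤ 𝒞[t]
  tE : t ∉ E
  cover : ∀ x ∈ 𝒞[t], x ∈ E ∨ t * x ∈ E
  vE : v ∈ E
  cardE : 2 * Nat.card E = f * q * (q ^ 2 - 1)
  oddf : Odd f
  PB : P ≤ B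
  BE : B ≤ E
  BN : B ≤ 𝒩(P)
  P3 : IsPGroup 3 P
  Pab : IsMulCommutative P
  cardP : Nat.card P = q
  cardB : 2 * Nat.card B = q * (q - 1)
  cardN : Nat.card (E ⊓ 𝒩(P) : Subgroup G) = f * Nat.card B
  centB : ∀ x ∈ P, x ≠ 1 → B ⊓ 𝒞[x] = P
  orb : ∀ x ∈ P, x ≠ 1 → ∀ y ∈ P, y ≠ 1 → ∃ g ∈ B, g * x * g⁻¹ = y ∨ g * x * g⁻¹ = y⁻¹
  tiP : ∀ x ∈ P, x ≠ 1 → ∀ g ∈ E, g * x * g⁻¹ ∈ P → g ∈ 𝒩(P)
  SE : S ≤ E
  Sab : IsMulCommutative S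
  cardS : Nat.card S = m
  oddm : Odd m
  qm : 4 * m = q + 1
  m1 : 1 < m
  normS : 𝒩(V4 t v) ≤ 𝒩(S)
  tiS : ∀ s ∈ S, s ≠ 1 → ∀ g : G, g * s * g⁻¹ ∈ S → g ∈ 𝒩(V4 t v)
  centS : ∀ s ∈ S, s ≠ 1 → 𝒞[s] = V4 t v ⊔ S
  cardC : Nat.card (E ⊓ 𝒞[v] : Subgroup G) = 4 * m * f
  normV : 𝒩(V4 t v) ⊓ 𝒞[t] ≤ 𝒞[v]
  uP : u ∈ P
  u1 : u ≠ 1
  ku : KU t u K

end Cfsg.Agent.RE
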