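import Cfsg.Agent.Lib.RE.Defs

/-!
# The action of `N(A)` on an elementary abelian Sylow 2-subgroup of order eight
-/

set_option autoImplicit false
set_option linter.unusedVariables false
set_option linter.unusedSectionVars false

namespace Cfsg.Agent.RE

open Subgroup Cfsg.Agent.FT Cfsg.Agent.GW
open Cfsg.Agent.H6 hiding Op cent_sup fit_le le_fit
open scoped commutatorElement

universe u

variable {G : Type*} [Group G] [Finite G] {A B D E H K L M N P Q R S T U V X Y : Subgroup G}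
  {p q m f : ℕ} {a b c d g k s t u v w x y z φ : G}

theorem E8.two (e : E8 A) : IsPGroup 2 A := e.syl.isPGroup

theorem E8.le_cent (e : E8 A) : A ≤ 𝒞(A) := fun x hx => mem_cent.2 fun y hy =>
  G74.comm_of_sq e.sq hy hx

theorem E8.comm (e : E8 A) : IsMulCommutative A := comm_iff.2 e.le_cent

theorem E8.ord (e : E8 A) (ha : a ∈ A) (h1 : a ≠ 1) : orderOf a = 2 :=
  orderOf_eq_prime (by rw [pow_two, e.sq a ha]) h1

theorem E8.two_of (e : E8 A) (ha : a ∈ A) (h1 : a ≠ 1) (hb : b ∈ A) (h2 : b ≠ 1) (h3 : a ≠ b) :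
    Two a b := ⟨e.ord ha h1, e.ord hb h2, h3, G74.comm_of_sq e.sq ha hb⟩

theorem E8.syl' (e : E8 A) (hX : A ≤ X) : Syl 2 A X := e.syl.mono hX le_top

theorem E8.ab2 (e : E8 A) : AB.Ab2 G := fun P hP => by
  obtain ⟨g, -, h⟩ := e.syl.exists_le_cj hP le_top
  refine comm_iff.2 (h.trans (le_trans ?_ (centralizer_le h)))
  rw [← cj_centralizer]; exact cj_mono g e.le_cent

theorem E8.ex2 (e : E8 A) (M : Subgroup G) : BD.P1.Ex2 M := by
  obtain ⟨k, n, hn, h⟩ := Nat.exists_eq_two_pow_mul_odd (Nat.card_pos (α := G)).ne'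
  refine ⟨n, hn, fun g _ => ?_⟩
  obtain ⟨c, -, hc⟩ := e.syl.exists_cj_le (Q := zpowers (g ^ n))
    (((Nat.dvd_prime_pow Nat.prime_two).1 (orderOf_dvd_of_pow_eq_one (x := g ^ n) (n := 2 ^ k)
      (by rw [← pow_mul, mul_comm, ← h, pow_card_eq_one']))).elim fun j hj =>
        IsPGroup.of_card (by rw [Nat.card_zpowers, hj.2])) le_top
  have := e.sq _ (hc (conj_mem_cj (mem_zpowers _)))
  rwa [conj_mul, conj_eq_one_iff, ← pow_add, ← two_mul] at this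

theorem E8.za (e : E8 A) : G74.ZA (G75.cls A) A :=
  G74.za_of_closed (syl_iff_sylIn.1 e.syl) ⟨le_rfl, fun _ _ _ h => h⟩ e.sq

theorem E8.odd (e : E8 A) : Odd (𝒞(A).relIndex 𝒩(A)) :=
  Nat.not_even_iff_odd.1 fun h =>
    (e.syl' le_normalizer).not_dvd_relIndex_of_le e.le_cent h.two_dvd

theorem fano_comm_le (hX : X ≤ 𝒞(A) ⊔ Y) (hY : Y ≤ 𝒩(A)) : ⁅A, X⁆ ≤ ⁅A, Y⁆ :=
  commutator_le.2 fun a ha x hx => by
    obtain ⟨c, hc, y, hy, rfl⟩ := NormalIn.exists_mul_of_mem_sup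
      (hY.trans (H1.normalizer_le_normalizer_centralizer A)) (hX hx)
    have := mem_cent.1 hc _ ((mem_normalizer_iff.1 (hY hy) _).1 (inv_mem ha))
    rw [show ⁅a, c * y⁆ = a * (c * (y * a⁻¹ * y⁻¹)) * c⁻¹ by group, ← this,
      show a * (y * a⁻¹ * y⁻¹ * c) * c⁻¹ = ⁅a, y⁆ by group]
    exact commutator_mem_commutator ha hy

theorem E8.dp (e : E8 A) (hw : w ∈ 𝒩(A)) : DP ⁅A, zpowers w⁆ (A ⊓ 𝒞[w]) A := by
  have h1 : H5.pPart 2 w ∈ 𝒞(A) := e.le_cent (e.syl.le_of_le_normalizer' (U := zpowers _)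
    ((H5.pPart_pElt w).elim fun k hk => IsPGroup.of_card (by rw [Nat.card_zpowers, hk])) le_top
    (zpowers_le.2 (H5.pPart_mem hw)) (mem_zpowers _))
  have h2 : zpowers (H5.pPart' 2 w) ≤ 𝒩(A) := zpowers_le.2 (H5.pPart'_mem hw)
  have := coprime_abelian_cent_dprod h2 (by
    rw [e.card, Nat.card_zpowers]
    exact Nat.Coprime.pow_left 3 ((Nat.Prime.coprime_iff_not_dvd Nat.prime_two).2
      (H5.pPart'_pReg w))) e.comm
  rw [cent_zpowers] at this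
  convert this using 1
  · refine le_antisymm (fano_comm_le (zpowers_le.2 ?_) h2)
      (commutator_mono le_rfl (zpowers_le.2 (H5.pPart'_mem_zpowers w)))
    nth_rewrite 2 [← H5.pPart_mul_pPart' (p := 2) w]
    exact mul_mem_sup h1 (mem_zpowers _)
  · ext x
    refine and_congr_right fun hx => ?_
    change x ∈ 𝒞[w] ↔ x ∈ 𝒞[_]
    rw [mem_cent1_comm, mem_cent1_comm (y := x),
      ← mul_mem_cancel_left (y := H5.pPart' 2 w) (cent_le_cent1 hx h1), H5.pPart_mul_pPart']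

section
variable (e : E8 A) (h : Wb A b w)
include e h

theorem Wb.cards : Nat.card (⁅A, zpowers w⁆ : Subgroup G) = 4 ∧ A ⊓ 𝒞[w] = zpowers b := by
  have d := e.dp h.norm
  have c := d.card_mul
  have l : zpowers b ≤ A ⊓ 𝒞[w] := zpowers_le.2 ⟨h.mem, mem_cent1_comm.1 h.cent⟩
  have c1 := card_le_of_le l
  rw [Nat.card_zpowers, e.ord h.mem h.ne] at c1
  have n1 : Nat.card (⁅A, zpowers w⁆ : Subgroup G) ≠ 1 := fun a => h.ncent
    (le_centralizer_iff.1 (commutator_eq_bot_iff_le_centralizer.1 (card_eq_one.1 a)) (mem_zpowers w))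
  have n2 : Nat.card (⁅A, zpowers w⁆ : Subgroup G) ≠ 2 := fun a => by
    obtain ⟨x, hx⟩ := (ne_bot_iff_exists_ne_one.1 fun b => n1 (card_eq_one.2 b))
    have x1 : (x : G) ≠ 1 := fun b => hx (Subtype.ext b)
    have := H9.eq_of_card_two a ((mem_normalizer_iff.1 (mem_norm_comm_zpowers A w) _).1 x.2)
      (by simpa using x1) x.2 x1
    exact x1 (d.eq_one x.2 ⟨d.left_le x.2, mem_cent1.2 (mul_inv_eq_iff_eq_mul.1 this).symm⟩)
  rw [e.card] at c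
  have c2 : Nat.card (⁅A, zpowers w⁆ : Subgroup G) = 4 := by
    have : Nat.card (⁅A, zpowers w⁆ : Subgroup G) ≤ 4 := by nlinarith
    generalize Nat.card (⁅A, zpowers w⁆ : Subgroup G) = n at *
    interval_cases n <;> omega
  refine ⟨c2, (eq_of_le_of_card_ge l ?_).symm⟩
  rw [Nat.card_zpowers, e.ord h.mem h.ne]; rw [c2] at c; omega

theorem Wb.inf_cent : A ⊓ 𝒞[w] = zpowers b := (h.cards e).2

theorem Wb.cover' (hx : x ∈ A) : x ∈ ⁅A, zpowers w⁆ ∨ b * x ∈ ⁅A, zpowers w⁆ := by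
  obtain ⟨c, hc, y, hy, rfl⟩ := (e.dp h.norm).symm.exists_mul hx
  rw [h.inf_cent e] at hc
  rcases (ZD.mem_zpowers_two' (e.sq b h.mem)).1 hc with rfl | rfl
  · left; rwa [one_mul]
  · right; rwa [← mul_assoc, e.sq _ h.mem, one_mul]

theorem Wb.cyc' (hv : v ∈ ⁅A, zpowers w⁆) (h1 : v ≠ 1) :
    ∃ v', Two v v' ∧ V4 v v' = ⁅A, zpowers w⁆ ∧ Cyc w v v' := by
  have d := e.dp h.norm
  have m : ∀ x ∈ ⁅A, zpowers w⁆, w * x * w⁻¹ ∈ ⁅A, zpowers w⁆ := fun x hx =>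
    (mem_normalizer_iff.1 (mem_norm_comm_zpowers A w) _).1 hx
  have n : ∀ x ∈ ⁅A, zpowers w⁆, x ≠ 1 → w * x * w⁻¹ ≠ x := fun x hx x1 a =>
    x1 (d.eq_one hx ⟨d.left_le hx, mem_cent1.2 (mul_inv_eq_iff_eq_mul.1 a).symm⟩)
  have t := e.two_of (d.left_le hv) h1 (d.left_le (m v hv)) (by simpa using h1) (n v hv h1).symm
  have q : V4 v (w * v * w⁻¹) = ⁅A, zpowers w⁆ := eq_of_le_of_card_ge
    ((closure_le _).2 (Set.pair_subset hv (m v hv))) (by rw [t.card, (h.cards e).1])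
  refine ⟨_, t, q, rfl, ?_⟩
  rcases t.mem_iff.1 (q.ge (m _ (m v hv))) with a | a | a | a
  · exact absurd (by simpa using a) h1
  · refine absurd ?_ (n _ (q.le t.ab_mem) t.left.b_ne)
    rw [← conj_mul, a, t.comm]
  · exact absurd a (n _ (m v hv) t.b_ne)
  · exact a

theorem Wb.trans' (hx : x ∈ ⁅A, zpowers w⁆) (h1 : x ≠ 1) (hy : y ∈ ⁅A, zpowers w⁆) (h2 : y ≠ 1) :
    ∃ z ∈ zpowers w, z * x * z⁻¹ = y := by
  obtain ⟨x', t, q, c⟩ := h.cyc' e hx h1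
  rcases t.mem_iff.1 (q.ge hy) with a | a | a | a
  · exact absurd a h2
  · exact ⟨1, one_mem _, by simp [a]⟩
  · exact ⟨w, mem_zpowers w, a ▸ c.ab⟩
  · exact ⟨w⁻¹, inv_mem (mem_zpowers w), by rw [a, ← c.ca t]; nth_rewrite 2 [c.ca t]; group⟩

end

theorem E8.mem_cent (e : E8 A) (hg : g ∈ 𝒩(A)) (ha : a ∈ A) (hb : b ∈ A) (h2 : Two a b)
    (h3 : g ∈ 𝒞[a]) (h4 : g ∈ 𝒞[b]) : g ∈ 𝒞(A) := by
  by_contra n
  rcases (ZD.mem_zpowers_two' h2.aa).1 ((Wb.inf_cent e ⟨ha, h2.a_ne, hg, h3, n⟩).le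
    ⟨hb, mem_cent1_comm.1 h4⟩) with c | c
  exacts [h2.b_ne c, h2.ne c.symm]

/-- Burnside. -/
theorem E8.cent_eq (e : E8 A) : 𝒞(A) = A ⊔ OO 𝒞(A) := by
  rw [sup_comm, (Burnside_normal_complement Nat.prime_two (e.syl' e.le_cent) inf_le_left).sup_eq]

/-- Involutions of an overgroup of `N(A)` are conjugate. -/
theorem E8.oneClass (e : E8 A) (ht : Trs A) (hX : 𝒩(A) ≤ X) : OneClass X := by
  intro a ha b hb h1 h2
  have k : ∀ a ∈ X, orderOf a = 2 → ∃ g ∈ X, g * a * g⁻¹ ∈ A := fun a ha h1 =>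
    ((e.syl' (le_normalizer.trans hX)).exists_cj_le (IsPGroup.of_card (n := 1)
      (by rw [Nat.card_zpowers, h1, pow_one])) (zpowers_le.2 ha)).imp fun g hg =>
        ⟨hg.1, hg.2 (conj_mem_cj (mem_zpowers a))⟩
  obtain ⟨g, hg, g1⟩ := k a ha h1
  obtain ⟨k, hk, k1⟩ := k b hb h2
  obtain ⟨n, hn, e1⟩ := ht _ g1 (by simpa using ne_one_of_orderOf_two h1) _ k1
    (by simpa using ne_one_of_orderOf_two h2)
  exact ⟨k⁻¹ * n * g, mul_mem (mul_mem (inv_mem hk) (hX hn)) hg, by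
    calc _ = k⁻¹ * (n * (g * a * g⁻¹) * n⁻¹) * k := by group
      _ = b := by rw [e1]; group⟩

theorem Vb_le : Vb A b ≤ A := commutator_le_left inf_le_left

theorem cj_Vb (hg : g ∈ 𝒩(A)) : cj g (Vb A b) = Vb A (g * b * g⁻¹) := by
  rw [Vb, cj_commutator, cj_inf, cj_normalizer, cj_centralizer_singleton, cj_eq_self_iff.2 hg, Vb]

theorem Wb.cj (h : Wb A b w) (hg : g ∈ 𝒩(A)) : Wb A (g * b * g⁻¹) (g * w * g⁻¹) :=
  ⟨(mem_normalizer_iff.1 hg b).1 h.mem, by simpa using h.ne,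
    mul_mem (mul_mem hg h.norm) (inv_mem hg),
    cj_centralizer_singleton g b ▸ conj_mem_cj h.cent, fun a => h.ncent
      ((mem_normalizer_iff.1 (H1.normalizer_le_normalizer_centralizer A hg) w).2 a)⟩

section
variable (e : E8 A) (h : Wb A b w)
include e h

theorem Wb.exists_v : ∃ v ∈ ⁅A, zpowers w⁆, v ≠ 1 ∧ Two b v := by
  obtain ⟨v, hv⟩ := ne_bot_iff_exists_ne_one.1 (show ⁅A, zpowers w⁆ ≠ ⊥ from fun a => by
    have := (h.cards e).1; rw [a, card_bot] at this; omega)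
  have d := e.dp h.norm
  have v1 : (v : G) ≠ 1 := fun a => hv (Subtype.ext a)
  exact ⟨v, v.2, v1, e.two_of h.mem h.ne (d.left_le v.2) v1 fun a =>
    h.ne (d.eq_one (a ▸ v.2) ⟨h.mem, mem_cent1_comm.1 h.cent⟩)⟩

theorem Wb.cube : w ^ 3 ∈ 𝒞(A) := by
  obtain ⟨v, hv, v1, t⟩ := h.exists_v e
  obtain ⟨v', t', -, c⟩ := h.cyc' e hv v1
  refine e.mem_cent (pow_mem h.norm 3) h.mem ((e.dp h.norm).left_le hv) t (pow_mem h.cent 3)
    (mem_cent1.2 (mul_inv_eq_iff_eq_mul.1 ?_))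
  calc _ = w * (w * (w * v * w⁻¹) * w⁻¹) * w⁻¹ := by
        simp only [pow_succ, pow_zero, one_mul, mul_assoc, mul_inv_rev]
    _ = v := by rw [c.ab, c.bc, c.ca t']

theorem Wb.le_sup : 𝒩(A) ⊓ 𝒞[b] ≤ 𝒞(A) ⊔ zpowers w := fun g hg => by
  obtain ⟨v, hv, v1, t⟩ := h.exists_v e
  have vA := (e.dp h.norm).left_le hv
  have zl : zpowers w ≤ 𝒩(A) ⊓ 𝒞[b] := zpowers_le.2 ⟨h.norm, h.cent⟩
  have gb : g * b * g⁻¹ = b := mul_inv_eq_iff_eq_mul.2 (mem_cent1.1 hg.2)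
  obtain ⟨z, hz, a⟩ : ∃ z ∈ zpowers w, z * g * v * (z * g)⁻¹ = v ∨ z * g * v * (z * g)⁻¹ = b * v := by
    rcases h.cover' e ((mem_normalizer_iff.1 hg.1 v).1 vA) with a | a
    · obtain ⟨z, hz, c⟩ := h.trans' e a (by simpa using v1) hv v1
      exact ⟨z, hz, Or.inl (Eq.trans (by group) c)⟩
    · obtain ⟨z, hz, c⟩ := h.trans' e a (by
        rw [← gb, conj_mul, Ne, conj_eq_one_iff]; exact t.left.b_ne) hv v1
      refine ⟨z, hz, Or.inr ?_⟩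
      calc _ = b * b * z * (g * v * g⁻¹) * z⁻¹ := by rw [t.aa]; group
        _ = b * (z * (b * (g * v * g⁻¹)) * z⁻¹) := by
          rw [mul_assoc b b, ← mem_cent1.1 (zl hz).2]; group
        _ = _ := by rw [c]
  have m : z * g ∈ 𝒩(A) ⊓ 𝒞[b] := mul_mem (zl hz) hg
  refine (mul_mem_cancel_left (mem_sup_right hz)).1 (mem_sup_left ?_)
  by_contra n
  have c3 := Wb.cube e ⟨h.mem, h.ne, m.1, m.2, n⟩
  have c2 : (z * g) ^ 2 ∈ 𝒞(A) := e.mem_cent (pow_mem m.1 2) h.mem vA t (pow_mem m.2 2)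
    (mem_cent1.2 (mul_inv_eq_iff_eq_mul.1 (by
      have zb : z * g * b * (z * g)⁻¹ = b := mul_inv_eq_iff_eq_mul.2 (mem_cent1.1 m.2)
      generalize z * g = y at *
      rw [show y ^ 2 * v * (y ^ 2)⁻¹ = y * (y * v * y⁻¹) * y⁻¹ by
        simp only [pow_two, mul_assoc, mul_inv_rev]]
      rcases a with a | a
      · rw [a, a]
      · rw [a, ← conj_mul, a, zb, t.a_mul_ab])))
  exact n ((mul_mem_cancel_left c2).1 (pow_succ (z * g) 2 ▸ c3))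

theorem Wb.Vb_eq : Vb A b = ⁅A, zpowers w⁆ :=
  le_antisymm (fano_comm_le (h.le_sup e) (zpowers_le.2 h.norm))
    (commutator_mono le_rfl (zpowers_le.2 ⟨h.norm, h.cent⟩))

theorem Wb.card : Nat.card (Vb A b) = 4 := h.Vb_eq e ▸ (h.cards e).1

theorem Wb.nmem : b ∉ Vb A b := fun a =>
  h.ne ((e.dp h.norm).eq_one (h.Vb_eq e ▸ a) ⟨h.mem, mem_cent1_comm.1 h.cent⟩)

theorem Wb.cover (hx : x ∈ A) : x ∈ Vb A b ∨ b * x ∈ Vb A b := h.Vb_eq e ▸ h.cover' e hx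

theorem Wb.trans (hx : x ∈ Vb A b) (h1 : x ≠ 1) (hy : y ∈ Vb A b) (h2 : y ≠ 1) :
    ∃ z ∈ zpowers w, z * x * z⁻¹ = y := h.trans' e (h.Vb_eq e ▸ hx) h1 (h.Vb_eq e ▸ hy) h2

theorem Wb.cyc (hv : v ∈ Vb A b) (h1 : v ≠ 1) :
    ∃ v', Two v v' ∧ V4 v v' = Vb A b ∧ Cyc w v v' := by
  rw [h.Vb_eq e] at hv ⊢; exact h.cyc' e hv h1

theorem Wb.inv_cases (hU : U ≤ A) (hw : w ∈ 𝒩(U)) :
    U = ⊥ ∨ U = zpowers b ∨ U = Vb A b ∨ U = A := by
  by_cases c : ∃ v ∈ U ⊓ Vb A b, v ≠ 1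
  · obtain ⟨v, hv, v1⟩ := c
    have l : Vb A b ≤ U := fun y hy => by
      by_cases y1 : y = 1
      · exact y1 ▸ one_mem U
      obtain ⟨z, hz, rfl⟩ := h.trans e hv.2 v1 hy y1
      exact (mem_normalizer_iff.1 (zpowers_le.2 hw hz) v).1 hv.1
    by_cases hb : b ∈ U
    · exact Or.inr (Or.inr (Or.inr (le_antisymm hU fun x hx =>
        (h.cover e hx).elim (fun a => l a) fun a => (mul_mem_cancel_left hb).1 (l a))))
    · exact Or.inr (Or.inr (Or.inl (le_antisymm (fun x hx => (h.cover e (hU hx)).elim id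
        fun a => absurd ((mul_mem_cancel_right hx).1 (l a)) hb) l)))
  push Not at c
  have l : U ≤ zpowers b := fun x hx => (h.inf_cent e).le ⟨hU hx, mem_cent1.2
    (commutatorElement_eq_one_iff_mul_comm.1 (c _ ⟨by
      rw [show ⁅x, w⁆ = x * (w * x⁻¹ * w⁻¹) by group]
      exact mul_mem hx ((mem_normalizer_iff.1 hw _).1 (inv_mem hx)),
      commutator_mem_commutator (hU hx) ⟨h.norm, h.cent⟩⟩))⟩
  by_cases hb : b ∈ U
  · exact Or.inr (Or.inl (le_antisymm l (zpowers_le.2 hb)))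
  · exact Or.inl (eq_bot_iff.2 fun x hx => ((ZD.mem_zpowers_two' (e.sq b h.mem)).1 (l hx)).elim
      mem_bot.2 fun a => absurd (a ▸ hx) hb)

/-- A four-subgroup through `b` is generated by `b` and an element of `V_b`. -/
theorem Wb.exists_gen (hT : T ≤ A) (h4 : Nat.card T = 4) (hb : b ∈ T) :
    ∃ x ∈ Vb A b, x ≠ 1 ∧ T = V4 b x := by
  obtain ⟨x, hx, hn⟩ : ∃ x ∈ T, x ∉ zpowers b := SetLike.not_le_iff_exists.1 fun a => by
    have := card_le_of_le a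
    rw [h4, Nat.card_zpowers, e.ord h.mem h.ne] at this; omega
  obtain ⟨y, y1, y2, y3⟩ : ∃ y ∈ T, y ∈ Vb A b ∧ y ≠ 1 := (h.cover e (hT hx)).elim
    (fun a => ⟨x, hx, a, fun c => hn (c ▸ one_mem _)⟩) fun a => ⟨_, mul_mem hb hx, a, fun c => hn
      (eq_inv_of_mul_eq_one_right c ▸ inv_mem (mem_zpowers b))⟩
  have t := e.two_of h.mem h.ne (hT y1) y3 fun a => h.nmem e (a ▸ y2)
  exact ⟨y, y2, y3, (eq_of_le_of_card_ge ((closure_le _).2 (Set.pair_subset hb y1))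
    (by rw [t.card, h4])).symm⟩

/-- Every four-subgroup is some `V_c`. -/
theorem Wb.exists_Vb (ht : Trs A) (hT : T ≤ A) (h4 : Nat.card T = 4) :
    ∃ c ∈ A, c ≠ 1 ∧ Vb A c = T := by
  obtain ⟨t, ht1⟩ := ne_bot_iff_exists_ne_one.1 (show T ≠ ⊥ from fun a => by
    rw [a, card_bot] at h4; omega)
  have t1 : (t : G) ≠ 1 := fun a => ht1 (Subtype.ext a)
  obtain ⟨v, hv, v1, -⟩ := h.exists_v e
  rw [← h.Vb_eq e] at hv
  obtain ⟨g, hg, e1⟩ := ht v (Vb_le hv) v1 t (hT t.2) t1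
  obtain ⟨k, hk, e2⟩ := ht b h.mem h.ne t (hT t.2) t1
  have hw := h.cj hk
  rw [e2] at hw
  obtain ⟨x, x1, x2, x3⟩ := hw.exists_gen e hT h4 t.2
  obtain ⟨y, y1, y2, y3⟩ := hw.exists_gen e Vb_le ((h.cj hg).card e)
    (by rw [← cj_Vb hg, ← e1]; exact conj_mem_cj hv)
  obtain ⟨z, hz, e3⟩ := hw.trans e y1 y2 x1 x2
  have zl : z ∈ 𝒩(A) ⊓ 𝒞[(t : G)] := zpowers_le.2 (mem_inf.2 ⟨hw.norm, hw.cent⟩) hz
  refine ⟨_, ((h.cj hg).cj zl.1).mem, ((h.cj hg).cj zl.1).ne, ?_⟩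
  rw [← cj_Vb zl.1, y3, cj_closure_pair, e3, mul_inv_eq_iff_eq_mul.2 (mem_cent1.1 zl.2)]
  exact x3.symm

theorem Wb.eq_of_normal (ht : Trs A) (hM : NormalIn M 𝒩(A)) (h1 : 𝒞(A) ≤ M) (h2 : w ∈ M) :
    M = 𝒩(A) := by
  refine le_antisymm hM.le fun g hg => ?_
  obtain ⟨m, hm, a⟩ : ∃ m ∈ M, m * (g * b * g⁻¹) * m⁻¹ = b := by
    by_cases c : g * b * g⁻¹ = b
    · exact ⟨1, one_mem _, by simpa using c⟩
    have t := e.two_of (h.cj hg).mem (h.cj hg).ne h.mem h.ne c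
    obtain ⟨c, c1, c2, c3⟩ := h.exists_Vb e ht
      ((closure_le _).2 (Set.pair_subset (h.cj hg).mem h.mem)) t.card
    obtain ⟨k, hk, rfl⟩ := ht b h.mem h.ne c c1 c2
    obtain ⟨z, hz, a⟩ := (h.cj hk).trans e (c3.ge t.a_mem) t.a_ne (c3.ge t.b_mem) t.b_ne
    exact ⟨z, zpowers_le.2 ((mem_normalizer_iff.1 (hM.norm hk) w).1 h2) hz, a⟩
  refine (mul_mem_cancel_left hm).1 (sup_le h1 (zpowers_le.2 h2) (h.le_sup e
    ⟨mul_mem (hM.le hm) hg, mem_cent1.2 (mul_inv_eq_iff_eq_mul.1 ?_)⟩))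
  exact Eq.trans (by group) a

end

end Cfsg.Agent.RE
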