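import Cfsg.Agent.Lib.RE.Defs

/-!
# Sylow 3-subgroups of `PSL(2, 3 ^ (2 f + 1))`
-/

set_option autoImplicit false
set_option linter.unusedVariables false
set_option linter.unusedSectionVars false

namespace Cfsg.Agent.RE

open Subgroup Cfsg.Agent.FT Cfsg.Agent.GW
open Cfsg.Agent.H6 hiding Op cent_sup fit_le le_fit
open scoped commutatorElement MatrixGroups

universe u

variable {G : Type*} [Group G] [Finite G] {A B D E H K L M N P Q R S T U V X Y : Subgroup G}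
  {p q m f : ℕ} {a b c d g k s t u v w x y z φ : G}

theorem Q3.le (h : Q3 q) : 27 ≤ q := by
  obtain ⟨f, hf, rfl⟩ := h
  exact Nat.pow_le_pow_right (n := 3) (by decide) (show 3 ≤ 2 * f + 1 by omega)

theorem Q3.mod (h : Q3 q) : q % 8 = 3 := by
  obtain ⟨f, hf, rfl⟩ := h
  rw [pow_succ, pow_mul]
  simp [Nat.mul_mod, Nat.pow_mod]

section Model

variable {F : Type} [Field F] {ι : SL(2, F) →* G} {σ : F →+* F} {C : Matrix (Fin 2) (Fin 2) F}

theorem cov_card [Fintype F] (hι : Cov ι) (h2 : (2 : F) ≠ 0) {K : Subgroup SL(2, F)} (hK : ι.ker ≤ K) :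
    Nat.card K = Nat.card (K.map ι) * 2 := by
  rw [card_eq_relIndex_mul hK, relIndex_ker]
  congr 1
  let n1 : SL(2, F) := mkSL (-1) (by simp [Matrix.det_neg])
  have h1 : n1 ≠ 1 := fun e => by
    have := congrArg GW.mt e
    rw [mt_mkSL, mt_one, m2_one, m2_neg, m2_ext] at this
    exact h2 (by linear_combination -this.1)
  have : (ι.ker : Set SL(2, F)) = {n1, 1} := by
    ext A
    simp only [SetLike.mem_coe, MonoidHom.mem_ker, hι A, Set.mem_insert_iff,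
      Set.mem_singleton_iff]
    exact ⟨fun e => e.elim (fun e => Or.inr (mt_inj e)) fun e => Or.inl (mt_inj e),
      fun e => e.elim (fun e => Or.inr (e ▸ rfl)) fun e => Or.inl (e ▸ rfl)⟩
  rw [← SetLike.coe_sort_coe, this, Nat.card_coe_set_eq, Set.ncard_pair h1]

theorem cov_two (hι : Cov ι) (h2 : (2 : F) ≠ 0) {A B : SL(2, F)} (hA : (mt A).trace = 0)
    (hB : (mt B).trace = 0) (h : mt A * mt B = -(mt B * mt A)) : Two (ι A) (ι B) := by
  have key : ∀ A : SL(2, F), (mt A).trace = 0 → orderOf (ι A) = 2 := fun A hA => by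
    refine orderOf_eq_two (by
      rw [← map_mul, hι, mt_mul, m2_sq, hA, mt_det]; simp) fun e => h2 ?_
    rcases (hι A).1 e with e | e <;> rw [e] at hA
    · simpa using hA
    · simpa using hA
  refine ⟨key A hA, key B hB, fun e => ?_, by
    rw [← map_mul, ← map_mul, hι.eq_iff]; exact Or.inr h⟩
  have h1 : mt A * mt B = mt B * mt A := by
    rcases hι.eq_iff.1 e with e | e <;> simp [e]
  have h3 : (2 : F) • (mt A * mt B) = 0 := by rw [two_smul]; nth_rw 1 [h]; rw [h1]; simp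
  have h4 := mt_det_ne (A * B)
  rw [mt_mul, (smul_eq_zero.1 h3).resolve_left h2] at h4
  simp at h4

theorem cov_uu_inj (hι : Cov ι) (h2 : (2 : F) ≠ 0) {a b : F} (e : ι (uu a) = ι (uu b)) : a = b :=
  uu_injective (hι.eq_of_trace h2 e (by rw [trace_uu, trace_uu]) (by rwa [trace_uu]))

theorem rep_upper (hι : Cov ι) (h2 : (2 : F) ≠ 0) (hx : Rep ι x C σ) {b b' : F} (hb : b ≠ 0)
    (e : x * ι (uu b) * x⁻¹ = ι (uu b')) : C 1 0 = 0 ∧ C 0 0 * σ b = b' * C 1 1 := by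
  obtain ⟨B, e1, e2⟩ := hx.exists_act (uu b)
  have h1 := trace_eq_of_conj hx.det e1
  rw [trace_map, trace_uu, map_ofNat] at h1
  obtain rfl : B = uu b' :=
    hι.eq_of_trace h2 (e2.symm.trans e) (by rw [← h1, trace_uu]) (by rwa [trace_uu])
  obtain ⟨c1, c2, c3, c4, rfl⟩ := m2_cases C
  rw [coe_uu, coe_uu, m2_map, Matrix.mul_fin_two, Matrix.mul_fin_two, m2_ext] at e1
  simp only [map_one, map_zero] at e1
  have h3 : c3 * σ b = 0 := by linear_combination e1.2.2.2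
  exact ⟨(mul_eq_zero.1 h3).resolve_right ((map_ne_zero σ).2 hb),
    show c1 * σ b = b' * c4 by linear_combination e1.2.1⟩

theorem rep_diag (hx : Rep ι x C σ) (h0 : C 1 0 = 0) : C 0 0 ≠ 0 ∧ C 1 1 ≠ 0 := by
  have := hx.det
  rw [Matrix.det_fin_two, h0, mul_zero, sub_zero] at this
  exact mul_ne_zero_iff.1 this

theorem rep_uu (hx : Rep ι x C σ) (h0 : C 1 0 = 0) (b : F) :
    x * ι (uu b) * x⁻¹ = ι (uu (C 0 0 * σ b / C 1 1)) := by
  have h1 := (rep_diag hx h0).2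
  refine hx.act _ _ ?_
  obtain ⟨c1, c2, c3, c4, rfl⟩ := m2_cases C
  obtain rfl : c3 = 0 := h0
  have h1 : c4 ≠ 0 := h1
  rw [coe_uu, coe_uu, m2_map, Matrix.mul_fin_two, Matrix.mul_fin_two, m2_ext]
  simp only [map_one, map_zero]
  refine ⟨by ring, ?_, by ring, by ring⟩
  change _ = 1 * c2 + c1 * σ b / c4 * c4
  rw [div_mul_cancel₀ _ h1]
  ring

theorem cov_rep [Finite F] (hι : Cov ι) (h2 : (2 : F) ≠ 0) (hx : x ∈ 𝒩(ι.range)) :
    ∃ C σ, Rep ι x C σ := by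
  obtain ⟨g, σ, h1, h2⟩ := Cov.exists_semilinear h2 (hι.conj x) hι fun A =>
    (conj_mem_of_mem_normalizer hx (⟨A, rfl⟩ : ι A ∈ ι.range)).imp fun _ e => e.symm
  exact ⟨g, σ, h1, h2⟩

theorem rep_cent (h1 : Rep ι x C σ) (h2 : Rep ι y C σ) : y⁻¹ * x ∈ 𝒞(ι.range) :=
  mem_cent.2 fun z hz => by
    obtain ⟨A, rfl⟩ := hz
    obtain ⟨B, e1, e2⟩ := h1.exists_act A
    have e3 := h2.act A B e1
    calc ι A * (y⁻¹ * x) = y⁻¹ * (y * ι A * y⁻¹) * x := by group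
      _ = y⁻¹ * (x * ι A * x⁻¹) * x := by rw [e2, e3]
      _ = _ := by group

theorem cov_cardL [Fintype F] (hι : Cov ι) (h2 : (2 : F) ≠ 0) :
    2 * Nat.card ι.range = Fintype.card F * (Fintype.card F ^ 2 - 1) := by
  rw [← card_SL_two, MonoidHom.range_eq_map, mul_comm, ← cov_card hι h2 le_top, card_top]

/-- `P` is the image of the upper unitriangular group. -/
structure Md (P : Subgroup G) (ι : SL(2, F) →* G) : Prop where
  cov : Cov ι
  two : (2 : F) ≠ 0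
  three : (3 : F) = 0
  nsq : ¬ IsSquare (-1 : F)
  mem : ∀ x, x ∈ P ↔ ∃ b, ι (uu b) = x

theorem Md.uu_mem (m : Md P ι) (b : F) : ι (uu b) ∈ P := (m.mem _).2 ⟨b, rfl⟩

theorem Md.exists_ne (m : Md P ι) (hu : u ∈ P) (h1 : u ≠ 1) : ∃ b, b ≠ 0 ∧ ι (uu b) = u := by
  obtain ⟨b, rfl⟩ := (m.mem u).1 hu
  exact ⟨b, fun e => h1 (by rw [e, uu_zero, map_one]), rfl⟩

theorem Md.card [Fintype F] (m : Md P ι) : Nat.card P = Fintype.card F := by
  rw [← Nat.card_eq_fintype_card]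
  refine (Nat.card_eq_of_bijective (fun b : F => (⟨_, m.uu_mem b⟩ : P)) ⟨fun a b e =>
    cov_uu_inj m.cov m.two (congrArg Subtype.val e), fun x => ?_⟩).symm
  obtain ⟨b, e⟩ := (m.mem x).1 x.2
  exact ⟨b, Subtype.ext e⟩

theorem Md.mem_norm (m : Md P ι) (hx : Rep ι x C σ) (h0 : C 1 0 = 0) : x ∈ 𝒩(P) :=
  mem_normalizer_of_conj_mem fun a ha => by
    obtain ⟨b, rfl⟩ := (m.mem a).1 ha
    rw [rep_uu hx h0]
    exact m.uu_mem _

theorem Md.upper (m : Md P ι) (hx : Rep ι x C σ) (hn : x ∈ 𝒩(P)) : C 1 0 = 0 := by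
  obtain ⟨b, e⟩ := (m.mem _).1 (conj_mem_of_mem_normalizer hn (m.uu_mem 1))
  exact (rep_upper m.cov m.two hx one_ne_zero e.symm).1

theorem Md.comm (m : Md P ι) : IsMulCommutative P :=
  comm_iff.2 fun x hx => mem_cent.2 fun y hy => by
    obtain ⟨a, rfl⟩ := (m.mem x).1 hx
    obtain ⟨b, rfl⟩ := (m.mem y).1 hy
    rw [← map_mul, ← map_mul, ← uu_add, ← uu_add, add_comm]

end Model

theorem l2_card (h : IsL2 L q) : 2 * Nat.card L = q * (q ^ 2 - 1) := by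
  obtain ⟨F, _, _, ι, rfl, -, hι, rfl, h2⟩ := AB.exists_cov h
  exact cov_cardL hι h2

theorem Q3.three {F : Type} [Field F] [Fintype F] (hq : Q3 (Fintype.card F)) : (3 : F) = 0 := by
  obtain ⟨f, -, e⟩ := hq
  have := FiniteField.cast_card_eq_zero F
  rw [e, Nat.cast_pow] at this
  exact_mod_cast pow_eq_zero_iff (by omega) |>.1 this

theorem l2_four (h : IsL2 L q) (hq : Q3 q) : ∃ a b, Two a b ∧ Syl 2 (V4 a b) L := by
  have hc := l2_card h
  obtain ⟨F, _, _, ι, rfl, -, hι, rfl, h2⟩ := AB.exists_cov h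
  have h3 := hq.three
  have hT : Two (ι (sl2 0 (-1) 1 0 (by ring))) (ι (sl2 1 1 1 (-1) (by linear_combination -h3))) :=
    cov_two hι h2 (by simp [GW.mt, coe_sl2]) (by simp [GW.mt, coe_sl2]) (by
      simp only [GW.mt, coe_sl2, Matrix.mul_fin_two, m2_neg, m2_ext]
      refine ⟨by ring, by ring, by ring, by ring⟩)
  have hle : V4 _ _ ≤ ι.range := (closure_le _).2 (by
    rintro _ (rfl | rfl)
    exacts [⟨sl2 0 (-1) 1 0 (by ring), rfl⟩, ⟨sl2 1 1 1 (-1) (by linear_combination -h3), rfl⟩])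
  refine ⟨_, _, hT, hle, hT.pgroup, fun ⟨r, hr⟩ => ?_⟩
  rw [← H1.card_mul_relIndex hle, hT.card, hr] at hc
  have h4 := hq.mod
  generalize Fintype.card F = n at hc h4
  obtain ⟨k, rfl⟩ : ∃ k, n = 8 * k + 3 := ⟨n / 8, by omega⟩
  rw [show (8 * k + 3) ^ 2 - 1 = 8 * (8 * k ^ 2 + 6 * k + 1) by
    rw [Nat.sub_eq_iff_eq_add (Nat.one_le_pow _ _ (by omega))]; ring] at hc
  have : 2 * r = 2 * (32 * k ^ 3 + 36 * k ^ 2 + 13 * k + 1) + 1 := by nlinarith
  omega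

theorem exists_md (h : IsL2 L q) (hq : Q3 q) (hP : Syl 3 P L) :
    ∃ (F : Type) (_ : Field F) (_ : Fintype F) (ι : SL(2, F) →* G),
      Fintype.card F = q ∧ ι.range = L ∧ Md P ι := by
  haveI : Fact (Nat.Prime 3) := ⟨Nat.prime_three⟩
  have hc := l2_card h
  obtain ⟨F, _, _, ι, rfl, -, hι, rfl, h2⟩ := AB.exists_cov h
  have hn : ¬ IsSquare (-1 : F) := fun e =>
    FiniteField.isSquare_neg_one_iff.1 e (by have := hq.mod; omega)
  let U : Subgroup G := (ι.comp (MonoidHom.mk' (fun b : Multiplicative F => uu b.toAdd)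
    fun a b => uu_add _ _)).range
  have m : Md U ι := ⟨hι, h2, hq.three, hn, fun x => Iff.rfl⟩
  have hle : U ≤ ι.range := fun x ⟨b, e⟩ => ⟨_, e⟩
  obtain ⟨f, hf, e⟩ := hq
  have hU : Syl 3 U ι.range := ⟨hle, IsPGroup.of_card (m.card.trans e), fun ⟨r, hr⟩ => by
    rw [← H1.card_mul_relIndex hle, m.card, hr, mul_left_comm] at hc
    have h3 := Nat.eq_of_mul_eq_mul_left Fintype.card_pos hc
    rw [e, pow_succ 3] at h3
    have : 0 < 3 ^ (2 * f) := by positivity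
    generalize 3 ^ (2 * f) = n at h3 this
    rw [show (n * 3) ^ 2 = 3 * (3 * n ^ 2) by ring] at h3
    have : 0 < n ^ 2 := by positivity
    omega⟩
  obtain ⟨k, hk, rfl⟩ := hU.exists_conj hP
  refine ⟨F, _, _, (MulAut.conj k).toMonoidHom.comp ι, rfl, ?_,
    hι.conj k, h2, m.three, hn, fun x => ?_⟩
  · rw [MonoidHom.range_comp]
    exact cj_eq_self_of_mem hk
  · exact ⟨fun ⟨_, ⟨b, e⟩, e'⟩ => ⟨b.toAdd, (congrArg (MulAut.conj k) e).trans e'⟩,
      fun ⟨b, e⟩ => ⟨_, m.uu_mem b, e⟩⟩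

section
variable (h : IsL2 L q) (hq : Q3 q) (hP : Syl 3 P L)
include h hq hP

theorem syl_card : Nat.card P = q := by
  obtain ⟨F, _, _, ι, rfl, rfl, m⟩ := exists_md h hq hP
  exact m.card

theorem syl_comm : IsMulCommutative P := by
  obtain ⟨F, _, _, ι, rfl, rfl, m⟩ := exists_md h hq hP
  exact m.comm

theorem syl_cube (hx : x ∈ P) : x ^ 3 = 1 := by
  obtain ⟨F, _, _, ι, rfl, rfl, m⟩ := exists_md h hq hP
  obtain ⟨b, rfl⟩ := (m.mem x).1 hx
  rw [← map_pow, uu_pow, Nat.cast_ofNat, m.three, zero_mul, uu_zero, map_one]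

theorem syl_cent1 (hu : u ∈ P) (h1 : u ≠ 1) : L ⊓ 𝒞[u] = P := by
  obtain ⟨F, _, _, ι, rfl, rfl, m⟩ := exists_md h hq hP
  refine le_antisymm ?_ (le_inf hP.le ((comm_iff.1 m.comm).trans (cent_le_cent1 hu)))
  obtain ⟨b, hb, rfl⟩ := m.exists_ne hu h1
  rintro _ ⟨⟨C, rfl⟩, hc⟩
  obtain ⟨e1, e2⟩ := rep_upper m.cov m.two (rep_iota ι C) hb
    (by rw [mem_cent1.1 hc, mul_inv_cancel_right])
  have e3 := mt_det C
  obtain ⟨c1, c2, c3, c4, e⟩ := m2_cases (mt C)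
  rw [e] at e1 e2 e3
  obtain rfl : c3 = 0 := e1
  obtain rfl : c1 = c4 := mul_right_cancel₀ hb (e2.trans (mul_comm _ _))
  rw [Matrix.det_fin_two_of, mul_zero, sub_zero, mul_self_eq_one_iff] at e3
  refine (m.mem _).2 ⟨c1 * c2, m.cov.eq_iff.2 ?_⟩
  rw [e, coe_uu, m2_neg]
  rcases e3 with rfl | rfl
  · exact Or.inl (by simp)
  · exact Or.inr (by simp)

theorem syl_ti (hu : u ∈ P) (h1 : u ≠ 1) (hg : g ∈ 𝒩(L)) (hc : g * u * g⁻¹ ∈ P) : g ∈ 𝒩(P) := by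
  obtain ⟨F, _, _, ι, rfl, rfl, m⟩ := exists_md h hq hP
  obtain ⟨b, hb, rfl⟩ := m.exists_ne hu h1
  obtain ⟨b', e⟩ := (m.mem _).1 hc
  obtain ⟨C, σ, hx⟩ := cov_rep m.cov m.two hg
  exact m.mem_norm hx (rep_upper m.cov m.two hx hb e.symm).1

/-- An automorphism centralizing `P` is induced by `P`. -/
theorem syl_cent (hx : x ∈ 𝒩(L)) (hc : x ∈ 𝒞(P)) : x ∈ P ⊔ 𝒞(L) := by
  obtain ⟨F, _, _, ι, rfl, rfl, m⟩ := exists_md h hq hP
  obtain ⟨C, σ, hr⟩ := cov_rep m.cov m.two hx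
  have key := fun b (hb : b ≠ 0) => rep_upper m.cov m.two hr hb
    (by rw [← mem_cent.1 hc _ (m.uu_mem b), mul_inv_cancel_right])
  obtain ⟨e1, e2⟩ := key 1 one_ne_zero
  have e3 := (rep_diag hr e1).1
  rw [map_one, mul_one, one_mul] at e2
  obtain rfl : σ = RingHom.id F := RingHom.ext fun b => by
    by_cases hb : b = 0
    · rw [hb, map_zero, map_zero]
    · exact mul_left_cancel₀ e3 ((key b hb).2.trans (by rw [← e2, mul_comm]; rfl))
  have e4 : C = C 0 0 • mt (uu (C 0 1 / C 0 0)) := by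
    obtain ⟨c1, c2, c3, c4, rfl⟩ := m2_cases C
    obtain rfl : c3 = 0 := e1
    obtain rfl : c1 = c4 := e2
    have e3 : c1 ≠ 0 := e3
    change _ = c1 • mt (uu (c2 / c1))
    rw [coe_uu, m2_smul, mul_div_cancel₀ _ e3, mul_one, mul_zero]
  have e5 := (rep_iota ι (uu (C 0 1 / C 0 0))).smul e3
  rw [← e4] at e5
  have e5 := rep_cent hr e5
  simpa using mul_mem (mem_sup_left (m.uu_mem (C 0 1 / C 0 0))) (mem_sup_right (S := P) e5)

theorem syl_orb (hx : x ∈ P) (h1 : x ≠ 1) (hy : y ∈ P) (h2 : y ≠ 1) :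
    ∃ g ∈ L ⊓ 𝒩(P), g * x * g⁻¹ = y ∨ g * x * g⁻¹ = y⁻¹ := by
  obtain ⟨F, _, _, ι, rfl, rfl, m⟩ := exists_md h hq hP
  obtain ⟨b, hb, rfl⟩ := m.exists_ne hx h1
  obtain ⟨c, hc, rfl⟩ := m.exists_ne hy h2
  have key : ∀ c : F, c ≠ 0 → IsSquare (c / b) →
      ∃ g ∈ ι.range ⊓ 𝒩(P), g * ι (uu b) * g⁻¹ = ι (uu c) := fun c hc ⟨a, ha⟩ => by
    have h0 : a ≠ 0 := fun e => div_ne_zero hc hb (by rw [ha, e, zero_mul])
    have hr := rep_iota ι (sl2 a 0 0 a⁻¹ (by field_simp; ring))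
    refine ⟨_, ⟨⟨_, rfl⟩, m.mem_norm hr rfl⟩, (rep_uu hr rfl b).trans ?_⟩
    congr 2
    change a * b / a⁻¹ = c
    rw [div_eq_iff hb] at ha
    rw [ha]
    field_simp
  by_cases e : IsSquare (c / b)
  · obtain ⟨g, hg, e⟩ := key c hc e
    exact ⟨g, hg, Or.inl e⟩
  · obtain ⟨g, hg, e⟩ := key (-c) (neg_ne_zero.2 hc)
      (by simpa [neg_div] using isSquare_mul_of_not m.nsq e)
    refine ⟨g, hg, Or.inr (e.trans (eq_inv_of_mul_eq_one_left ?_))⟩
    rw [← map_mul, ← uu_add, neg_add_cancel, uu_zero, map_one]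

theorem syl_card_norm : 2 * Nat.card (L ⊓ 𝒩(P) : Subgroup G) = q * (q - 1) := by
  obtain ⟨F, _, _, ι, rfl, rfl, m⟩ := exists_md h hq hP
  classical
  rw [← map_comap_eq, mul_comm, ← cov_card m.cov m.two (ker_le_comap _ _), ← Fintype.card_units,
    ← Nat.card_eq_fintype_card, ← Nat.card_eq_fintype_card, ← Nat.card_prod]
  refine (Nat.card_eq_of_bijective (fun p : F × Fˣ => (⟨sl2 (p.2 : F) p.1 0 (p.2⁻¹ : Fˣ) (by simp),
    m.mem_norm (rep_iota ι _) rfl⟩ : (𝒩(P)).comap ι)) ⟨fun a b e => ?_, fun C => ?_⟩).symm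
  · have := congrArg (fun C : (𝒩(P)).comap ι => mt C.1) e
    simp only [GW.mt, coe_sl2, m2_ext] at this
    exact Prod.ext this.2.1 (Units.ext this.1)
  · have e1 := m.upper (rep_iota ι C.1) C.2
    have e2 := (rep_diag (rep_iota ι C.1) e1).1
    have e3 := mt_det C.1
    refine ⟨(mt C.1 0 1, Units.mk0 _ e2), Subtype.ext (mt_inj ?_)⟩
    obtain ⟨c1, c2, c3, c4, e⟩ := m2_cases (mt C.1)
    change !![mt C.1 0 0, mt C.1 0 1; 0, (mt C.1 0 0)⁻¹] = mt C.1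
    rw [e] at e1 e3 ⊢
    obtain rfl : c3 = 0 := e1
    rw [Matrix.det_fin_two_of, mul_zero, sub_zero] at e3
    rw [eq_inv_of_mul_eq_one_right e3]
    rfl

end

theorem l2_nr {Γ : Type*} [Group Γ] (h : IsL2 Γ q) (hq : Q3 q) : NR Γ := fun x hx hc => by
  haveI : Fact (Nat.Prime 3) := ⟨Nat.prime_three⟩
  obtain ⟨F0, _, _, e1, e2, ⟨e⟩⟩ := h
  haveI : Finite Γ := Finite.of_equiv _ e.symm.toEquiv
  obtain ⟨P, hP, h1⟩ := H1.exists_isSylowIn_ge (p := 3) (U := zpowers x) (K := ⊤)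
    (IsPGroup.of_card (n := 1) (by rw [Nat.card_zpowers, hx, pow_one])) le_top
  obtain ⟨F, _, _, ι, -, hr, m⟩ := exists_md ⟨F0, _, _, e1, e2, ⟨topEquiv.trans e⟩⟩ hq hP
  obtain ⟨b, hb, rfl⟩ := m.exists_ne (h1 (mem_zpowers x)) fun e => by
    rw [e, orderOf_one] at hx
    exact absurd hx (by decide)
  obtain ⟨g, hg⟩ := isConj_iff.1 hc
  obtain ⟨C, rfl⟩ : g ∈ ι.range := hr ▸ mem_top g
  obtain ⟨e3, e4⟩ := rep_upper (b' := -b) m.cov m.two (rep_iota ι C) hb (hg.trans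
    (inv_eq_of_mul_eq_one_left (by rw [← map_mul, ← uu_add, neg_add_cancel, uu_zero, map_one])))
  have e5 := mt_det C
  rw [Matrix.det_fin_two, e3, mul_zero, sub_zero] at e5
  have e6 : mt C 0 0 = -mt C 1 1 := mul_right_cancel₀ hb (e4.trans (by ring))
  exact m.nsq ⟨mt C 1 1, by rw [e6] at e5; linear_combination e5⟩

end Cfsg.Agent.RE
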