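import Cfsg.Agent.Lib.RE.Basic
import Cfsg.Agent.Lib.RE.L2a

/-!
# Recognizing `PSL(2, 3 ^ (2 f + 1))`; its Schur multiplier has no 3-part
-/

set_option autoImplicit false
set_option linter.unusedVariables false
set_option linter.unusedSectionVars false

namespace Cfsg.Agent.RE

open Subgroup Cfsg.Agent.FT Cfsg.Agent.GW
open Cfsg.Agent.H6 hiding Op cent_sup fit_le le_fit
open scoped commutatorElement MatrixGroups

universe u

variable {G : Type*} [Group G] [Finite G] {A B D E H K L M N P Q R S T U V X Y : Subgroup G}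
  {p q m f : ℕ} {a b c d g k s t u v w x y z φ : G}

omit [Finite G] in
theorem isL2_of_equiv {G' : Type*} [Group G'] (h : IsL2 G q) (e : G ≃* G') : IsL2 G' q :=
  let ⟨F, i1, i2, h1, h2, ⟨e'⟩⟩ := h
  ⟨F, i1, i2, h1, h2, ⟨e.symm.trans e'⟩⟩

theorem q3_of_l2 (hn : NR G) (h : IsL2 G q) (h5 : 5 ≤ q) : Q3 q := by
  haveI : Fact (Nat.Prime 3) := ⟨Nat.prime_three⟩
  obtain ⟨F, _, _, ι, rfl, ho, hι, -, h2⟩ := AB.exists_cov (isL2_of_equiv h topEquiv.symm)
  have key : ∀ a b : F, a * a + a * b + b * b ≠ -1 := fun a b e => by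
    let x : SL(2, F) := sl2 0 (-1) 1 (-1) (by ring)
    let s : SL(2, F) := sl2 a b (a + b) (-a) (by linear_combination -e)
    have h1 : x ^ 3 = 1 := mt_inj (by
      rw [pow_succ, sq, mt_mul, mt_mul, mt_one, m2_one]
      simp only [x, GW.mt, coe_sl2, Matrix.mul_fin_two, m2_ext]
      refine ⟨by ring, by ring, by ring, by ring⟩)
    have h3 : x * (s * x) = s := mt_inj (by
      rw [mt_mul, mt_mul]
      simp only [x, s, GW.mt, coe_sl2, Matrix.mul_fin_two, m2_ext]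
      refine ⟨by ring, by ring, by ring, by ring⟩)
    refine hn (ι x) (orderOf_eq_prime (by rw [← map_pow, h1, map_one]) fun e => ?_)
      (isConj_iff.2 ⟨ι s, ?_⟩)
    · rcases (hι x).1 e with e | e
      · simpa [x, GW.mt, coe_sl2] using congrFun (congrFun e 1) 0
      · simpa [x, GW.mt, coe_sl2] using congrFun (congrFun e 1) 0
    · rw [mul_inv_eq_iff_eq_mul, eq_inv_mul_iff_mul_eq, ← map_mul, ← map_mul, h3]
  have h3 : (3 : F) = 0 := by
    by_contra h3
    obtain ⟨a, b, e⟩ := FiniteField.exists_root_sum_quadratic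
      (f := Polynomial.X ^ 2 + Polynomial.C (1 : F)) (g := Polynomial.C (3 : F) * Polynomial.X ^ 2)
      (Polynomial.degree_X_pow_add_C (by decide) _) (Polynomial.degree_C_mul_X_pow _ h3)
      (Nat.odd_iff.1 ho)
    simp only [Polynomial.eval_add, Polynomial.eval_pow, Polynomial.eval_X, Polynomial.eval_C,
      Polynomial.eval_mul] at e
    exact key (a - b) (2 * b) (by linear_combination e)
  have h4 : Fintype.card F % 4 = 3 := by
    by_contra e
    obtain ⟨i, hi⟩ := FiniteField.isSquare_neg_one_iff.2 e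
    exact key i 0 (by linear_combination -hi)
  haveI : CharP F 3 := (CharP.charP_iff_prime_eq_zero Nat.prime_three).2 (by exact_mod_cast h3)
  obtain ⟨n, -, e⟩ := FiniteField.card F 3
  rw [e] at h4 h5 ⊢
  obtain ⟨k, hk | hk⟩ := Nat.even_or_odd' (n : ℕ)
  · rw [hk, pow_mul] at h4
    simp [Nat.pow_mod] at h4
  · refine ⟨k, Nat.pos_of_ne_zero fun e => ?_, by rw [hk]⟩
    rw [hk, e] at h5
    omega

/-- Gorenstein–Walter for a Sylow four-group. -/
theorem four [IsSimpleGroup G] (hn : NR G) (hA : Syl 2 A ⊤) (h4 : Nat.card A = 4)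
    (hsq : ∀ a ∈ A, a * a = 1) : L3 G := by
  haveI : Fact (Nat.Prime 2) := ⟨Nat.prime_two⟩
  obtain ⟨a, b, hab, rfl⟩ := exists_two_of_klein' (isKleinFour_iff.2 ⟨h4, hsq⟩)
  have hs : ¬ Group.IsSolvable (⊤ : Subgroup G) := fun e => by
    haveI : IsMulCommutative G := ⟨⟨IsSimpleGroup.comm_iff_isSolvable.2
      (Group.isSolvable_of_surjective (f := (⊤ : Subgroup G).subtype) topEquiv.surjective)⟩⟩
    haveI : IsCyclic G := by
      open scoped IsMulCommutative in exact IsSimpleGroup.isCyclic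
    exact hab.not_cyclic inferInstance
  have hO : OO (⊤ : Subgroup G) = ⊥ :=
    (normal_OO ⊤).normal.eq_bot_or_eq_top.resolve_right fun e => hs (e ▸ sol_OO ⊤)
  obtain ⟨L, hL, ⟨q, h1⟩ | ⟨-, h1⟩⟩ := (concl (dy_of_syl hab.dih hA) hO).exists_as hs
  · obtain rfl : L = ⊤ := hL.normal.normal.eq_bot_or_eq_top.resolve_left hL.qs.ne_bot
    have h2 := isL2_of_equiv h1.l2 topEquiv
    exact ⟨q, q3_of_l2 hn h2 h1.five, h2⟩
  · obtain ⟨S, r, s, h2, h3, -⟩ := h1.ex
    have := h3.card_eq_card hA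
    rw [h2.card, h4] at this
    omega

theorem L3.of_equiv {G' : Type*} [Group G'] (h : L3 G) (e : G ≃* G') : L3 G' :=
  let ⟨q, h1, h2⟩ := h
  ⟨q, h1, isL2_of_equiv h2 e⟩

theorem psl_equiv {F F' : Type*} [Field F] [Field F'] (e : F ≃+* F') :
    Nonempty (PSL(2, F) ≃* PSL(2, F')) := by
  let φ : SL(2, F) ≃* SL(2, F') := MonoidHom.toMulEquiv
    (Matrix.SpecialLinearGroup.map e.toRingHom) (Matrix.SpecialLinearGroup.map e.symm.toRingHom)
    (by ext A i j; simp) (by ext A i j; simp)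
  refine ⟨QuotientGroup.congr _ _ φ (le_antisymm ?_ fun y hy => ⟨φ.symm y, ?_, by simp⟩)⟩
  · rintro _ ⟨x, hx, rfl⟩
    exact (centerCongr φ ⟨x, hx⟩).2
  · exact (centerCongr φ.symm ⟨y, hy⟩).2

theorem l3_iff : L3 G ↔ ∃ f, 1 ≤ f ∧
    Nonempty (G ≃* Matrix.ProjectiveSpecialLinearGroup (Fin 2) (GaloisField 3 (2 * f + 1))) := by
  have hc : ∀ f : ℕ, @Fintype.card (GaloisField 3 (2 * f + 1)) (Fintype.ofFinite _) =
      3 ^ (2 * f + 1) := fun f => by
    letI : Fintype (GaloisField 3 (2 * f + 1)) := Fintype.ofFinite _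
    rw [← Nat.card_eq_fintype_card, GaloisField.card 3 _ (by omega)]
  constructor
  · rintro ⟨_, ⟨f, hf, rfl⟩, F, _, _, h1, -, ⟨e⟩⟩
    letI : Fintype (GaloisField 3 (2 * f + 1)) := Fintype.ofFinite _
    obtain ⟨e'⟩ := psl_equiv (FiniteField.ringEquivOfCardEq (h1.trans (hc f).symm))
    exact ⟨f, hf, ⟨e.trans e'⟩⟩
  · rintro ⟨f, hf, e⟩
    exact ⟨_, ⟨f, hf, rfl⟩, _, inferInstance, Fintype.ofFinite _, hc f, Odd.pow (by decide), e⟩

theorem bilin_zero {F M : Type*} [Field F] [AddCommGroup M] (β : F →+ F →+ M)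
    (h : ∀ c a b, c ≠ 0 → β (c * c * a) (c * c * b) = β a b)
    (hs : ∀ c : F, IsSquare c ∨ IsSquare (-c)) {c : F} (h0 : c ≠ 0) (h1 : c + 1 ≠ 0)
    (h2 : -c + 1 ≠ 0) (a b : F) : β a b + β a b = 0 := by
  have k1 : ∀ c : F, c ≠ 0 → β (c * a) (c * b) = β a b := fun c hc => by
    rcases hs c with ⟨d, e⟩ | ⟨d, e⟩
    · rw [e]; exact h d a b fun e' => hc (by rw [e, e', mul_zero])
    · rw [← h d a b fun e' => hc (neg_eq_zero.1 (by rw [e, e', mul_zero])), ← e]
      simp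
  have e1 := k1 _ h1
  have e2 := k1 _ h2
  have e3 := k1 _ h0
  simp only [add_mul, neg_mul, one_mul, map_add, map_neg, AddMonoidHom.add_apply,
    AddMonoidHom.neg_apply, neg_neg, e3] at e1 e2
  rw [← sub_eq_zero] at e1 e2
  rw [← add_zero (0 : M)]
  nth_rw 1 [← e1]
  rw [← e2]
  abel

open scoped IsMulCommutative in
theorem schur_aux {Γ : Type*} [Group Γ] [Finite Γ] {F : Type} [Field F] [Fintype F]
    {ι : SL(2, F) →* Γ} {U : Subgroup Γ} (m : Md U ι) (hF : 3 < Fintype.card F) (π : G →* Γ)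
    (hπ : Function.Surjective π) (hk : π.ker ≤ center G) (hg : π g ∈ U) (hx : π x ∈ U) :
    ⁅g, x⁆ * ⁅g, x⁆ = 1 := by
  classical
  choose s hs using fun b : F => hπ (ι (uu b))
  have c1 : ∀ a b : F, ⁅s a, s b⁆ ∈ center G := fun a b => hk (by
    rw [MonoidHom.mem_ker, map_commutatorElement, commutatorElement_eq_one_iff_mul_comm, hs, hs]
    exact comm_mul m.comm (m.uu_mem a) (m.uu_mem b))
  have c2 : ∀ {g g' : G} (x : G), π g = π g' → ⁅g, x⁆ = ⁅g', x⁆ := fun {g g'} x e => by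
    have h1 : g⁻¹ * g' ∈ center G := hk (by
      rw [MonoidHom.mem_ker, map_mul, map_inv, e, inv_mul_cancel])
    calc ⁅g, x⁆ = g * (x * (g⁻¹ * g')) * g'⁻¹ * x⁻¹ := by group
      _ = _ := by rw [mem_center_iff.1 h1 x]; group
  have c3 : ∀ {g g' x x' : G}, π g = π g' → π x = π x' → ⁅g, x⁆ = ⁅g', x'⁆ := fun e e' => by
    rw [c2 _ e, ← commutatorElement_inv, c2 _ e', commutatorElement_inv]
  let β0 : F → F → Additive (center G) := fun a b => Additive.ofMul ⟨_, c1 a b⟩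
  have hl : ∀ a a' b, β0 (a + a') b = β0 a b + β0 a' b := fun a a' b => by
    refine congrArg Additive.ofMul (Subtype.ext ?_)
    change ⁅s (a + a'), s b⁆ = ⁅s a, s b⁆ * ⁅s a', s b⁆
    rw [c2 (g' := s a * s a') _ (by rw [map_mul, hs, hs, hs, uu_add, map_mul]),
      mem_center_iff.1 (c1 a' b)]
    calc ⁅s a * s a', s b⁆ = s a * ⁅s a', s b⁆ * (s a)⁻¹ * ⁅s a, s b⁆ := by group
      _ = _ := by rw [mem_center_iff.1 (c1 a' b), mul_inv_cancel_right]
  have ha : ∀ a b, β0 a b = -β0 b a := fun a b =>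
    congrArg Additive.ofMul (Subtype.ext (commutatorElement_inv _ _).symm)
  have hr : ∀ a b b', β0 a (b + b') = β0 a b + β0 a b' := fun a b b' => by
    rw [ha, hl, neg_add, ← ha, ← ha]
  obtain ⟨c, -, hc⟩ := Finset.exists_mem_notMem_of_card_lt_card (s := ({0, -1, 1} : Finset F))
    (t := Finset.univ) (Finset.card_le_three.trans_lt hF)
  simp only [Finset.mem_insert, Finset.mem_singleton, not_or] at hc
  obtain ⟨a, ea⟩ := (m.mem _).1 hg
  obtain ⟨b, eb⟩ := (m.mem _).1 hx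
  have key := bilin_zero (AddMonoidHom.mk' (fun a => AddMonoidHom.mk' (β0 a) (hr a))
    fun a a' => AddMonoidHom.ext (hl a a')) (fun c a b h0 => ?_)
    (fun c => or_iff_not_imp_left.2 fun e => by simpa using isSquare_mul_of_not m.nsq e) hc.1
    (fun e => hc.2.1 (eq_neg_of_add_eq_zero_left e)) (fun e => hc.2.2 (neg_add_eq_zero.1 e)) a b
  · rw [c3 (ea.symm.trans (hs a).symm) (eb.symm.trans (hs b).symm)]
    exact congrArg (fun z : Additive (center G) => (z.toMul : G)) key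
  have h1 := rep_iota ι (sl2 c 0 0 c⁻¹ (by field_simp; ring))
  obtain ⟨d, hd⟩ := hπ (ι (sl2 c 0 0 c⁻¹ (by field_simp; ring)))
  have h2 : ∀ a, π (s (c * c * a)) = π (d * s a * d⁻¹) := fun a => by
    rw [map_mul, map_mul, map_inv, hs, hs, hd, rep_uu h1 rfl]
    congr 2
    change _ = c * a / c⁻¹
    field_simp
  refine congrArg Additive.ofMul (Subtype.ext ?_)
  change ⁅s (c * c * a), s (c * c * b)⁆ = ⁅s a, s b⁆
  rw [c3 (h2 a) (h2 b)]
  calc ⁅d * s a * d⁻¹, d * s b * d⁻¹⁆ = d * ⁅s a, s b⁆ * d⁻¹ := by group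
    _ = _ := by rw [mem_center_iff.1 (c1 a b), mul_inv_cancel_right]

theorem schur (hK : QS K) (hZ : IsPGroup 3 (Zc K)) (h : L3 (quo 𝒞(K) K)) : Zc K = ⊥ := by
  haveI : Fact (Nat.Prime 3) := ⟨Nat.prime_three⟩
  obtain ⟨q, hq, hL⟩ := h
  obtain ⟨P, hP⟩ := H1.exists_isSylowIn 3 K
  obtain ⟨π, h1, h2, -⟩ := exists_hom_quo (le_normalizer.trans (normalIn_cent_norm K).norm)
  have h3 := hP.subgroupOf_top.map π
  rw [map_top_of_surjective π h1] at h3
  obtain ⟨F, _, _, ι, rfl, -, m⟩ := exists_md (isL2_of_equiv hL topEquiv.symm) hq h3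
  have hc : IsMulCommutative P := comm_iff.2 fun x hx => mem_cent.2 fun y hy => by
    have h4 := congrArg Subtype.val (schur_aux m (lt_of_lt_of_le (by decide) hq.le) π h1
      (fun z hz => mem_center_iff.2 fun w => Subtype.ext (mem_cent.1 (h2.le hz) w w.2))
      (mem_map_of_mem π (show (⟨y, hP.le hy⟩ : K) ∈ P.subgroupOf K from hy))
      (mem_map_of_mem π (show (⟨x, hP.le hx⟩ : K) ∈ P.subgroupOf K from hx)))
    exact commutatorElement_eq_one_iff_mul_comm.1 (eq_one_of_odd_of_mul_self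
      (odd_orderOf (odd_of_pgroup Nat.prime_three (by decide) hP.isPGroup)
        (mul_mem (mul_mem (mul_mem hy hx) (inv_mem hy)) (inv_mem hx))) h4)
  obtain ⟨k, hk⟩ := hZ.exists_card_eq
  have h5 := not_dvd_center_of_abelian Nat.prime_three hP hc hK.perfect
  rw [hk] at h5
  rw [← card_eq_one, hk, not_not.1 fun e => h5 (dvd_pow_self 3 e), pow_zero]

end Cfsg.Agent.RE
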