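import Cfsg.Agent.Lib.RE.Basic
import Cfsg.Agent.Lib.RE.L2a
import Cfsg.Agent.Lib.RE.Fano
import Cfsg.Agent.Lib.SF.Main

/-!
# Proper overgroups of `A`: the structure theorem
-/

set_option autoImplicit false
set_option linter.unusedVariables false
set_option linter.unusedSectionVars false

namespace Cfsg.Agent.RE

open Subgroup Cfsg.Agent.FT Cfsg.Agent.GW
open Cfsg.Agent.H6 hiding Op cent_sup fit_le le_fit
open scoped commutatorElement

universe u

variable {G : Type u} [Group G] [Finite G] {A B D E H K L M N P Q R S T U V X Y : Subgroup G}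
  {p q m f : ℕ} {a b c d g k s t u v w x y z φ : G}

omit [Finite G] in
theorem zp_two (hz : z * z = 1) : x ∈ zpowers z ↔ x = 1 ∨ x = z := by
  refine ⟨?_, fun h => h.elim (fun h => h ▸ one_mem _) fun h => h ▸ mem_zpowers z⟩
  rintro ⟨n, rfl⟩
  have h2 : z ^ (2 : ℤ) = 1 := by rw [zpow_two, hz]
  rcases Int.even_or_odd' n with ⟨k, rfl | rfl⟩
  · left; simp only [zpow_mul, h2, one_zpow]
  · right; simp only [zpow_add, zpow_mul, h2, one_zpow, one_mul, zpow_one]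

theorem syl_normal_of_sol (hA : Syl 2 A X) (hab : A ≤ 𝒞(A)) (hO : OO X = ⊥)
    (hs : Group.IsSolvable X) : X ≤ 𝒩(A) ∧ X ⊓ 𝒞(A) ≤ A := by
  have h1 := cent_Op_le hs Nat.prime_two hO
  have h2 := Op_le_syl Nat.prime_two hA
  have h3 : Op 2 X = A := le_antisymm h2 ((le_inf hA.le (hab.trans (cent_le_cent h2))).trans h1)
  rw [h3] at h1
  exact ⟨h3 ▸ (core_normal _ X).norm, h1⟩

theorem E8.quo (e : E8 A) (hA : A ≤ 𝒩(K)) (hK : Odd (Nat.card K)) : E8 (quo K A) := by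
  refine ⟨quo_norm (K := K) ▸ Syl.quo (e.syl' hA) le_rfl, ?_, fun z hz => ?_⟩
  · obtain ⟨f⟩ := nonempty_equiv_quo hA (inf_eq_bot_of_odd hK e.two)
    rw [← Nat.card_congr f.toEquiv, e.card]
  · obtain ⟨a, ha, h1, rfl⟩ := mem_quo.1 hz
    rw [← coset_mul h1 h1, e.sq a ha, coset_one]

theorem NR.Quo (h : NR G) (K : Subgroup G) : NR (Quo K) :=
  (h.sub 𝒩(K)).surj (qmk K) (QuotientGroup.mk'_surjective _)

theorem ab2_sub (h : AB.Ab2 G) (L : Subgroup G) : AB.Ab2 L := fun P hP =>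
  have := h _ (hP.map L.subtype)
  ⟨⟨fun a b => Subtype.ext (Subtype.ext
    (comm_mul this (mem_map_of_mem L.subtype a.2) (mem_map_of_mem L.subtype b.2)))⟩⟩

theorem sol_of_quo' (hn : Y ≤ 𝒩(K)) (h1 : Group.IsSolvable K) (h2 : Group.IsSolvable (quo K Y)) :
    Group.IsSolvable Y :=
  sol_of_le (sol_of_quo (normalIn_sup_left hn) h1 (quo_sup_ker hn ▸ h2)) le_sup_right

theorem simple_of_qs (hL : QS L) (hZ : L ⊓ 𝒞(L) = ⊥) : IsSimpleGroup L := by
  have := G74.qs_simple hL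
  obtain ⟨f⟩ := nonempty_equiv_quo (A := L) (K := 𝒞(L))
    (le_normalizer.trans (normalIn_cent_norm L).norm) (inf_comm L _ ▸ hZ)
  exact f.isSimpleGroup

theorem exists_tq_aux {n : ℕ} (e : E8 A) (nr : NR G)
    (ih : ∀ (K : Type u) [Group K] [Finite K] [IsSimpleGroup K], Nat.card K < n →
      ¬ IsMulCommutative K → NR K → AB.Ab2 K → L3 K)
    (hA : A ≤ X) (hn : Nat.card X < n) (hO : OO X = ⊥) (hs : ¬ Group.IsSolvable X) :
    ∃ b ∈ A, ∃ (E L : Subgroup G) (q : ℕ), TQ X b E L q := by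
  have hS := e.syl' hA
  obtain ⟨L, hL⟩ : ∃ L, Comp L X := by
    by_contra h
    push Not at h
    have h1 : Lay X = ⊥ := eq_bot_iff.2 (lay_le fun K hK => absurd hK (h K))
    have h2 : FS X = Op 2 X := by
      rw [fs_eq, h1, bot_sup_eq]; exact fit_eq_Op Nat.prime_two hO
    have h3 := inf_cent_fs_le X
    rw [h2] at h3
    have h4 := Op_le_syl Nat.prime_two hS
    have h5 : Op 2 X = A := le_antisymm h4 ((le_inf hA (e.le_cent.trans (cent_le_cent h4))).trans h3)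
    have h6 : X ≤ 𝒩(A) := h5 ▸ (core_normal _ X).norm
    refine hs (sol_of_quo' h6 (sol_of_pgroup e.two) (sol_of_odd ?_))
    rw [card_quo h6, ← Nat.not_even_iff_odd, even_iff_two_dvd]
    exact hS.not_dvd
  have hZ : L ⊓ 𝒞(L) = ⊥ := by
    obtain ⟨T, hT⟩ := H1.exists_isSylowIn 2 L
    have h1 := not_dvd_center_of_abelian Nat.prime_two hT (e.ab2 T hT.isPGroup) hL.qs.perfect
    exact card_eq_one.1 ((G74.comp_Z hL hO).card_eq_or_dvd.resolve_right h1)
  have hsim := simple_of_qs hL.qs hZ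
  obtain ⟨q, hq, h2⟩ := ih L ((card_le_of_le hL.le).trans_lt hn)
    (fun h => hL.qs.not_le_centralizer (comm_iff.1 h)) (nr.sub L) (ab2_sub e.ab2 L)
  obtain ⟨a, a', hT, hV⟩ := l2_four h2 hq
  have hnL : X ≤ 𝒩(L) := by
    intro g hg
    rcases (hL.cj_of_mem (le_normalizer hg)).eq_or_cent hL with h | h
    · exact cj_eq_self_iff.1 h
    · exfalso
      have h1 : cj g (V4 a a') ≤ 𝒞(V4 a a') := ((cj_mono g hV.le).trans h).trans (cent_le_cent hV.le)
      have h3 : V4 a a' ⊓ cj g (V4 a a') = ⊥ :=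
        eq_bot_iff.2 (hZ ▸ inf_le_inf hV.le ((cj_mono g hV.le).trans h))
      have h4 := e.syl.card_le (Q := V4 a a' ⊔ cj g (V4 a a'))
        (hT.pgroup.to_sup_of_normal_left' (hT.pgroup.map _) (h1.trans cent_le_norm)) le_top
      have h5 := card_mul_of_forall_mul (M := V4 a a' ⊔ cj g (V4 a a')) le_sup_left le_sup_right
        fun m hm => H2.exists_mul_of_mem_sup' (h1.trans cent_le_norm) hm
      rw [h3, card_bot, card_cj, hT.card, e.card] at *
      omega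
  have hOL := G74.comp_O hL hO
  have hAL : Syl 2 (A ⊓ L) L := hS.inf_of_le hnL hL.le
  have hc4 : Nat.card (A ⊓ L : Subgroup G) = 4 := (hAL.card_eq_card hV).trans hT.card
  have hsp := e.za.split_syl (hA.trans hnL) hOL (syl_iff_sylIn.1 hAL)
  have hc2 : Nat.card (A ⊓ 𝒞(L) : Subgroup G) = 2 := by
    have h5 := card_mul_of_forall_mul (M := A) (A := A ⊓ L) (B := A ⊓ 𝒞(L)) inf_le_left inf_le_left
      fun m hm => H2.exists_mul_of_mem_sup'
        ((inf_le_right.trans (cent_le_cent inf_le_right)).trans cent_le_norm) (hsp hm)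
    rw [eq_bot_iff.2 (hZ ▸ inf_le_inf inf_le_right inf_le_right :
      A ⊓ L ⊓ (A ⊓ 𝒞(L)) ≤ ⊥), card_bot, e.card, hc4] at h5
    omega
  obtain ⟨b, hb⟩ := cyclic_iff_zpowers.1
    (cyclic_of_card_prime (H := A ⊓ 𝒞(L)) (hc2 ▸ Nat.prime_two))
  have hbA : b ∈ A ⊓ 𝒞(L) := hb ▸ mem_zpowers b
  have hob : orderOf b = 2 := by rw [← Nat.card_zpowers, hb, hc2]
  have hCn : NormalIn (X ⊓ 𝒞(L)) X :=
    ⟨inf_le_left, H1.le_normalizer_inf le_normalizer (hnL.trans (normalIn_cent_norm L).norm)⟩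
  have hC : X ⊓ 𝒞(L) = zpowers b := by
    have h1 : Syl 2 (zpowers b) (X ⊓ 𝒞(L)) := by
      have := hS.inf (hnL.trans (normalIn_cent_norm L).norm)
      rwa [← hb] at this
    have h3 := (nc2_of_cyclic h1 (cyclic_iff_zpowers.2 ⟨b, rfl⟩)).sdp h1
    rw [eq_bot_iff.2 (hO ▸ core_le_of_normal hCn : OO (X ⊓ 𝒞(L)) ≤ ⊥)] at h3
    rw [← h3.sup_eq, bot_sup_eq]
  have hXb : X ≤ 𝒞[b] := by
    intro x hx
    have h1 : x * b * x⁻¹ ∈ zpowers b := by
      rw [← hC]; exact (mem_normalizer_iff.1 (hCn.norm hx) b).1 ⟨hA hbA.1, hbA.2⟩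
    rcases (zp_two (mul_self_of_orderOf_two hob)).1 h1 with h | h
    · rw [conj_eq_one_iff] at h
      exact absurd h (ne_one_of_orderOf_two hob)
    · exact mem_cent1.2 (mul_inv_eq_iff_eq_mul.1 h)
  have hbL : b ∉ L := fun h => ne_one_of_orderOf_two hob (mem_bot.1 (hZ ▸ ⟨h, hbA.2⟩ : b ∈ ⊥))
  have hbn : b ∈ 𝒩(L) := hnL (hA hbA.1)
  have hQ : quo L A = zpowers (coset L b) := by
    rw [← quo_zpowers hbn, hb]
    refine le_antisymm ((quo_le_quo_iff (hA.trans hnL) (inf_le_left.trans (hA.trans hnL))).2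
      (hsp.trans (sup_le_sup_right inf_le_right _))) (quo_mono _ inf_le_left)
  have hSQ : Syl 2 (zpowers (coset L b)) (quo L X) := hQ ▸ Syl.quo hS hnL
  have hsd := (nc2_of_cyclic hSQ (cyclic_iff_zpowers.2 ⟨_, rfl⟩)).sdp hSQ
  have hob' : orderOf (coset L b) = 2 :=
    orderOf_eq_prime (by rw [← coset_pow hbn, ← hob, pow_orderOf_eq_one, coset_one])
      fun h => hbL ((coset_eq_one_iff hbn).1 h)
  have hLX : NormalIn L X := ⟨hL.le, hnL⟩
  have hEX : coquo L (OO (quo L X)) ≤ X := coquo_le_of_le_quo hLX (core_le _ _)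
  have hbE : b ∉ coquo L (OO (quo L X)) := fun h => by
    have := odd_orderOf (odd_OO _) (mem_coquo.1 h).2
    rw [hob'] at this
    exact absurd this (by decide)
  refine ⟨b, hbA.1, coquo L (OO (quo L X)), L, q, hob, hA hbA.1, hXb, hEX, hbE, fun x hx => ?_,
    ⟨normalIn_ker_coquo _, hsim, eq_bot_iff.2 fun y hy => ?_, h2, le_trans (by norm_num) hq.le,
      dy_of_syl hT.dih (Syl.trans hV Nat.prime_two (le_coquo _) ?_)⟩, hq⟩
  · obtain ⟨o, ho, z, hz, h⟩ := H2.exists_mul_of_mem_sup'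
      (hsd.right_le.trans hsd.normal.norm) (hsd.sup_eq.ge (coset_mem_quo (K := L) hx))
    rcases (zp_two (mul_self_of_orderOf_two hob')).1 hz with rfl | rfl
    · exact Or.inl (mem_coquo.2 ⟨hnL hx, by rwa [h, mul_one]⟩)
    · refine Or.inr (mem_coquo.2 ⟨mul_mem hbn (hnL hx), ?_⟩)
      rw [coset_mul hbn (hnL hx), h, ← mul_assoc]
      have := (mem_normalizer_iff.1 (le_norm_OO _ (coset_mem_quo (K := L) (hA hbA.1))) o).1 ho
      rwa [inv_eq_of_orderOf_two hob'] at this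
  · have h1 : y ∈ zpowers b := hC ▸ ⟨hEX hy.1, hy.2⟩
    rcases (zp_two (mul_self_of_orderOf_two hob)).1 h1 with h | h
    · exact h
    · exact absurd (h ▸ hy.1) hbE
  · rw [relIndex_coquo_ker, ← even_iff_two_dvd, Nat.not_even_iff_odd]
    exact odd_OO _

theorem TQ.nsol (h : TQ X b E L q) : ¬ Group.IsSolvable X := fun hs =>
  h.lt.qs.not_isSolvable (sol_of_le hs (h.lt.normal.le.trans h.le))

theorem Min.nsol [IsSimpleGroup G] (h : Min A) : ¬ Group.IsSolvable G := by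
  intro hs
  have hc := IsSimpleGroup.comm_iff_isSolvable.2 hs
  have h1 : A ≠ ⊥ := fun e => by
    have := h.card
    rw [e, card_bot] at this
    omega
  obtain ⟨⟨a, ha⟩, h2⟩ := ne_bot_iff_exists_ne_one.1 h1
  have h3 : a ≠ 1 := fun e => h2 (Subtype.ext e)
  have hn : (zpowers a).Normal := ⟨fun x hx g => by rwa [hc g x, mul_inv_cancel_right]⟩
  rcases hn.eq_bot_or_eq_top with e | e
  · exact h3 (zpowers_eq_bot.1 e)
  · have h4 := card_le_of_le (e ▸ le_top : A ≤ zpowers a)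
    rw [Nat.card_zpowers, h.toE8.ord ha h3, h.card] at h4
    omega

theorem E8.le_OO_of_sol (e : E8 A) (hA : A ≤ X) (hs : Group.IsSolvable X) (hY : Y ≤ X)
    (ho : Odd (Nat.card Y)) (hn : A ≤ 𝒩(Y)) : Y ≤ OO X := by
  have hX := le_norm_OO X
  have h1 := syl_normal_of_sol (Syl.quo (e.syl' hA) hX) (quo_le_cent e.le_cent)
    (core_quo_core _ X) (quo_sol hs)
  have h2 : FT.quo (OO X) Y ⊓ FT.quo (OO X) A = ⊥ :=
    inf_eq_bot_of_odd (ho.of_dvd_nat (card_quo_dvd _ _)) (quo_pgroup e.two)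
  have h3 := cent_of_inf_eq_bot ((quo_mono _ hY).trans h1.1) (quo_le_norm hn) h2
  rw [← quo_eq_bot_iff (hY.trans hX), eq_bot_iff, ← h2]
  exact le_inf le_rfl ((le_inf (quo_mono _ hY) h3).trans h1.2)

theorem E8.le_sup_of_sol (e : E8 A) (hA : A ≤ X) (hs : Group.IsSolvable X) :
    X ≤ OO X ⊔ (X ⊓ 𝒩(A)) := by
  have hX := le_norm_OO X
  have h1 := syl_normal_of_sol (Syl.quo (e.syl' hA) hX) (quo_le_cent e.le_cent)
    (core_quo_core _ X) (quo_sol hs)
  rw [← quo_le_quo_iff hX (inf_le_left.trans hX), quo_inf_norm_of_coprime hX hA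
    (PiN.coprime ((piG_singleton Nat.prime_two).2 e.two) ((core_pi _ X).of_le inf_le_left))
    (Or.inl (sol_of_pgroup e.two))]
  exact le_inf le_rfl h1.1

theorem Min.exists_tq (h : Min A) (hA : A ≤ X) (hX : X ≠ ⊤) (hs : ¬ Group.IsSolvable X) :
    ∃ b ∈ A, ∃ (E L : Subgroup (Quo (OO X))) (q : ℕ),
      TQ (quo (OO X) X) (coset (OO X) b) E L q := by
  have hn := le_norm_OO X
  obtain ⟨z, hz, E, L, q, ht⟩ := exists_tq_aux (h.toE8.quo (hA.trans hn) (odd_OO X)) (h.nr.Quo _)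
    h.ih (quo_mono _ hA) ((Nat.le_of_dvd Nat.card_pos (card_quo_dvd _ _)).trans_lt
      (lt_of_le_of_ne (card_le_card_group X) fun e => hX (eq_top_of_card_eq X e)))
    (core_quo_core _ X) fun h1 => hs (sol_of_quo' hn (sol_OO X) h1)
  obtain ⟨b, hb, -, rfl⟩ := mem_quo.1 hz
  exact ⟨b, hb, E, L, q, ht⟩

/-- `C_E(v)` is solvable. -/
theorem TQ.sol_cent (h : TQ X b E L q) (hc : c ∈ X) (ho : orderOf c = 2) (h1 : c ≠ b) :
    Group.IsSolvable (X ⊓ 𝒞[c] : Subgroup G) := by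
  have hbb := mul_self_of_orderOf_two h.ord
  obtain ⟨v, hv, hov, hcv⟩ : ∃ v ∈ E, orderOf v = 2 ∧ X ⊓ 𝒞[c] ≤ 𝒞[v] := by
    rcases h.cover c hc with h2 | h2
    · exact ⟨c, h2, ho, inf_le_right⟩
    · have h3 : Two b c := ⟨h.ord, ho, h1.symm, (mem_cent1.1 (h.cent hc)).symm⟩
      exact ⟨b * c, h2, h3.hab, fun x hx => h3.mem_cent_ab (h.cent hx.1) hx.2⟩
  have h2 := (h.lt.dy.nc2_cent hov hv).sol
  have hEn : X ≤ 𝒩(E) := by
    intro x hx
    have key : ∀ x ∈ X, ∀ y ∈ E, x * y * x⁻¹ ∈ E := fun x hx y hy => by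
      rcases h.cover x hx with h3 | h3
      · exact mul_mem (mul_mem h3 hy) (inv_mem h3)
      · have h4 : x * y * x⁻¹ = b * x * y * (b * x)⁻¹ := by
          have h5 := mem_cent1.1 (h.cent (mul_mem (mul_mem hx (h.le hy)) (inv_mem hx)))
          calc x * y * x⁻¹ = x * y * x⁻¹ * b * b⁻¹ := by group
            _ = _ := by rw [h5]; group
        rw [h4]
        exact mul_mem (mul_mem h3 hy) (inv_mem h3)
    exact mem_normalizer_iff.2 fun y => ⟨key x hx y, fun hy => by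
      simpa [mul_assoc] using key _ (inv_mem hx) _ hy⟩
  have h3 : X ⊓ 𝒞[c] ≤ 𝒩((E ⊓ 𝒞[v] : Subgroup G)) :=
    H1.le_normalizer_inf (inf_le_left.trans hEn) (hcv.trans le_normalizer)
  refine sol_of_quo' h3 h2 (sol_of_pgroup (p := 2) (isPGroup_subgroup_iff.2 fun z hz => ?_))
  obtain ⟨x, hx, h4, rfl⟩ := mem_quo.1 hz
  refine ⟨1, ?_⟩
  rw [← coset_pow h4, coset_eq_one_iff (pow_mem h4 _), pow_one]
  refine ⟨?_, pow_mem (hcv hx) 2⟩
  rcases h.cover x hx.1 with h5 | h5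
  · exact pow_mem h5 2
  · have : x ^ 2 = (b * x) ^ 2 := by
      rw [sq, sq, ← mul_assoc, mul_assoc b x b, mem_cent1.1 (h.cent hx.1), ← mul_assoc, hbb, one_mul]
    rw [this]
    exact pow_mem h5 2

theorem Min.exists_ty (h : Min A) (hA : A ≤ X) (hX : X ≠ ⊤) (hs : ¬ Group.IsSolvable X) :
    ∃ b, Ty A X b := by
  obtain ⟨b, hb, E, L, q, ht⟩ := h.exists_tq hA hX hs
  have hn := le_norm_OO X
  have h1 : b ≠ 1 := fun e => ne_one_of_orderOf_two ht.ord (by rw [e, coset_one])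
  refine ⟨b, hA, hX, hb, h1, fun h2 => ht.nsol ?_⟩
  have h3 := quo_sol (K := OO X) h2
  rwa [quo_cent_two (odd_OO X) hn (hn (hA hb)) (le_normalizer (hA hb)) (h.toE8.ord hb h1),
    inf_eq_left.2 ht.cent] at h3

theorem Ty.exists_tq (h : Min A) (ht : Ty A X b) :
    ∃ (E L : Subgroup (Quo (OO X))) (q : ℕ), TQ (quo (OO X) X) (coset (OO X) b) E L q := by
  obtain ⟨c, hc, E, L, q, h1⟩ := h.exists_tq ht.le ht.ne_top
    fun hs => ht.ns (sol_of_le hs inf_le_left)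
  have hn := le_norm_OO X
  have hb := ht.le ht.mem
  have ho := h.toE8.ord ht.mem ht.ne
  by_cases e : coset (OO X) b = coset (OO X) c
  · exact ⟨E, L, q, e ▸ h1⟩
  · have h2 := h1.sol_cent (coset_mem_quo hb) (ord_coset hb ho) e
    rw [← quo_cent_two (odd_OO X) hn (hn hb) (le_normalizer hb) ho] at h2
    exact absurd (sol_of_quo' (inf_le_left.trans hn) (sol_OO X) h2) ht.ns

theorem Ty.unique (h : Min A) (h1 : Ty A X b) (h2 : Ty A X c) : b = c := by
  obtain ⟨E, L, q, t1⟩ := h1.exists_tq h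
  obtain ⟨E', L', q', t2⟩ := h2.exists_tq h
  have hn := le_norm_OO X
  have e : coset (OO X) b = coset (OO X) c := by
    by_contra e
    have h3 := t2.sol_cent t1.mem t1.ord e
    rw [inf_eq_left.2 t1.cent] at h3
    exact t1.nsol h3
  rw [coset_eq_iff (hn (h1.le h1.mem)) (hn (h2.le h2.mem))] at e
  have h3 : b⁻¹ * c ∈ OO X ⊓ A := ⟨e, A.mul_mem (A.inv_mem h1.mem) h2.mem⟩
  rw [inf_eq_bot_of_odd (odd_OO X) h.toE8.two, mem_bot] at h3
  exact inv_mul_eq_one.1 h3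

theorem Ty.mono (h1 : Ty A X b) (hY : X ≤ Y) (h2 : Y ≠ ⊤) : Ty A Y b := by
  exact ⟨h1.le.trans hY, h2, h1.mem, h1.ne, fun hs => h1.ns (sol_of_le hs (inf_le_inf_right _ hY))⟩

/-- Transport from `X / 1`. -/
theorem TQ.of_bot (hb : b ∈ X) (hO : OO X = ⊥) {E L : Subgroup (Quo (OO X))}
    (h : TQ (quo (OO X) X) (coset (OO X) b) E L q) : ∃ E L, TQ X b E L q := by
  generalize OO X = O at *
  subst hO
  have hn : ∀ x : G, x ∈ 𝒩((⊥ : Subgroup G)) := fun x => norm_bot (G := G) ▸ mem_top x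
  let φ : G ≃* Quo (⊥ : Subgroup G) := MulEquiv.ofBijective
    (MonoidHom.mk' (coset ⊥) fun x y => coset_mul (hn x) (hn y))
    ⟨(injective_iff_map_eq_one _).2 fun x hx => mem_bot.1 ((coset_eq_one_iff (hn x)).1 hx),
      fun z => by
        obtain ⟨x, -, -, hx⟩ := mem_quo.1 (quo_norm (K := (⊥ : Subgroup G)) ▸ mem_top z)
        exact ⟨x, hx⟩⟩
  have hφ : ∀ x, φ x = coset ⊥ x := fun _ => rfl
  have hm : ∀ (U : Subgroup (Quo (⊥ : Subgroup G))) x,
      x ∈ U.map φ.symm.toMonoidHom ↔ coset ⊥ x ∈ U := fun U x =>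
    ⟨by rintro ⟨y, hy, rfl⟩; rwa [← hφ, MulEquiv.coe_toMonoidHom, φ.apply_symm_apply],
      fun hx => ⟨_, hx, φ.symm_apply_apply x⟩⟩
  refine ⟨E.map φ.symm.toMonoidHom, L.map φ.symm.toMonoidHom,
    (orderOf_injective φ.toMonoidHom φ.injective b).symm.trans h.ord, hb, fun x hx => ?_,
    fun x hx => ?_, fun h1 => h.nmem ((hm _ _).1 h1), fun x hx => ?_,
    h.lt.map φ.symm.injective, h.q3⟩
  · refine mem_cent1.2 (φ.injective ?_)
    rw [map_mul, map_mul]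
    exact mem_cent1.1 (h.cent (coset_mem_quo hx))
  · obtain ⟨y, hy, -, h1⟩ := mem_quo.1 (h.le ((hm _ _).1 hx))
    exact φ.injective h1 ▸ hy
  · rw [hm, hm, coset_mul (hn _) (hn _)]
    exact h.cover _ (coset_mem_quo hx)

theorem Min.norm_ne_top [IsSimpleGroup G] (h : Min A) (h1 : Y ≠ ⊥) (hs : Group.IsSolvable Y) :
    𝒩(Y) ≠ ⊤ := by
  intro e
  rcases (normalizer_eq_top_iff.1 e).eq_bot_or_eq_top with h2 | h2
  · exact h1 h2
  · subst h2
    exact h.nsol (Group.isSolvable_of_surjective (f := (⊤ : Subgroup G).subtype)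
      fun x => ⟨⟨x, mem_top x⟩, rfl⟩)

theorem Min.cent_ne_top [IsSimpleGroup G] (h : Min A) (h1 : x ≠ 1) : (𝒞[x] : Subgroup G) ≠ ⊤ := by
  intro e
  exact h.norm_ne_top (Y := zpowers x) (mt zpowers_eq_bot.1 h1)
    (sol_of_nil (nil_of_comm inferInstance)) (top_le_iff.1 (e ▸ cent1_le_norm_zpowers))

/-- Signalizer functor theorem: involution centralizers are not solvable. -/
theorem Min.ty_cent [IsSimpleGroup G] (h : Min A) (hb : b ∈ A) (h1 : b ≠ 1) : Ty A 𝒞[b] b := by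
  have e := h.toE8
  have hAc : ∀ a ∈ A, A ≤ 𝒞[a] := fun a ha => e.le_cent.trans (cent_le_cent1 ha)
  refine ⟨hAc b hb, h.cent_ne_top h1, hb, h1, fun hs => h.nse ?_⟩
  rw [inf_idem] at hs
  have hsol : ∀ a ∈ A, a ≠ 1 → Group.IsSolvable 𝒞[a] := fun a ha h2 => by
    obtain ⟨g, -, rfl⟩ := h.tr b hb h1 a ha h2
    rw [← cj_centralizer_singleton]
    exact sol_cj.2 hs
  have hsig : IsSignalizerFunctor 2 A fun a => OO 𝒞[a] := by
    refine ⟨fun a _ _ => core_le _ _, fun a _ _ => ?_, fun a ha _ c hc x hx => ?_,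
      fun a ha _ c hc h2 => ?_⟩
    · rw [← even_iff_two_dvd, Nat.not_even_iff_odd]; exact odd_OO _
    · exact (mem_normalizer_iff.1 (le_norm_OO _ (hAc a ha hc)) x).1 hx
    · exact e.le_OO_of_sol (hAc c hc) (hsol c hc h2) inf_le_right
        (odd_of_le (odd_OO _) inf_le_left)
        (H1.le_normalizer_inf ((hAc a ha).trans (le_norm_OO _)) ((hAc c hc).trans le_normalizer))
  have hW := (SF.two_complete A e.za.elem e.card.ge _ hsig).1
  set W := signalizerClosure A fun a => OO 𝒞[a] with hWd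
  have hle : ∀ a ∈ A, a ≠ 1 → OO 𝒞[a] ≤ W := fun a ha h2 =>
    le_iSup (fun a : {a : G // a ∈ A ∧ a ≠ 1} => OO 𝒞[(a : G)]) ⟨a, ha, h2⟩
  have hA0 : A ≠ ⊥ := fun e' => h1 (mem_bot.1 (e' ▸ hb))
  by_cases h0 : W = ⊥
  · refine e.za.zd hA0 (h.norm_ne_top hA0 (sol_of_pgroup e.two)) fun a ha h2 => ?_
    exact (e.le_sup_of_sol (hAc a ha) (hsol a ha h2)).trans
      (sup_le ((hle a ha h2).trans (h0 ▸ bot_le)) inf_le_right)
  · refine e.za.zd hA0 (h.norm_ne_top h0 (sol_of_odd hW)) fun a ha h2 => ?_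
    refine (e.le_sup_of_sol (hAc a ha) (hsol a ha h2)).trans
      (sup_le ((hle a ha h2).trans le_normalizer) (inf_le_right.trans fun g hg => ?_))
    refine mem_normalizer_of_cj_le ?_
    rw [cj_le_iff_le_cj]
    refine iSup_le fun c => ?_
    rw [← cj_le_iff_le_cj, cj_OO, cj_centralizer_singleton]
    exact hle _ ((mem_normalizer_iff.1 hg _).1 c.2.1) (by simpa using c.2.2)

end Cfsg.Agent.RE
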