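import Cfsg.Agent.Lib.RE.Loc1

/-!
# Proper overgroups of `A`: consequences
-/

set_option autoImplicit false
set_option linter.unusedVariables false
set_option linter.unusedSectionVars false

namespace Cfsg.Agent.RE

open Subgroup Cfsg.Agent.FT Cfsg.Agent.GW
open Cfsg.Agent.H6 hiding Op cent_sup fit_le le_fit
open scoped commutatorElement

universe u

variable {G : Type u} [Group G] [Finite G] {A B D E H K L M N P Q R S T U V X Y : Subgroup G}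
  {p q m f : ℕ} {a b c d g k s t u v w x y z φ : G}

theorem exists_char_ab (hs : Group.IsSolvable R) (h1 : R ≠ ⊥) :
    ∃ U ≤ R, U ≠ ⊥ ∧ IsMulCommutative U ∧ 𝒩(R) ≤ 𝒩(U) := by
  obtain ⟨U, hU, hc⟩ := exists_minnormal_le (M := 𝒩(R)) ⟨le_normalizer, le_rfl⟩ h1
  obtain ⟨p, -, he⟩ := elem_of_chief_bot hc (sol_of_le hs hU)
  exact ⟨U, hU, hc.lt.ne', he.1, hc.normal.norm⟩

section
variable (h : TQ X b E L q)
include h

theorem TQ.L_le : L ≤ X := h.lt.normal.le.trans h.le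

theorem TQ.b_cent : b ∈ 𝒞(X) := mem_centralizer_iff.2 fun x hx => mem_cent1.1 (h.cent hx)

theorem TQ.le_norm (hK : K ≤ X) (hn : E ≤ 𝒩(K)) : X ≤ 𝒩(K) := fun x hx =>
  (h.cover x hx).elim (fun h1 => hn h1) fun h1 =>
    (mul_mem_cancel_left (cent_le_norm (cent_le_cent hK h.b_cent))).1 (hn h1)

theorem TQ.norm_L : X ≤ 𝒩(L) := h.le_norm h.L_le h.lt.normal.norm

theorem TQ.centL : L ⊓ 𝒞(L) = ⊥ :=
  eq_bot_iff.2 (h.lt.cent ▸ inf_le_inf_right _ h.lt.normal.le)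

theorem TQ.cent_L : X ⊓ 𝒞(L) ≤ zpowers b := fun x hx => by
  rcases h.cover x hx.1 with h1 | h1
  · exact mem_bot.1 (h.lt.cent ▸ ⟨h1, hx.2⟩ : x ∈ ⊥) ▸ one_mem _
  · have h2 : b * x = 1 := mem_bot.1
      (h.lt.cent ▸ ⟨h1, mul_mem (cent_le_cent h.L_le h.b_cent) hx.2⟩ : b * x ∈ ⊥)
    rw [eq_inv_of_mul_eq_one_right h2]
    exact inv_mem (mem_zpowers b)

theorem TQ.der : ⁅X, X⁆ ≤ L := by
  have key : ∀ x ∈ X, ∃ e ∈ E, ∀ y ∈ X, ⁅x, y⁆ = ⁅e, y⁆ := fun x hx => by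
    rcases h.cover x hx with h1 | h1
    · exact ⟨x, h1, fun _ _ => rfl⟩
    · refine ⟨b * x, h1, fun y hy => ?_⟩
      have h2 := mem_cent1.1 (h.cent (mul_mem (mul_mem hx hy) (inv_mem hx)))
      simp only [commutatorElement_def]
      calc x * y * x⁻¹ * y⁻¹ = x * y * x⁻¹ * b * b⁻¹ * y⁻¹ := by group
        _ = _ := by rw [h2]; group
  refine commutator_le.2 fun x hx y hy => ?_
  obtain ⟨e, he, h1⟩ := key x hx
  obtain ⟨e', he', h2⟩ := key y hy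
  rw [h1 y hy, ← commutatorElement_inv, h2 e (h.le he), commutatorElement_inv]
  exact h.lt.der (commutator_mem_commutator he he')

theorem TQ.normal_cases (hM : M ≤ X) (hn : L ≤ 𝒩(M)) : L ≤ M ∨ M ≤ zpowers b := by
  rcases GW.normal_cases h.lt.simple (N := M ⊓ L)
    ⟨inf_le_right, H1.le_normalizer_inf hn le_normalizer⟩ with e | e
  · exact Or.inr ((le_inf hM (cent_of_inf_eq_bot (hM.trans h.norm_L) hn e)).trans h.cent_L)
  · exact Or.inl (e ▸ inf_le_left)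

theorem TQ.eq_L (hK : K ≤ X) (hp : ⁅K, K⁆ = K) (h1 : K ≠ ⊥) (hn : L ≤ 𝒩(K)) : K = L :=
  (GW.normal_cases h.lt.simple ⟨hp.ge.trans ((commutator_mono hK hK).trans h.der), hn⟩).resolve_left
    h1

theorem TQ.le_E (hY : Y ≤ X) (ho : Odd (Nat.card Y)) : Y ≤ E := fun y hy => by
  refine BD.P1.mem_of_sq_mem (odd_orderOf ho hy) ?_
  rcases h.cover y (hY hy) with h5 | h5
  · exact pow_mem h5 2
  · have : y ^ 2 = (b * y) ^ 2 := by
      rw [sq, sq, ← mul_assoc, mul_assoc b y b, mem_cent1.1 (h.cent (hY hy)), ← mul_assoc,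
        mul_self_of_orderOf_two h.ord, one_mul]
    rw [this]
    exact pow_mem h5 2

theorem TQ.four (e : E8 A) (hA : A ≤ X) :
    ∃ a a', Two a a' ∧ V4 a a' = A ⊓ L ∧ Syl 2 (V4 a a') L := by
  obtain ⟨a, a', h1, h2⟩ := AB.exists_four e.ab2 h.lt.l2
  have h3 : Syl 2 (A ⊓ L) L := (e.syl' hA).inf_of_le h.norm_L h.L_le
  obtain ⟨g, -, h4⟩ := Syl.exists_cj_eq h2 h3
  rw [cj_closure_pair] at h4
  exact ⟨_, _, h1.conj g, h4, (show V4 _ _ = _ from h4) ▸ h3⟩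

end

theorem eq_of_card_four (hA : Nat.card A = 8) (hV : Nat.card V = 4) (h1 : V ≤ U) (h2 : U ≤ A)
    (hb : b ∈ U) (h3 : b ∉ V) : U = A := by
  refine eq_of_le_of_card_ge h2 ?_
  obtain ⟨k, hk⟩ := card_dvd_of_le h1
  have h4 : Nat.card U ≠ Nat.card V := fun e => h3 (eq_of_le_of_card_ge h1 e.le ▸ hb)
  have h5 : 0 < Nat.card U := Nat.card_pos
  rw [hV] at *
  omega

theorem Ty.lift (h : Min A) (ht : Ty A X b) {E L : Subgroup (Quo (OO X))}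
    (tq : TQ (quo (OO X) X) (coset (OO X) b) E L q) (hK : K ≤ X) (hA : A ≤ 𝒩(K))
    (hL : quo (OO X) K = L) :
    (∃ w ∈ K, Wb A b w) ∧ Vb A b ≤ K ∧ quo (OO X) (Vb A b) = quo (OO X) A ⊓ L := by
  have e := h.toE8
  have hn := le_norm_OO X
  have hb := hn (ht.le ht.mem)
  have eq := e.quo (ht.le.trans hn) (odd_OO X)
  obtain ⟨a, a', h2, hV, hS⟩ := tq.four eq (quo_mono _ ht.le)
  have hVK : Syl 2 (A ⊓ K) K :=
    (e.syl' (le_sup_left : A ≤ A ⊔ K)).inf_of_le (sup_le hA le_normalizer) le_sup_right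
  have hq : quo (OO X) (A ⊓ K) = V4 a a' := by
    have h3 := Syl.quo (K := OO X) hVK (hK.trans hn)
    rw [hL] at h3
    refine eq_of_le_of_card_ge ?_ (hS.card_eq_card h3).le
    rw [hV, ← hL]
    exact le_inf (quo_mono _ inf_le_left) (quo_mono _ inf_le_right)
  have hc4 : Nat.card (A ⊓ K : Subgroup G) = 4 := by
    obtain ⟨φ⟩ := nonempty_equiv_quo (A := A ⊓ K) (inf_le_left.trans (ht.le.trans hn))
      (inf_eq_bot_of_odd (odd_OO X) hVK.isPGroup)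
    rw [Nat.card_congr φ.toEquiv, hq, h2.card]
  have hbK : b ∉ A ⊓ K := fun h3 =>
    tq.nmem (tq.lt.normal.le (hL ▸ coset_mem_quo h3.2))
  have hAb : A ≤ 𝒞[b] := e.le_cent.trans (cent_le_cent1 ht.mem)
  have hC : quo (OO X) (K ⊓ 𝒞[b]) = L := by
    rw [quo_cent_two (odd_OO X) (hK.trans hn) hb (hA ht.mem) (e.ord ht.mem ht.ne), hL,
      inf_eq_left.2 (tq.L_le.trans tq.cent)]
  obtain ⟨d, hd, hcyc⟩ := AB.exists_cyc eq.ab2 tq.centL (AB.OO_l2 eq.ab2 tq.lt.l2 tq.centL) h2 hS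
  have h4 := quo_inf_norm_of_coprime (K := OO X) (H := K ⊓ 𝒞[b]) (A := A ⊓ K)
    (inf_le_left.trans (hK.trans hn)) (le_inf inf_le_right (inf_le_left.trans hAb))
    (PiN.coprime ((piG_singleton Nat.prime_two).2 hVK.isPGroup) ((core_pi _ X).of_le inf_le_left))
    (Or.inl (sol_of_pgroup hVK.isPGroup))
  rw [hC, hq] at h4
  obtain ⟨w, hw, hw', rfl⟩ := mem_quo.1 (h4.ge ⟨hd, hcyc.mem_norm h2⟩)
  have hAe : A ⊓ K ⊔ zpowers b = A := eq_of_card_four e.card hc4 le_sup_left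
    (sup_le inf_le_left (zpowers_le.2 ht.mem)) (mem_sup_right (mem_zpowers b)) hbK
  have hW : Wb A b w := by
    refine ⟨ht.mem, ht.ne, ?_, hw.1.2, fun h5 => h2.ne ?_⟩
    · rw [← cj_eq_self_iff, ← hAe, cj_sup, cj_eq_self_iff.2 hw.2,
        cj_eq_self_iff.2 (cent1_le_norm_zpowers hw.1.2)]
    · have h6 : coset (OO X) w ∈ 𝒞(quo (OO X) A) := quo_le_cent le_rfl (coset_mem_quo h5)
      have h7 := mem_centralizer_iff.1 h6 a (hV ▸ h2.a_mem : a ∈ quo (OO X) A ⊓ L).1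
      rw [← hcyc.ab, ← h7, mul_inv_cancel_right]
  have hle : Vb A b ≤ K := by
    rw [hW.Vb_eq e]
    exact (commutator_mono le_rfl (zpowers_le.2 hw.1.1)).trans (commutator_le_right hA)
  refine ⟨⟨w, hw.1.1, hW⟩, hle, ?_⟩
  rw [eq_of_le_of_card_ge (le_inf Vb_le hle) (by rw [hc4, hW.card e]), hq, hV]

theorem Ty.lift' (h : Min A) (ht : Ty A X b) {E L : Subgroup (Quo (OO X))}
    (tq : TQ (quo (OO X) X) (coset (OO X) b) E L q) :
    (∃ w ∈ X, Wb A b w) ∧ quo (OO X) (Vb A b) = quo (OO X) A ⊓ L := by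
  have hK := coquo_le_of_le_quo (normal_OO X) tq.L_le
  obtain ⟨⟨w, hw, h1⟩, -, h2⟩ := ht.lift h tq hK ((le_norm_coquo (ht.le.trans (le_norm_OO X))).2
    ((quo_mono _ ht.le).trans tq.norm_L)) (quo_coquo L)
  exact ⟨⟨w, hK hw, h1⟩, h2⟩

section
variable (h : Min A) (ht : Ty A X b)
include h ht

theorem Ty.comm_le : ⁅X, zpowers b⁆ ≤ OO X := by
  obtain ⟨E, L, q, tq⟩ := ht.exists_tq h
  have hb := le_norm_OO X (ht.le ht.mem)
  rw [← quo_le_cent_iff (le_norm_OO X) (zpowers_le.2 hb), quo_zpowers hb, cent_zpowers]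
  exact tq.cent

theorem Ty.exists_w : ∃ w ∈ X, Wb A b w := by
  obtain ⟨E, L, q, tq⟩ := ht.exists_tq h
  exact (ht.lift' h tq).1

theorem Ty.exists_comm (hY : Y ≤ X) (ho : Odd (Nat.card Y)) (hn : A ≤ 𝒩(Y)) :
    ∃ u ∈ Vb A b, u ≠ 1 ∧ ⁅Y, zpowers u⁆ ≤ OO X := by
  obtain ⟨E, L, q, tq⟩ := ht.exists_tq h
  have hX := le_norm_OO X
  have eq := h.toE8.quo (ht.le.trans hX) (odd_OO X)
  obtain ⟨a, a', h2, hV, -⟩ := tq.four eq (quo_mono _ ht.le)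
  have hVA : V4 a a' ≤ 𝒩(quo (OO X) Y) := (hV.le.trans inf_le_left).trans (quo_le_norm hn)
  have hVL : V4 a a' ≤ L := hV.le.trans inf_le_right
  have hYL : quo (OO X) Y ≤ 𝒩(L) := (quo_mono _ hY).trans tq.norm_L
  have hoY : Odd (Nat.card (quo (OO X) Y)) := ho.of_dvd_nat (card_quo_dvd _ _)
  obtain ⟨z, hz, h3, h4⟩ : ∃ z ∈ V4 a a', z ≠ 1 ∧ quo (OO X) Y ≤ 𝒞[z] := by
    by_cases e : quo (OO X) Y ⊓ L = ⊥
    · refine ⟨a, h2.a_mem, h2.a_ne, le_trans ?_ (cent_le_cent1 h2.a_mem)⟩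
      refine commutator_eq_bot_iff.1 (eq_bot_iff.2 (e ▸ le_inf (commutator_le_left hVA) ?_))
      exact (commutator_mono le_rfl hVL).trans (commutator_le_right hYL)
    · have h5 := odd_of_le hoY (inf_le_left : quo (OO X) Y ⊓ L ≤ _)
      obtain ⟨U, hU, h6, h7, h8⟩ := exists_char_ab (sol_of_odd h5) e
      have h9 : V4 a a' ≤ 𝒩(U) := (H1.le_normalizer_inf hVA (hVL.trans le_normalizer)).trans h8
      obtain ⟨-, z, hz, h10, -, h11⟩ := AB.key eq.ab2 tq.lt.l2 tq.centL (hU.trans inf_le_right)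
        (odd_of_le h5 hU) h7 h6 h2 (hVL h2.a_mem) (hVL h2.b_mem) (h9 h2.a_mem) (h9 h2.b_mem)
      exact ⟨z, hz, h10, (le_inf hYL ((H1.le_normalizer_inf le_normalizer hYL).trans h8)).trans h11⟩
  rw [hV, ← (ht.lift' h tq).2] at hz
  obtain ⟨u, hu, hu', rfl⟩ := mem_quo.1 hz
  refine ⟨u, hu, fun e => h3 (by rw [e, coset_one]), ?_⟩
  rw [← quo_le_cent_iff (hY.trans hX) (zpowers_le.2 hu'), quo_zpowers hu', cent_zpowers]
  exact h4

theorem Ty.of_normal (hM : NormalIn M X) (h1 : ¬ M ≤ OO X ⊔ zpowers b) :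
    Vb A b ≤ M ∧ ¬ Group.IsSolvable (M ⊓ 𝒞[b] : Subgroup G) := by
  obtain ⟨E, L, q, tq⟩ := ht.exists_tq h
  have hX := le_norm_OO X
  have hb := hX (ht.le ht.mem)
  have h2 : L ≤ quo (OO X) M := by
    refine (tq.normal_cases (quo_mono _ hM.le) (tq.L_le.trans (quo_le_norm hM.norm))).resolve_right
      fun h3 => h1 ?_
    rwa [← quo_zpowers hb, quo_le_quo_iff (hM.le.trans hX) (zpowers_le.2 hb)] at h3
  constructor
  · refine (ht.lift h tq (K := M ⊓ coquo (OO X) L) (inf_le_left.trans hM.le)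
      (H1.le_normalizer_inf (ht.le.trans hM.norm) ((le_norm_coquo (ht.le.trans hX)).2
        ((quo_mono _ ht.le).trans tq.norm_L))) ?_).2.1.trans inf_le_left
    rw [quo_inf_of_le' (le_coquo L), quo_coquo, inf_eq_right.2 h2]
  · intro hs
    have h3 := quo_sol (K := OO X) hs
    rw [quo_cent_two (odd_OO X) (hM.le.trans hX) hb (hM.norm (ht.le ht.mem))
      (h.toE8.ord ht.mem ht.ne)] at h3
    exact tq.lt.qs.not_isSolvable (sol_of_le h3 (le_inf h2 (tq.L_le.trans tq.cent)))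

theorem Ty.not_le (hv : v ∈ Vb A b) (h1 : v ≠ 1) : ¬ X ⊓ 𝒞[v] ≤ A := by
  obtain ⟨E, L, q, tq⟩ := ht.exists_tq h
  intro hle
  have hX := le_norm_OO X
  have hvX := ht.le (Vb_le hv)
  have ho := h.toE8.ord (Vb_le hv) h1
  obtain ⟨a, a', h2, hV, -⟩ := tq.four (h.toE8.quo (ht.le.trans hX) (odd_OO X)) (quo_mono _ ht.le)
  have hvL : coset (OO X) v ∈ L := ((ht.lift' h tq).2.le (coset_mem_quo hv)).2
  have h3 := quo_mono (OO X) hle
  rw [quo_cent_two (odd_OO X) hX (hX hvX) (le_normalizer hvX) ho] at h3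
  have h4 := card_le_of_le (hV ▸ le_inf ((inf_le_inf_right _ tq.L_le).trans h3) inf_le_left :
    L ⊓ 𝒞[coset (OO X) v] ≤ V4 a a')
  rw [tq.lt.card_in hvL (ord_coset hvX ho), h2.card] at h4
  have h5 := tq.q3.le
  rcases aq_bq_cases tq.lt.odd with h6 | h6 <;> omega

theorem Ty.le_OO (hc : c ∈ A) (h1 : c ≠ 1) (h2 : c ≠ b) (hY : Y ≤ X) (ho : Odd (Nat.card Y))
    (hn : X ⊓ 𝒞[c] ≤ 𝒩(Y)) (hA : Y ≤ 𝒞(A)) : Y ≤ OO X := by
  obtain ⟨E, L, q, tq⟩ := ht.exists_tq h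
  have hX := le_norm_OO X
  have hb := ht.le ht.mem
  have hcX := ht.le hc
  have eq := h.toE8.quo (ht.le.trans hX) (odd_OO X)
  have hT := (h.toE8.two_of ht.mem ht.ne hc h1 h2.symm).coset (odd_OO X) (hX hb) (hX hcX)
  have hoY : Odd (Nat.card (quo (OO X) Y)) := ho.of_dvd_nat (card_quo_dvd _ _)
  have h3 := quo_le_norm (K := OO X) hn
  rw [quo_cent_two (odd_OO X) hX (hX hcX) (le_normalizer hcX) (h.toE8.ord hc h1)] at h3
  obtain ⟨v, hvA, hvE, hov, h4⟩ : ∃ v ∈ quo (OO X) A, v ∈ E ∧ orderOf v = 2 ∧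
      E ⊓ 𝒞[v] ≤ 𝒩(quo (OO X) Y) := by
    rcases tq.cover _ (coset_mem_quo hcX) with h5 | h5
    · exact ⟨_, coset_mem_quo hc, h5, hT.hb, (inf_le_inf_right _ tq.le).trans h3⟩
    · refine ⟨_, mul_mem (coset_mem_quo ht.mem) (coset_mem_quo hc), h5, hT.hab, le_trans ?_ h3⟩
      intro x hx
      have h6 := hT.left.mem_cent_ab (tq.cent (tq.le hx.1)) hx.2
      rw [hT.a_mul_ab] at h6
      exact ⟨tq.le hx.1, h6⟩
  obtain ⟨a, a', hT', hV, -⟩ := tq.four eq (quo_mono _ ht.le)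
  obtain ⟨u, hu, hvu⟩ : ∃ u ∈ quo (OO X) A ⊓ L, Two v u := by
    have h5 := ne_one_of_orderOf_two hov
    by_cases e : v = a
    · exact ⟨a', hV ▸ hT'.b_mem, e ▸ hT'⟩
    · exact ⟨a, hV ▸ hT'.a_mem, eq.two_of hvA h5 (hV ▸ hT'.a_mem : a ∈ _ ⊓ L).1 hT'.a_ne e⟩
  have hYA := quo_le_cent (K := OO X) hA
  rw [← quo_eq_bot_iff (hY.trans hX)]
  by_contra e
  obtain ⟨U, hU, h6, h7, h8⟩ := exists_char_ab (sol_of_odd hoY) e
  have h9 := tq.lt.nil_le hvE hov (N := U) ⟨hU.trans (le_inf (tq.le_E (quo_mono _ hY) hoY)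
    (hYA.trans (cent_le_cent1 hvA))), h4.trans h8⟩ (odd_of_le hoY hU) (nil_of_comm h7)
  refine h6 (eq_bot_iff.2 fun z hz => eq_one_of_inverts_of_cent (odd_orderOf hoY (hU hz))
    (tq.lt.inv hvu hvE (tq.lt.normal.le hu.2) (h9 hz)) (cent_le_cent1 hu.1 (hYA (hU hz))))

section
variable (hK : K ≤ X) (hp : ⁅K, K⁆ = K) (h1 : K ≠ ⊥) (hn : X ≤ 𝒩((K ⊔ OO X : Subgroup G)))
include hK hp h1 hn

theorem Ty.perf_eq {E L : Subgroup (Quo (OO X))}
    (tq : TQ (quo (OO X) X) (coset (OO X) b) E L q) : quo (OO X) K = L := by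
  have hKn := hK.trans (le_norm_OO X)
  refine tq.eq_L (quo_mono _ hK) (by rw [← quo_commutator hKn hKn, hp]) (fun e => h1 ?_) ?_
  · exact eq_bot_of_perfect hp (sol_of_le (sol_OO X) ((quo_eq_bot_iff hKn).1 e))
  · have h3 := quo_le_norm (K := OO X) hn
    rw [sup_comm, quo_sup_ker hKn] at h3
    exact tq.L_le.trans h3

theorem Ty.perf_cases (hM : M ≤ X) (h2 : K ≤ 𝒩(M)) : K ≤ M ∨ M ≤ OO X ⊔ zpowers b := by
  obtain ⟨E, L, q, tq⟩ := ht.exists_tq h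
  have hX := le_norm_OO X
  have hb := hX (ht.le ht.mem)
  have hL := ht.perf_eq h hK hp h1 hn tq
  rcases tq.normal_cases (quo_mono _ hM) (hL ▸ quo_le_norm h2) with h3 | h3
  · rw [← hL, quo_le_quo_iff (hK.trans hX) (hM.trans hX)] at h3
    refine Or.inl (le_of_perfect_of_le_sup (W := OO X ⊓ (K ⊔ M)) hp (sol_of_le (sol_OO X) inf_le_left)
      (inf_le_right.trans (sup_le h2 le_normalizer)) fun x hx => ?_)
    obtain ⟨o, ho, y, hy, rfl⟩ := H2.exists_mul_of_mem_sup' (hM.trans hX) (h3 hx)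
    exact mul_mem (mem_sup_left ⟨ho, (mul_mem_cancel_right (mem_sup_right hy)).1 (mem_sup_left hx)⟩)
      (mem_sup_right hy)
  · rw [← quo_zpowers hb, quo_le_quo_iff (hM.trans hX) (zpowers_le.2 hb)] at h3
    exact Or.inr h3

theorem Ty.perf_Vb (hA : A ≤ 𝒩(K)) : Vb A b ≤ K := by
  obtain ⟨E, L, q, tq⟩ := ht.exists_tq h
  exact (ht.lift h tq hK hA (ht.perf_eq h hK hp h1 hn tq)).2.1

theorem Ty.perf_w (hA : A ≤ 𝒩(K)) : ∃ w ∈ K, Wb A b w := by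
  obtain ⟨E, L, q, tq⟩ := ht.exists_tq h
  exact (ht.lift h tq hK hA (ht.perf_eq h hK hp h1 hn tq)).1

theorem Ty.perf_ns (hA : A ≤ 𝒩(K)) : ¬ Group.IsSolvable (K ⊓ 𝒞[b] : Subgroup G) := by
  obtain ⟨E, L, q, tq⟩ := ht.exists_tq h
  have hX := le_norm_OO X
  intro hs
  have h3 := quo_sol (K := OO X) hs
  rw [quo_cent_two (odd_OO X) (hK.trans hX) (hX (ht.le ht.mem)) (hA ht.mem)
    (h.toE8.ord ht.mem ht.ne), ht.perf_eq h hK hp h1 hn tq] at h3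
  exact tq.lt.qs.not_isSolvable (sol_of_le h3 (le_inf le_rfl (tq.L_le.trans tq.cent)))

end

end

theorem Min.exists_w [IsSimpleGroup G] (h : Min A) (hb : b ∈ A) (h1 : b ≠ 1) : ∃ w, Wb A b w :=
  let ⟨w, _, hw⟩ := Ty.exists_w h (h.ty_cent hb h1)
  ⟨w, hw⟩

/-- Centralizers of four-subgroups are solvable. -/
theorem Min.sol_cent [IsSimpleGroup G] (h : Min A) (ha : a ∈ A) (hb : b ∈ A) (h2 : Two a b) :
    Group.IsSolvable 𝒞(V4 a b) := by
  by_contra hs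
  have h1 : A ≤ 𝒞(V4 a b) := h.toE8.le_cent.trans (cent_le_cent (closure_pair_le ha hb))
  have h3 : ∀ c ∈ A, c ≠ 1 → c ∈ V4 a b → Ty A 𝒞(V4 a b) c := fun c hc h4 h5 =>
    ⟨h1, fun e => h.cent_ne_top h4 (top_le_iff.1 (e ▸ cent_le_cent1 h5)), hc, h4, by
      rwa [inf_eq_left.2 (cent_le_cent1 h5)]⟩
  exact h2.ne ((h3 a ha h2.a_ne h2.a_mem).unique h (h3 b hb h2.b_ne h2.b_mem))

end Cfsg.Agent.RE
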