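import Cfsg.Agent.Lib.RE.Str2
import Cfsg.Agent.Lib.RE.Char
import Cfsg.Agent.Lib.RE.L2b

/-!
# Simple groups without real elements of order three
-/

set_option autoImplicit false
set_option linter.unusedVariables false
set_option linter.unusedSectionVars false

namespace Cfsg.Agent.RE

open Subgroup Cfsg.Agent.FT Cfsg.Agent.GW
open Cfsg.Agent.H6 hiding Op cent_sup fit_le le_fit
open scoped commutatorElement

universe u

variable {G : Type u} [Group G] [Finite G] {A B D E H K L M N P Q R S T U V X Y : Subgroup G}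
  {p q m f : ℕ} {a b c d g k s t u v w x y z φ : G}

theorem Min.false [IsSimpleGroup G] (h : Min A) : False := by
  obtain ⟨t, ht⟩ := ne_bot_iff_exists_ne_one.1 (show A ≠ ⊥ from fun a => by
    have := h.card; rw [a, card_bot] at this; omega)
  have t1 : (t : G) ≠ 1 := fun a => ht (Subtype.ext a)
  obtain ⟨E, L, q, hq⟩ := h.tq_cent t.2 t1
  obtain ⟨a, b, h2, hs⟩ := l2_four hq.lt.l2 hq.q3
  have LC : L ≤ 𝒞[(t : G)] := hq.lt.normal.le.trans hq.le
  obtain ⟨g, hg, e⟩ := (h.toE8.syl' (h.toE8.le_cent.trans (cent_le_cent1 t.2))).exists_cj_le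
    (IsPGroup.of_card (n := 1) (by rw [Nat.card_zpowers, h2.ha, pow_one]))
    (zpowers_le.2 (LC (hs.le h2.a_mem)))
  have n : g ∈ 𝒩(L) := hq.cn.le_norm hq.lt.normal.le hq.lt.normal.norm hg
  obtain ⟨w, u, B, P, K, m, f, c⟩ := St.exists_ch ⟨h, hq, t.2, e (conj_mem_cj (mem_zpowers a)),
    (mem_normalizer_iff.1 n a).1 (hs.le h2.a_mem), by simpa using h2.a_ne⟩
  exact c.false

theorem simple_nr_aux (n : ℕ) : ∀ (G : Type u) [Group G] [Finite G] [IsSimpleGroup G],
    Nat.card G < n → ¬ IsMulCommutative G → NR G → L3 G ∨ (¬ 3 ∣ Nat.card G ∧ ¬ AB.Ab2 G) := by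
  induction n with
  | zero => intro G _ _ _ h; omega
  | succ n ih =>
    intro G _ _ _ hn hG h
    obtain ⟨T, A, hz, h1⟩ := h.exists_za hG
    rcases G74.kn hG hz h1 with ⟨H, Q, D, t, h3, -⟩ | ⟨hs, hse, h4 | h8, tr⟩
    · exact Or.inr (h.hyp3 h3)
    · exact Or.inl (four h (syl_iff_sylIn.2 hs) h4 fun a ha => hz.sq a (hz.sub ha))
    · refine (Min.false (A := A) ⟨⟨syl_iff_sylIn.2 hs, h8, fun a ha => hz.sq a (hz.sub ha)⟩, h,
        fun a ha a1 b hb b1 => ?_, fun a => hse (a.of_equiv topEquiv), fun K _ _ _ hK c1 c2 c3 =>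
          (ih K (by omega) c1 c2).resolve_right fun a => a.2 c3⟩).elim
      obtain ⟨g, hg, e⟩ := tr a ha (by rwa [mem_bot]) b hb (by rwa [mem_bot])
      exact ⟨g, hg.2, inv_mul_eq_one.1 (mem_bot.1 e)⟩

theorem simple_nr [IsSimpleGroup G] (hG : ¬ IsMulCommutative G) (h : NR G) :
    L3 G ∨ (¬ 3 ∣ Nat.card G ∧ ¬ AB.Ab2 G) := simple_nr_aux _ G (Nat.lt_succ_self _) hG h

end Cfsg.Agent.RE
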