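import Cfsg.Agent.Lib.RE.Main
import Cfsg.Agent.Lib.H9.Present

/-!
# Reduction to simple groups
-/

set_option autoImplicit false
set_option linter.unusedVariables false
set_option linter.unusedSectionVars false

namespace Cfsg.Agent.RE

open Subgroup Cfsg.Agent.FT Cfsg.Agent.GW
open Cfsg.Agent.H6 hiding Op cent_sup fit_le le_fit
open scoped commutatorElement

universe u

variable {G : Type u} [Group G] [Finite G] {A B D E H K L M N P Q R S T U V X Y : Subgroup G}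
  {p q m f : ℕ} {a b c d g k s t u v w x y z φ : G}

/-- `G` is generated by its 2-elements. -/
def RedGen (G : Type*) [Group G] : Prop := closure {g : G | ∃ k : ℕ, orderOf g = 2 ^ k} = ⊤

theorem RedGen.surj {G' : Type*} [Group G'] (h : RedGen G) (f : G →* G')
    (hf : Function.Surjective f) : RedGen G' := by
  have := congrArg (Subgroup.map f) h
  rw [MonoidHom.map_closure, map_top_of_surjective f hf] at this
  refine top_le_iff.1 (this.ge.trans (closure_mono ?_))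
  rintro _ ⟨g, ⟨k, hk⟩, rfl⟩
  obtain ⟨j, -, hj⟩ := (Nat.dvd_prime_pow Nat.prime_two).1 (hk ▸ orderOf_map_dvd f g)
  exact ⟨j, hj⟩

theorem RedGen.eq_top (h : RedGen G) (hM : ∀ T : Subgroup G, IsPGroup 2 T → T ≤ M) : M = ⊤ := by
  refine top_le_iff.1 (h.ge.trans ((closure_le _).2 ?_))
  rintro g ⟨k, hk⟩
  exact hM (zpowers g) (IsPGroup.of_card (by rw [Nat.card_zpowers, hk])) (mem_zpowers g)

theorem RedGen.frattini (h : RedGen G) (hn : NR G) [E.Normal] [M.Normal] (hP : Syl 3 P E)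
    (hE : E ≤ M) (hc : 𝒞(P) ≤ M) : M = ⊤ := by
  haveI : Fact (Nat.Prime 3) := ⟨Nat.prime_three⟩
  refine h.eq_top fun T hT => ?_
  have hN : (⊤ : Subgroup G) ≤ 𝒩(M) := (NormalIn.of_normal M).norm
  refine PiG.le_of_relIndex ((piG_singleton Nat.prime_two).2 hT) le_top hN
    ((piN_compl_singleton_iff Nat.prime_two).2 fun hd => ?_)
  have e : M ⊔ 𝒩(P) = ⊤ := top_le_iff.1 (hP.frattini_top.ge.trans (sup_le_sup_right hE _))
  rw [← e, relIndex_sup_of_norm (le_top.trans hN)] at hd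
  exact (Nat.not_even_iff_odd.2 (hn.odd_relIndex hP.isPGroup))
    (even_iff_two_dvd.2 (hd.trans (relIndex_dvd_of_le_left _ hc)))

theorem red_no_comp (h : NR G) (hgen : RedGen G) (hO : pPrimeCore 3 G = ⊥)
    (hc : ∀ K : Subgroup G, ¬ Comp K ⊤) : Subsingleton G := by
  haveI : Fact (Nat.Prime 3) := ⟨Nat.prime_three⟩
  have h1 : FS (⊤ : Subgroup G) ≤ H6.Op 3 ⊤ := by
    rw [fs_eq]
    refine sup_le (lay_le fun K hK => (hc K hK).elim) ((fit_le_op_sup_opp 3 ⊤).trans ?_)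
    rw [opp_top, hO, bot_inf_eq, sup_bot_eq]
  have h2 : 𝒞(H6.Op 3 (⊤ : Subgroup G)) = ⊤ := hgen.eq_top fun T hT =>
    h.le_cent (isPGroup_op 3 ⊤) hT (le_top.trans (le_normalizer_op 3 ⊤))
  have h3 : (⊤ : Subgroup G) ≤ H6.Op 3 ⊤ :=
    (le_fs_of_cent le_rfl (h2.ge.trans (cent_le_cent h1))).trans h1
  have h4 : (⊥ : Subgroup G) = ⊤ := hgen.eq_top fun T hT => by
    have := IsPGroup.disjoint_of_ne 2 3 (by decide) T _ hT (isPGroup_op 3 ⊤)
    exact (le_inf le_rfl (le_top.trans h3)).trans this.le_bot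
  exact ⟨fun a b => by
    rw [mem_bot.1 (h4.ge (mem_top a)), mem_bot.1 (h4.ge (mem_top b))]⟩

theorem red_comp (h : NR G) (hO : pPrimeCore 3 G = ⊥) (hK : Comp K ⊤) : Zc K = ⊥ ∧ L3 K := by
  haveI : Fact (Nat.Prime 3) := ⟨Nat.prime_three⟩
  have hO' : Op' 3 (⊤ : Subgroup G) = ⊥ := (Op'_top Nat.prime_three).trans hO
  have hZ : IsPGroup 3 (Zc K) :=
    (Op_pgroup Nat.prime_three ⊤).to_le (fit_eq_Op Nat.prime_three hO' ▸ le_fit_of_sn
      ((H2.SN.of_normal (Zc_normal K).le (Zc_normal K).norm).trans hK.sn)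
      (nil_of_comm (Zc_comm K)))
  have hn : K ≤ 𝒩(𝒞(K)) := le_normalizer.trans (normalIn_cent_norm K).norm
  haveI := G74.qs_simple hK.qs
  rcases simple_nr (G74.qs_nab hK.qs) (h.quo 𝒞(K) K) with h3 | ⟨h3, -⟩
  · have hz := schur hK.qs hZ h3
    obtain ⟨e⟩ := nonempty_equiv_quo hn ((inf_comm _ _).trans hz)
    exact ⟨hz, h3.of_equiv e.symm⟩
  · exfalso
    rw [card_quo hn, ← inf_relIndex_left] at h3
    have h4 := not_dvd_center_of_abelian Nat.prime_three ⟨inf_le_left, hZ, h3⟩ (Zc_comm K)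
      hK.qs.perfect
    have h5 : ¬ 3 ∣ Nat.card K := fun hd => by
      rw [← H1.card_mul_relIndex (inf_le_left : Zc K ≤ K)] at hd
      exact ((Nat.Prime.dvd_mul Nat.prime_three).1 hd).elim h4 h3
    have h6 := le_opp hK.sn ((Nat.coprime_comm.1 ((Nat.Prime.coprime_iff_not_dvd
      Nat.prime_three).2 h5)))
    rw [opp_top, hO] at h6
    exact hK.qs.ne_bot (le_bot_iff.1 h6)

theorem red_normal (h : NR G) (hgen : RedGen G) (hO : pPrimeCore 3 G = ⊥) (hK : Comp K ⊤) :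
    K.Normal := by
  haveI : Fact (Nat.Prime 3) := ⟨Nat.prime_three⟩
  obtain ⟨hZ, q, hq, hL⟩ := red_comp h hO hK
  have hE : NormalIn (Lay (⊤ : Subgroup G)) ⊤ := ⟨le_top, le_normalizer_lay ⊤⟩
  haveI := hE.normal
  have key : ∀ P : Subgroup G, Syl 3 P (Lay ⊤) → 𝒞(P) ≤ 𝒩(K) := fun P hP c hc => by
    have h1 := hP.inf_of_le hK.lay_le_normalizer hK.le_lay
    have h2 : P ⊓ K ≠ ⊥ := fun e => by
      have := syl_card hL hq h1
      rw [e, card_bot] at this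
      have := hq.le
      omega
    rcases (hK.cj_of_mem (g := c) (by rw [normalizer_eq_top]; trivial)).eq_or_cent hK with e | e
    · exact cj_eq_self_iff.1 e
    · refine (h2 (le_bot_iff.1 fun u hu => hZ.le ⟨hu.2, e ?_⟩)).elim
      have := conj_mem_cj (g := c) hu.2
      rwa [← mem_cent.1 hc u hu.1, mul_inv_cancel_right] at this
  obtain ⟨P, hP⟩ := H1.exists_isSylowIn 3 (Lay (⊤ : Subgroup G))
  have e : (𝒩(K)).normalCore = ⊤ := by
    refine hgen.frattini h hP (normal_le_normalCore.2 hK.lay_le_normalizer) fun c hc b => ?_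
    refine key (cj b P) (hP.conj_smul_of_mem_normalizer (hE.norm (mem_top b))) ?_
    rw [← cj_centralizer]
    exact conj_mem_cj hc
  exact (⟨le_top, e.ge.trans (normalCore_le _)⟩ : NormalIn K ⊤).normal

theorem red_cons {k : ℕ} (Γ : Fin (k + 1) → Type*) [∀ i, Group (Γ i)] :
    Nonempty ((Γ 0 × ((i : Fin k) → Γ i.succ)) ≃* ((i : Fin (k + 1)) → Γ i)) :=
  ⟨{ Fin.consEquiv Γ with
    map_mul' := fun x y => funext fun i => by
      refine Fin.cases ?_ (fun j => ?_) i <;> rfl }⟩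

theorem red_aux (n : ℕ) : ∀ (G : Type u) [Group G] [Finite G], Nat.card G = n → NR G →
    RedGen G → pPrimeCore 3 G = ⊥ → ∃ (k : ℕ) (f : Fin k → ℕ), (∀ i, 1 ≤ f i) ∧
      Nonempty (G ≃* ((i : Fin k) →
        Matrix.ProjectiveSpecialLinearGroup (Fin 2) (GaloisField 3 (2 * f i + 1)))) := by
  haveI : Fact (Nat.Prime 3) := ⟨Nat.prime_three⟩
  induction n using Nat.strong_induction_on with
  | _ n ih =>
  intro G _ _ hn h hgen hO
  by_cases hc : ∃ K : Subgroup G, Comp K ⊤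
  swap
  · haveI := red_no_comp h hgen hO fun K hK => hc ⟨K, hK⟩
    haveI : Unique G := uniqueOfSubsingleton 1
    exact ⟨0, Fin.elim0, fun i => i.elim0, ⟨MulEquiv.ofUnique⟩⟩
  obtain ⟨K, hK⟩ := hc
  haveI := red_normal h hgen hO hK
  obtain ⟨hZ, hL3⟩ := red_comp h hO hK
  obtain ⟨q, hq, hL⟩ := id hL3
  obtain ⟨P, hP⟩ := H1.exists_isSylowIn 3 K
  have hN : (⊤ : Subgroup G) ≤ 𝒩(K) := (NormalIn.of_normal K).norm
  haveI : (𝒞(K)).Normal :=
    (⟨le_top, hN.trans (normalIn_cent_norm K).norm⟩ : NormalIn 𝒞(K) ⊤).normal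
  have e : K ⊔ 𝒞(K) = ⊤ := hgen.frattini h hP le_sup_left fun c hc =>
    sup_le_sup_right hP.le _ (syl_cent hL hq hP (hN (mem_top c)) hc)
  obtain ⟨φ⟩ := H9.nonempty_mulEquiv_prod (fun a ha b hb => mem_cent.1 hb a ha) hZ e
  have hlt : Nat.card 𝒞(K) < n :=
    hn ▸ H1.card_lt_of_ne_top fun e => hK.qs.not_le_centralizer (le_top.trans e.ge)
  obtain ⟨k, f, hf, ⟨ψ⟩⟩ := ih _ hlt 𝒞(K) rfl (h.sub _)
    (hgen.surj ((MonoidHom.snd _ _).comp φ.toMonoidHom)
      (Prod.snd_surjective.comp φ.surjective))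
    ((map_eq_bot_iff_of_injective _ (subtype_injective _)).1
      (le_bot_iff.1 ((H1.map_subtype_pPrimeCore_le 3 𝒞(K)).trans hO.le)))
  obtain ⟨a, ha, ⟨χ⟩⟩ := l3_iff.1 hL3
  obtain ⟨ω⟩ := red_cons fun i : Fin (k + 1) => Matrix.ProjectiveSpecialLinearGroup (Fin 2)
    (GaloisField 3 (2 * (Fin.cons a f : Fin (k + 1) → ℕ) i + 1))
  exact ⟨k + 1, Fin.cons a f, fun i => Fin.cases ha hf i,
    ⟨φ.trans ((χ.prodCongr ψ).trans ω)⟩⟩

theorem red (h : NR G) (hgen : closure {g : G | ∃ k : ℕ, orderOf g = 2 ^ k} = ⊤)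
    (hO : pPrimeCore 3 G = ⊥) : ∃ (k : ℕ) (f : Fin k → ℕ), (∀ i, 1 ≤ f i) ∧
      Nonempty (G ≃* ((i : Fin k) →
        Matrix.ProjectiveSpecialLinearGroup (Fin 2) (GaloisField 3 (2 * f i + 1)))) :=
  red_aux _ G rfl h hgen hO

theorem nr_iff (hgen : closure {g : G | ∃ k : ℕ, orderOf g = 2 ^ k} = ⊤) :
    NR G ↔ ∃ (k : ℕ) (f : Fin k → ℕ), (∀ i, 1 ≤ f i) ∧
      Nonempty (G ⧸ pPrimeCore 3 G ≃* ((i : Fin k) →
        Matrix.ProjectiveSpecialLinearGroup (Fin 2) (GaloisField 3 (2 * f i + 1)))) := by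
  constructor
  · intro h
    exact red (h.surj _ (QuotientGroup.mk'_surjective _))
      (RedGen.surj hgen _ (QuotientGroup.mk'_surjective _))
      (H1.pPrimeCore_quotient_pPrimeCore 3 G)
  · rintro ⟨k, f, hf, ⟨e⟩⟩
    refine NR.of_quot (pPrimeCore 3 G) ((Nat.Prime.coprime_iff_not_dvd Nat.prime_three).1
      (H1.pPrimeCore_card_coprime 3 G).symm) (NR.of_equiv (NR.pi fun i => ?_) e.symm)
    obtain ⟨q, hq, hL⟩ := l3_iff.2 ⟨f i, hf i, ⟨MulEquiv.refl _⟩⟩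
    exact l2_nr hL hq

end Cfsg.Agent.RE
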