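import Cfsg.Agent.Lib.RE.Uniq
import Cfsg.Agent.Lib.H6.Transfer

/-!
# Field automorphisms and centralizers of elements of order three
-/

set_option autoImplicit false
set_option linter.unusedVariables false
set_option linter.unusedSectionVars false

namespace Cfsg.Agent.RE

open Subgroup Cfsg.Agent.FT Cfsg.Agent.GW
open Cfsg.Agent.H6 hiding Op cent_sup fit_le le_fit
open scoped commutatorElement

universe u

variable {G : Type u} [Group G] [Finite G] {A B D E H K L M N P Q R S T U V X Y : Subgroup G}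
  {p q m f : ℕ} {a b c d g k s t u v w x y z φ : G}

theorem TQ.cn (h : TQ 𝒞[t] t E L q) : AB.Cn t E L q :=
  ⟨h.ord, h.le, h.nmem, h.cover, h.lt.normal, h.lt.cent, h.lt.l2⟩

theorem s1_zp (ht : orderOf t = 2) (hx : x ∈ zpowers t) : x = 1 ∨ x = t := by
  obtain ⟨k, rfl⟩ := mem_zpowers_iff.1 hx
  rw [zpow_eq_zpow_emod k (n := 2) (by rw [zpow_two]; exact mul_self_of_orderOf_two ht)]
  obtain e | e : k % 2 = 0 ∨ k % 2 = 1 := by omega
  · rw [e, zpow_zero]; exact Or.inl rfl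
  · rw [e, zpow_one]; exact Or.inr rfl

theorem TQ.two_le (h : TQ 𝒞[t] t E L q) (hab : AB.Ab2 G) (hT : IsPGroup 2 T) (hE : T ≤ E) :
    T ≤ L := by
  obtain ⟨T1, h1, h2⟩ := H1.exists_isSylowIn_ge hT hE
  exact h2.trans (AB.le_of_two hab h.lt.normal h.lt.cent (AB.OO_l2 hab h.lt.l2 h.cn.centL) h1)

theorem TQ.mem_of_sup (h : TQ 𝒞[t] t E L q) (hM : M ≤ E) (hx : x ∈ E)
    (h1 : x ∈ zpowers t ⊔ M) : x ∈ M := by
  obtain ⟨a, ha, b, hb, rfl⟩ := NormalIn.exists_mul_of_mem_sup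
    ((hM.trans h.le).trans cent1_le_norm_zpowers) h1
  rcases s1_zp h.ord ha with rfl | rfl
  · rwa [one_mul]
  · exact absurd ((mul_mem_cancel_right (hM hb)).1 hx) h.nmem

theorem TQ.exists_ku (h : TQ 𝒞[t] t E L q) (hn : NR G) (hab : AB.Ab2 G) (hu : u ∈ L)
    (ho : orderOf u = 3) : ∃ K, KU t u K := by
  have := Fact.mk Nat.prime_three
  have u1 : u ≠ 1 := by
    rintro rfl
    simp at ho
  have tt := mul_self_of_orderOf_two h.ord
  obtain ⟨P, hP, huP⟩ := H1.exists_isSylowIn_ge (isPGroup_zpowers_of_orderOf_eq ho)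
    (zpowers_le.2 hu)
  have hPu := syl_cent1 h.lt.l2 h.q3 hP (huP (mem_zpowers u)) u1
  have htu : t ∈ 𝒞[u] := mem_cent1_comm.1 (h.le (h.lt.normal.le hu))
  have hs : Syl 2 (zpowers t) 𝒞[u] := by
    obtain ⟨T, h1, h2⟩ := H1.exists_isSylowIn_ge (isPGroup_zpowers_of_orderOf_eq h.ord)
      (zpowers_le.2 htu)
    have h3 : T ≤ 𝒞[t] := (comm_iff.1 (hab T h1.isPGroup)).trans
      (cent_le_cent1 (h2 (mem_zpowers t)))
    have h4 : T ⊓ E ≤ P ⊓ T := le_inf (hPu ▸ le_inf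
      (h.two_le hab (h1.isPGroup.to_le inf_le_left) inf_le_right) (inf_le_left.trans h1.le))
      inf_le_left
    rw [inf_eq_bot_of_odd (odd_of_pgroup Nat.prime_three (by norm_num) hP.isPGroup)
      h1.isPGroup] at h4
    have h5 : T ≤ zpowers t := fun x hx => by
      rcases h.cover x (h3 hx) with e | e
      · rw [mem_bot.1 (h4 ⟨hx, e⟩)]; exact one_mem _
      · have := mem_bot.1 (h4 ⟨mul_mem (h2 (mem_zpowers t)) hx, e⟩)
        rw [← inv_eq_of_mul_eq_one_right this]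
        exact inv_mem (mem_zpowers t)
    exact h5.antisymm h2 ▸ h1
  have h1 := (nc2_of_cyclic hs inferInstance).sdp hs
  have h2 := coprime_two_of_odd h.ord (odd_OO 𝒞[u])
  obtain ⟨R, hR, hR2⟩ := coprime_Syl_exists Nat.prime_three h1.right_le_normalizer h2
    (Or.inr (sol_OO _))
  have h3 : ⁅OO 𝒞[u], zpowers t⁆ ≤ Op' 3 (OO 𝒞[u]) :=
    coprime_comm_pcore h1.right_le_normalizer h2 (sol_OO _)
      (by rw [compl_compl]; exact (hall_singleton Nat.prime_three).2 hR)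
      (cent_comm.1 (zpowers_le.2 (hn.mem_cent hR.isPGroup tt (hR2 (mem_zpowers t)))))
  have h4 : 𝒞[u] ≤ 𝒩(Op' 3 (OO 𝒞[u])) := h1.normal.norm.trans (norm_le_norm_core _ _)
  have h5 : Op' 3 (OO 𝒞[u]) ≤ 𝒞[u] := (core_le _ _).trans (core_le _ _)
  have h6 : Odd (Nat.card (Op' 3 (OO 𝒞[u]))) := odd_of_le (odd_OO _) (core_le _ _)
  have h7 := core_pi {3}ᶜ (OO 𝒞[u])
  refine ⟨_, h5, h4, h6, (piN_compl_singleton_iff Nat.prime_three).1 h7,
    fun k hk => inverts_of_fpf tt h6 (h4 htu) ?_ hk, fun x hx => h3 ?_, hs⟩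
  · obtain ⟨Y, hY⟩ : ∃ Y, Y = Op' 3 (OO 𝒞[u]) ⊓ 𝒞[t] := ⟨_, rfl⟩
    rw [← hY]
    have y1 : Y ≤ E := fun y hy => by
      rw [hY] at hy
      exact h.cn.mem_of_odd hy.2 (odd_orderOf h6 hy.1)
    have y2 : P ⊓ Y = ⊥ := ((piG_singleton Nat.prime_three).2 hP.isPGroup).inf_eq_bot
      (h7.of_le (hY ▸ inf_le_left))
    have y3 : P ≤ 𝒩(Y) := hY ▸ H1.le_normalizer_inf ((hPu ▸ inf_le_right : P ≤ 𝒞[u]).trans h4)
      ((hP.le.trans (h.lt.normal.le.trans h.le)).trans le_normalizer)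
    have y4 : Y ≤ 𝒩(P) := hPu ▸ H1.le_normalizer_inf (y1.trans h.lt.normal.norm)
      (((hY ▸ inf_le_left : Y ≤ Op' 3 (OO 𝒞[u])).trans h5).trans le_normalizer)
    have y5 : Y ≤ 𝒞(P) := cent_comm.1 (commutator_eq_bot_iff.1 (eq_bot_iff.2
      (y2 ▸ le_inf (commutator_le_left y4) (commutator_le_right y3))))
    refine eq_bot_iff.2 fun y hy => y2 ▸ ⟨?_, hy⟩
    have y6 := syl_cent h.lt.l2 h.q3 hP (h.lt.normal.norm (y1 hy)) (y5 hy)
    rw [sup_comm] at y6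
    obtain ⟨c, hc, a, ha, rfl⟩ := NormalIn.exists_mul_of_mem_sup
      ((hP.le.trans le_normalizer).trans (normalIn_cent_norm L).norm) y6
    have y7 : c ∈ E ⊓ 𝒞(L) :=
      ⟨(mul_mem_cancel_right (h.lt.normal.le (hP.le ha))).1 (y1 hy), hc⟩
    rw [h.lt.cent] at y7
    rwa [mem_bot.1 y7, one_mul]
  · obtain ⟨n, hn, a, ha, rfl⟩ := h1.exists_mul hx
    have h8 : a * t = t * a := by
      rcases s1_zp h.ord ha with rfl | rfl <;> simp
    have h9 : n * a * t * (n * a)⁻¹ * t⁻¹ = n * t * n⁻¹ * t⁻¹ := by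
      rw [mul_assoc n, h8]; group
    rw [h9]
    exact commutator_mem_comm hn t

variable [IsSimpleGroup G] (h : St A t v E L q)
include h

theorem St.e8 : E8 A := h.min.toE8

theorem St.ab2 : AB.Ab2 G := h.e8.ab2

theorem St.t1 : t ≠ 1 := ne_one_of_orderOf_two h.tq.ord

theorem St.LE : L ≤ E := h.tq.lt.normal.le

theorem St.Lt : L ≤ 𝒞[t] := h.LE.trans h.tq.le

theorem St.tN : 𝒞[t] ≤ 𝒩(L) := h.tq.cn.le_norm h.LE h.tq.lt.normal.norm

theorem St.A_le (ha : a ∈ A) : A ≤ 𝒞[a] := h.e8.le_cent.trans (cent_le_cent1 ha)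

theorem St.two : Two t v :=
  h.e8.two_of h.tA h.t1 h.vA h.v1 fun e => h.tq.nmem (e ▸ h.LE h.vL)

theorem St.vord : orderOf v = 2 := h.two.hb

theorem St.four : ∃ v', Two v v' ∧ V4 v v' = A ⊓ L ∧ Syl 2 (A ⊓ L) L ∧
    ∀ x ∈ A, x ∈ L ∨ t * x ∈ L := by
  obtain ⟨a, b, h1, h2, h3, h4⟩ := h.tq.cn.syl h.ab2 h.e8.syl h.tA
  have h5 : A ⊓ L = V4 a b :=
    h2.eq_of_le (h.e8.two.to_le inf_le_left) inf_le_right (le_inf h3 h2.le)
  obtain ⟨c, h6, h7⟩ := exists_two_of_klein h1.klein (h5 ▸ ⟨h.vA, h.vL⟩ : v ∈ V4 a b) h.v1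
  exact ⟨c, h6, h7.symm.trans h5.symm, h5 ▸ h2, fun x hx =>
    (h4 x hx).imp (fun e => h2.le e) fun e => h2.le e⟩

theorem St.card_V : Nat.card (A ⊓ L : Subgroup G) = 4 := by
  obtain ⟨v', h1, h2, -⟩ := h.four
  rw [← h2, h1.card]

theorem St.A_le_sup : A ≤ zpowers t ⊔ A ⊓ L := fun x hx => by
  obtain ⟨v', -, -, -, h4⟩ := h.four
  rcases h4 x hx with e | e
  · exact mem_sup_right ⟨hx, e⟩
  · exact (mul_mem_cancel_left (mem_sup_left (mem_zpowers t))).1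
      (mem_sup_right ⟨mul_mem h.tA hx, e⟩)

theorem St.mem_norm (h1 : g ∈ 𝒞[t]) (h2 : g ∈ 𝒩((A ⊓ L : Subgroup G))) : g ∈ 𝒩(A) := by
  have h3 : zpowers t ⊔ A ⊓ L = A :=
    le_antisymm (sup_le (zpowers_le.2 h.tA) inf_le_left) h.A_le_sup
  rw [← h3, ← cj_eq_self_iff, cj_sup, cj_eq_self_iff.2 h2,
    cj_eq_self_iff.2 (cent1_le_norm_zpowers h1)]

theorem St.cent_four : L ⊓ 𝒞((A ⊓ L : Subgroup G)) ≤ A ⊓ L := by
  obtain ⟨v', h1, h2, -⟩ := h.four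
  have h3 : v' ∈ A ⊓ L := h2 ▸ h1.b_mem
  rw [← h2]
  exact h.tq.lt.cent_four h1 (h.LE h.vL) (h.LE h3.2)

theorem St.exists_cyc : ∃ v', ∃ w ∈ L, Two v v' ∧ V4 v v' = A ⊓ L ∧ Cyc w v v' ∧
    orderOf w = 3 ∧ Wb A t w := by
  have := Fact.mk Nat.prime_three
  obtain ⟨v', h1, h2, h3, -⟩ := h.four
  obtain ⟨w, hw, hc⟩ := AB.exists_cyc h.ab2 h.tq.cn.centL
    (AB.OO_l2 h.ab2 h.tq.lt.l2 h.tq.cn.centL) h1 (h2 ▸ h3)
  have c1 := hc.ab
  have c2 := hc.bc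
  have c3 := hc.ca h1
  have h4 : ∀ x, w ^ 3 * x * (w ^ 3)⁻¹ = w * (w * (w * x * w⁻¹) * w⁻¹) * w⁻¹ := fun x => by
    simp only [pow_three, mul_inv_rev, mul_assoc]
  have h5 : w ^ 3 ∈ V4 v v' := by
    rw [h2]
    refine h.cent_four ⟨pow_mem hw 3, ?_⟩
    rw [← h2, h1.cent_eq]
    exact ⟨mem_cent1.2 (mul_inv_eq_iff_eq_mul.1 (by rw [h4, c1, c2, c3])),
      mem_cent1.2 (mul_inv_eq_iff_eq_mul.1 (by rw [h4, c2, c3, c1]))⟩
  have h6 : w * w ^ 3 * w⁻¹ = w ^ 3 := by group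
  have h7 : v ≠ v' := h1.ne
  refine ⟨v', w, hw, h1, h2, hc, orderOf_eq_prime ?_ ?_, h.tA, h.t1,
    h.mem_norm (h.Lt hw) (h2 ▸ hc.mem_norm h1), h.Lt hw, fun e => h7 ?_⟩
  · rcases h1.mem_iff.1 h5 with e | e | e | e
    · exact e
    · rw [e, c1] at h6; exact absurd h6.symm h7
    · rw [e, c2] at h6; exact absurd (by simpa using h6) h1.a_ne
    · rw [e, c3] at h6; exact absurd (by simpa using h6) h1.b_ne
  · rintro rfl
    exact h7 (by simpa using c1)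
  · rw [← c1, ← mem_cent.1 e v h.vA, mul_inv_cancel_right]

theorem St.exists_w : ∃ w ∈ L, orderOf w = 3 ∧ Wb A t w :=
  let ⟨_, w, h1, _, _, _, h2⟩ := h.exists_cyc
  ⟨w, h1, h2⟩

theorem St.Vb_eq : Vb A t = A ⊓ L := by
  obtain ⟨v', w, h1, h2, h3, h4, h5, h6⟩ := h.exists_cyc
  have h7 := h.card_V
  rcases h6.inv_cases h.e8 inf_le_left (h3 ▸ h4.mem_norm h2) with e | e | e | e
  · rw [e, card_bot] at h7; omega
  · rw [e, card_zpowers_two h.tq.ord] at h7; omega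
  · exact e.symm
  · rw [e, h.e8.card] at h7; omega

theorem St.C0_le : OO 𝒞(A) ≤ E := fun x hx =>
  h.tq.cn.mem_of_odd (cent_le_cent1 h.tA (core_le _ _ hx)) (odd_orderOf (odd_OO _) hx)

theorem St.inf_C0 : L ⊓ OO 𝒞(A) = ⊥ := by
  refine eq_bot_iff.2 (le_trans (le_inf inf_le_right ?_)
    (inf_eq_bot_of_odd (odd_OO 𝒞(A)) h.e8.two).le)
  exact ((inf_le_inf_left _ ((core_le _ _).trans (cent_le_cent inf_le_left))).trans
    h.cent_four).trans inf_le_left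

theorem St.cent_le : 𝒞(A) ≤ zpowers t ⊔ (L ⊔ OO 𝒞(A)) := by
  refine h.e8.cent_eq.le.trans (sup_le (h.A_le_sup.trans (sup_le_sup_left ?_ _))
    (le_sup_right.trans le_sup_right))
  exact inf_le_right.trans le_sup_left

theorem St.sup_C0 : L ⊔ OO 𝒞(A) = E := by
  obtain ⟨v', -, -, h3, -⟩ := h.four
  obtain ⟨w, h4, -, h5⟩ := h.exists_w
  have h6 := sup_le h.LE h.C0_le
  refine le_antisymm h6 ((h3.frattini h.LE h.tq.lt.normal.norm).ge.trans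
    (sup_le le_sup_left fun x hx => h.tq.mem_of_sup h6 hx.1 ?_))
  refine sup_le h.cent_le (zpowers_le.2 (mem_sup_right (mem_sup_left h4))) (h5.le_sup h.e8 ?_)
  exact ⟨h.mem_norm (h.tq.le hx.1) hx.2, h.tq.le hx.1⟩

theorem St.norm_C0 : 𝒩(A) ≤ 𝒩(OO 𝒞(A)) :=
  (normalIn_cent_norm A).norm.trans (norm_le_norm_core _ _)

theorem St.norm_le_cent : 𝒩(A) ≤ 𝒞(OO 𝒞(A)) := by
  obtain ⟨v', w, h1, h2, h3, h4, -, h6⟩ := h.exists_cyc
  have h7 : v' ∈ A ⊓ L := h3 ▸ h2.b_mem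
  refine (h6.eq_of_normal h.e8 h.min.tr ((NormalIn.refl _).inf_centralizer h.norm_C0)
    (le_inf cent_le_norm (h.e8.cent_eq.le.trans (sup_le (cent_comm.1 (core_le _ _)) ?_)))
    ⟨h6.norm, mem_cent.2 fun y hy => ?_⟩).ge.trans inf_le_right
  · refine commutator_eq_bot_iff.1 (eq_bot_iff.2 (h.inf_C0 ▸ le_inf ?_ (der_le _)))
    exact (commutator_mono h.C0_le h.C0_le).trans h.tq.lt.der
  · refine (mem_cent1.1 (h.tq.lt.norm_cent h2 h.vL h7.2 h1 (h4.mem_norm h2) (h.C0_le hy) ?_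
      (odd_orderOf (odd_OO _) hy))).symm
    rw [h3]
    exact cent_le_cent inf_le_left (core_le _ _ hy)

theorem St.fpf (hφ : φ ∈ OO 𝒞(A)) (h1 : φ ≠ 1) : OO (L ⊓ 𝒞[v]) ⊓ 𝒞[φ] = ⊥ := by
  have h2 : 𝒩(A) ≤ 𝒞[φ] := h.norm_le_cent.trans (cent_le_cent1 hφ)
  have h3 : A ≤ 𝒞[φ] := le_normalizer.trans h2
  have hs : Group.IsSolvable (𝒞[φ] : Subgroup G) := by
    by_contra hs
    obtain ⟨b, hb⟩ := h.min.exists_ty h3 (h.min.cent_ne_top h1) hs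
    obtain ⟨c, hc, c1, cb⟩ : ∃ c ∈ A, c ≠ 1 ∧ c ≠ b := by
      by_cases e : t = b
      · exact ⟨v, h.vA, h.v1, e ▸ h.two.ne.symm⟩
      · exact ⟨t, h.tA, h.t1, e⟩
    obtain ⟨g, hg, e⟩ := h.min.tr b hb.mem hb.ne c hc c1
    have h4 : g * b * g⁻¹ * b⁻¹ ∈ OO 𝒞[φ] ⊓ A :=
      ⟨hb.comm_le h.min (commutator_mem_comm (h2 hg) b),
        A.mul_mem (conj_mem_of_mem_normalizer hg hb.mem) (A.inv_mem hb.mem)⟩
    rw [inf_eq_bot_of_odd (odd_OO _) h.e8.two, mem_bot, e, mul_inv_eq_one] at h4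
    exact cb h4
  have h4 : OO (L ⊓ 𝒞[v]) ⊓ 𝒞[φ] ≤ OO 𝒞[φ] :=
    h.e8.le_OO_of_sol h3 hs inf_le_right (odd_of_le (odd_OO _) inf_le_left)
      (H1.le_normalizer_inf ((H1.le_normalizer_inf ((h.A_le h.tA).trans h.tN)
        ((h.A_le h.vA).trans le_normalizer)).trans (norm_le_norm_core _ _))
        (h3.trans le_normalizer))
  refine eq_bot_iff.2 (le_trans (le_inf h4 (inf_le_left.trans ((core_le _ _).trans inf_le_left)))
    (le_of_eq ?_))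
  by_contra h5
  obtain ⟨v', w, w1, w2, w3, w4, -, w6⟩ := h.exists_cyc
  have h6 : v' ∈ A ⊓ L := w3 ▸ w2.b_mem
  have h7 : Odd (Nat.card (OO 𝒞[φ] ⊓ L : Subgroup G)) := odd_of_le (odd_OO _) inf_le_left
  have h8 : 𝒩(A) ⊓ L ≤ 𝒩(Zc (fittingOf (OO 𝒞[φ] ⊓ L))) :=
    ((H1.le_normalizer_inf ((inf_le_left.trans h2).trans (core_normal _ _).norm)
      (inf_le_right.trans le_normalizer)).trans (norm_le_norm_fit _)).trans (norm_le_norm_Zc _)
  have h9 : Zc (fittingOf (OO 𝒞[φ] ⊓ L)) ≤ OO 𝒞[φ] ⊓ L := (Zc_normal _).le.trans (fit_le _)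
  obtain ⟨-, u, hu, u1, -, h10⟩ := AB.key h.ab2 h.tq.lt.l2 h.tq.cn.centL (h9.trans inf_le_right)
    (odd_of_le h7 h9) (Zc_comm _) (Zc_ne_bot (fit_nil _) (fit_ne_bot (sol_of_odd h7) h5)) w2
    h.vL h6.2 (h8 ⟨le_normalizer h.vA, h.vL⟩) (h8 ⟨le_normalizer h6.1, h6.2⟩)
  have h11 := mul_inv_eq_iff_eq_mul.2 (mem_cent1.1 (h10 ⟨le_normalizer w1, h8 ⟨w6.norm, w1⟩⟩))
  rcases w2.mem_iff.1 hu with e | e | e | e
  · exact u1 e
  · rw [e, w4.ab] at h11; exact w2.ne h11.symm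
  · rw [e, w4.bc] at h11; exact w2.a_ne (by simpa using h11)
  · rw [e, w4.ca w2] at h11; exact w2.b_ne (by simpa using h11)

theorem St.sdp : SDP (OO (L ⊓ 𝒞[v])) (A ⊓ L) (L ⊓ 𝒞[v]) := by
  obtain ⟨v', -, -, h3, -⟩ := h.four
  exact (h.tq.lt.nc2 (h.LE h.vL) h.vord).sdp
    (h3.mono (le_inf inf_le_right (inf_le_left.trans (h.A_le h.vA))) inf_le_left)

theorem St.card_S : 4 * Nat.card (OO (L ⊓ 𝒞[v])) = q + 1 := by
  have h1 := h.sdp.card_mul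
  have h2 := h.tq.q3.mod
  rw [h.card_V, h.tq.lt.card_in h.vL h.vord, aq, if_neg (by omega)] at h1
  omega

/-- `C(t, v) = A S C₀`. -/
theorem St.cent_V : 𝒞(V4 t v) = A ⊔ OO (L ⊓ 𝒞[v]) ⊔ OO 𝒞(A) := by
  rw [h.two.cent_eq]
  have h1 : OO 𝒞(A) ≤ 𝒞[v] := (core_le _ _).trans (cent_le_cent1 h.vA)
  refine le_antisymm (fun x hx => ?_) (sup_le (sup_le (le_inf (h.A_le h.tA) (h.A_le h.vA))
    ((core_le _ _).trans (inf_le_inf_right _ h.Lt))) (le_inf (h.C0_le.trans h.tq.le) h1))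
  have h2 : ∀ x ∈ E, x ∈ 𝒞[v] → x ∈ A ⊔ OO (L ⊓ 𝒞[v]) ⊔ OO 𝒞(A) := fun x hx hv => by
    obtain ⟨l, hl, c, hc, rfl⟩ := NormalIn.exists_mul_of_mem_sup
      (h.C0_le.trans h.tq.lt.normal.norm) (h.sup_C0 ▸ hx : x ∈ L ⊔ OO 𝒞(A))
    refine mul_mem (mem_sup_left ?_) (mem_sup_right hc)
    have h3 : l ∈ OO (L ⊓ 𝒞[v]) ⊔ A ⊓ L :=
      h.sdp.sup_eq.ge ⟨hl, (mul_mem_cancel_right (h1 hc)).1 hv⟩
    exact (sup_le le_sup_right (inf_le_left.trans le_sup_left) :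
      OO (L ⊓ 𝒞[v]) ⊔ A ⊓ L ≤ A ⊔ OO (L ⊓ 𝒞[v])) h3
  rcases h.tq.cover x hx.1 with e | e
  · exact h2 x e hx.2
  · exact (mul_mem_cancel_left (mem_sup_left (mem_sup_left h.tA))).1
      (h2 _ e (mul_mem (h.A_le h.vA h.tA) hx.2))

/-- `C(t)` contains a Sylow 3-subgroup of `G`. -/
theorem St.coprime_index : Nat.Coprime 3 (𝒞[t] : Subgroup G).index := by
  have := Fact.mk Nat.prime_three
  have := Fact.mk Nat.prime_two
  obtain ⟨u, u1, u2, -⟩ := h.exists_w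
  obtain ⟨K, hK⟩ := h.tq.exists_ku h.min.nr h.ab2 u1 u2
  obtain ⟨R, hR, h1⟩ := H1.exists_isSylowIn_ge (isPGroup_zpowers_of_orderOf_eq u2)
    (zpowers_le.2 (h.Lt u1))
  have h2 : zpowers t ≤ 𝒞(R) := zpowers_le.2 (le_cent1_iff.1 hR.le)
  have h3 : Syl 2 (zpowers t) 𝒩(R) :=
    Syl.trans (hK.syl.mono h2 (cent_le_cent1 (h1 (mem_zpowers u)))) Nat.prime_two cent_le_norm
      (h.min.nr.odd_relIndex hR.isPGroup).not_two_dvd_nat
  have h4 := nc2_of_cyclic h3 inferInstance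
  have h5 := h4.sdp h3
  obtain ⟨R1, r1, r2, r3⟩ := coprime_Syl_subset Nat.prime_three h5.right_le_normalizer
    (coprime_two_of_odd h.tq.ord (odd_OO _)) (Or.inr (sol_OO _))
    (h4.le le_normalizer (odd_of_pgroup Nat.prime_three (by norm_num) hR.isPGroup)) hR.isPGroup
    (h2.trans cent_le_norm)
  have h6 : R1 = R := hR.eq_of_le r1.isPGroup (le_cent1_iff.2 (h.min.nr.mem_cent r1.isPGroup
    h.two.aa (r2 (mem_zpowers t)))) r3
  rw [h6] at r1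
  have h7 : Syl 3 R ⊤ := H1.isSylowIn_of_isSylowIn_normalizer (by
    rw [top_inf_eq]
    refine Syl.trans r1 Nat.prime_three h5.left_le ?_
    rw [h5.relIndex_eq, card_zpowers_two h.tq.ord]
    norm_num)
  rw [Nat.Prime.coprime_iff_not_dvd Nat.prime_three, ← relIndex_top_right]
  exact h7.not_dvd_relIndex_of_le hR.le

theorem St.der_le : ∀ x ∈ 𝒞[t], ∀ y ∈ 𝒞[t], x * y * x⁻¹ * y⁻¹ ∈ L := by
  have h1 : ∀ x ∈ E, ∀ y ∈ E, x * y * x⁻¹ * y⁻¹ ∈ L := fun x hx y hy =>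
    h.tq.lt.der (commutator_mem_commutator hx hy)
  have h2 : ∀ x ∈ 𝒞[t], ∀ y ∈ E, x * y * x⁻¹ * y⁻¹ ∈ L := fun x hx y hy => by
    rcases h.tq.cover x hx with e | e
    · exact h1 x e y hy
    · have h3 := mem_cent1.1 (mul_mem (mul_mem hx (h.tq.le hy)) (inv_mem hx))
      convert h1 _ e y hy using 2
      rw [← mul_inv_eq_iff_eq_mul] at h3
      calc x * y * x⁻¹ = t * (x * y * x⁻¹ * t * (x * y * x⁻¹)⁻¹)⁻¹ * (x * y * x⁻¹) := by
            rw [h3]; group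
        _ = _ := by group
  intro x hx y hy
  rcases h.tq.cover y hy with e | e
  · exact h2 x hx y e
  · have h3 := h.tN (mem_cent1.2 rfl : t ∈ 𝒞[t])
    have h4 := conj_mem_of_mem_normalizer' h3 (h2 x hx _ e)
    convert h4 using 1
    have h5 := mul_inv_eq_iff_eq_mul.2 (mem_cent1.1 hx)
    calc x * y * x⁻¹ * y⁻¹ = t⁻¹ * (x * t * x⁻¹) * (x * y * x⁻¹ * y⁻¹) := by rw [h5]; group
      _ = _ := by group

theorem St.not_three : ¬ 3 ∣ Nat.card (OO 𝒞(A)) := fun h3 => by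
  have := Fact.mk Nat.prime_three
  obtain ⟨g, hg, ho⟩ := exists_orderOf_eq_of_dvd_card h3
  have h1 : g ∉ L := fun e => by
    have h2 : g ∈ L ⊓ OO 𝒞(A) := ⟨e, hg⟩
    rw [h.inf_C0, mem_bot] at h2
    simp [h2] at ho
  obtain ⟨f, hf, -⟩ := not_mem_commutator_of_controlled (p := 3) (k := 1)
    (NormalIn.subgroupOf ⟨h.Lt, h.tN⟩) h.der_le h.coprime_index (h.tq.le (h.C0_le hg)) h1
    (by rw [pow_one, ← ho, pow_orderOf_eq_one]; exact one_mem _) fun m a ha => by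
      have h2 : 𝒩(A) ≤ 𝒞[g ^ m] := h.norm_le_cent.trans (cent_le_cent1 (pow_mem hg m))
      obtain ⟨c, hc, e⟩ := h.e8.oneClass h.min.tr h2 t (h2 (le_normalizer h.tA)) (a⁻¹ * t * a)
        (mem_cent1.2 (by
          have := mem_cent1.1 ha
          calc a⁻¹ * t * a * g ^ m = a⁻¹ * (t * (a * g ^ m * a⁻¹)) * a := by group
            _ = _ := by rw [← this]; group))
        h.tq.ord ((orderOf_conj' a t).trans h.tq.ord)
      have h4 : a * c ∈ 𝒞[t] := mem_cent1.2 (by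
        calc a * c * t = a * (c * t * c⁻¹) * c := by group
          _ = _ := by rw [e]; group)
      convert h.der_le _ h4 _ (h.tq.le (h.C0_le (pow_mem hg m))) using 2
      rw [mul_assoc a c, mem_cent1.1 hc]
      group
  refine not_mem_commutator_of_hom f hf ?_
  rcases (inferInstance : (commutator G).Normal).eq_bot_or_eq_top with e | e
  · obtain ⟨w, -, -, hw⟩ := h.exists_w
    refine absurd (mem_cent.2 fun a _ => ?_) hw.ncent
    have h2 : ⁅a, w⁆ ∈ commutator G := commutator_mem_commutator (mem_top a) (mem_top w)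
    rw [e, mem_bot, commutatorElement_eq_one_iff_mul_comm] at h2
    exact h2
  · rw [e]; exact mem_top g

end Cfsg.Agent.RE
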