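import Cfsg.Agent.Lib.RE.Str1

/-!
# The torus `S`
-/

set_option autoImplicit false
set_option linter.unusedVariables false
set_option linter.unusedSectionVars false

namespace Cfsg.Agent.RE

open Subgroup Cfsg.Agent.FT Cfsg.Agent.GW
open Cfsg.Agent.H6 hiding Op cent_sup fit_le le_fit
open scoped commutatorElement

universe u

variable {G : Type u} [Group G] [Finite G] {A B D E H K L M N P Q R S T U V X Y : Subgroup G}
  {p q m f : ℕ} {a b c d g k s t u v w x y z φ : G}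

theorem s2_six (h : Two a b) (hY : Y ≤ 𝒩(V4 a b)) : (𝒞(V4 a b)).relIndex Y ∣ 6 :=
  relIndex_cent_dvd_GL2 (M := ⊤) Nat.prime_two ⟨le_top, elem_iff.2 ⟨comm_iff.1 h.comm_V4,
    fun x hx => by
      rw [sq]
      rcases h.mem_iff.1 hx with rfl | rfl | rfl | rfl
      · exact one_mul 1
      · exact h.aa
      · exact h.bb
      · exact mul_self_of_orderOf_two h.hab⟩, h.card⟩ hY

theorem s2_sq (ho : Odd (orderOf x)) (h : x * x ∈ K) : x ∈ K :=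
  Cfsg.Agent.St.mem_of_odd_of_pow_mem ho (k := 1) (by rwa [pow_one, sq])

variable [IsSimpleGroup G] (h : St A t v E L q)
include h

theorem St.V_le : V4 t v ≤ A :=
  (closure_le _).2 (Set.insert_subset h.tA (Set.singleton_subset_iff.2 h.vA))

theorem St.S_le : OO (L ⊓ 𝒞[v]) ≤ 𝒞(V4 t v) := by
  rw [h.cent_V]
  exact le_sup_right.trans le_sup_left

theorem St.S_comm : IsMulCommutative (OO (L ⊓ 𝒞[v])) :=
  comm_of_cyclic (h.tq.lt.cyc (h.LE h.vL) h.vord)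

theorem St.inv (ha : a ∈ A) (h1 : a ∉ V4 t v) (hs : s ∈ OO (L ⊓ 𝒞[v])) : a * s * a⁻¹ = s⁻¹ := by
  obtain ⟨v', -, -, -, h4⟩ := h.four
  have h2 : ∀ a ∈ A, a ∈ L → a ∉ V4 t v → a * s * a⁻¹ = s⁻¹ := fun a ha hL h1 =>
    h.tq.lt.inv (h.e8.two_of h.vA h.v1 ha (fun e => h1 (e ▸ one_mem _))
      fun e => h1 (e ▸ h.two.b_mem)) (h.LE h.vL) (h.LE hL) hs
  rcases h4 a ha with e | e
  · exact h2 a ha e h1
  · have h3 := h2 _ (mul_mem h.tA ha) e fun e => h1 ((mul_mem_cancel_left h.two.a_mem).1 e)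
    have h5 := mem_cent1.1 (inv_mem (h.Lt (core_le _ _ hs).1))
    calc a * s * a⁻¹ = t⁻¹ * (t * a * s * (t * a)⁻¹) * t := by group
      _ = _ := by rw [h3, mul_assoc, h5]; group

theorem St.exists_b : ∃ b ∈ A, ∃ (v0 : G) (E' L' : Subgroup G) (q' : ℕ), St A b v0 E' L' q' ∧
    A ⊓ L' = V4 t v ∧ b ∉ V4 t v := by
  obtain ⟨w, -, -, hw⟩ := h.exists_w
  obtain ⟨b, hb, b1, e⟩ := hw.exists_Vb h.e8 h.min.tr h.V_le h.two.card
  obtain ⟨E', L', q', h1⟩ := h.min.tq_cent hb b1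
  obtain ⟨a, c, h2, h3, h4, -⟩ := h1.cn.syl h.ab2 h.e8.syl hb
  have h5 : St A b a E' L' q' := ⟨h.min, h1, hb, h4 h2.a_mem, h3.le h2.a_mem, h2.a_ne⟩
  have h6 := h5.Vb_eq.symm.trans e
  exact ⟨b, hb, a, E', L', q', h5, h6, fun e' => h1.nmem (h5.LE (h6.ge e').2)⟩

theorem St.centV_le : 𝒞(V4 t v) ≤ 𝒩(OO (L ⊓ 𝒞[v])) := by
  rw [h.two.cent_eq]
  exact (H1.le_normalizer_inf (inf_le_left.trans h.tN) (inf_le_right.trans le_normalizer)).trans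
    (norm_le_norm_core _ _)

theorem St.A_le_centV : A ≤ 𝒞(V4 t v) := h.e8.le_cent.trans (cent_le_cent h.V_le)

theorem St.norm_S : 𝒩(V4 t v) ≤ 𝒩(OO (L ⊓ 𝒞[v])) := fun g hg => by
  have := Fact.mk Nat.prime_two
  obtain ⟨b, hb, -, -, -, -, -, -, b2⟩ := h.exists_b
  have h1 : ⁅OO 𝒞(V4 t v), A⁆ = OO (L ⊓ 𝒞[v]) := by
    have h2 : OO 𝒞(V4 t v) ≤ 𝒞[t] ⊓ 𝒞[v] := (core_le _ _).trans h.two.cent_eq.le
    have h3 : ⁅OO 𝒞(V4 t v), A⁆ ≤ OO 𝒞(V4 t v) :=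
      commutator_le_left (h.A_le_centV.trans (core_normal _ _).norm)
    refine le_antisymm ((h.tq.lt.nc2 (h.LE h.vL) h.vord).le (le_inf ?_ ((h3.trans h2).trans
      inf_le_right)) (odd_of_le (odd_OO _) h3)) ?_
    · exact commutator_le.2 fun x hx y hy => h.der_le x (h2 hx).1 y (h.A_le h.tA hy)
    · exact (comm_eq_of_inverts (odd_OO _) fun s hs => h.inv hb b2 hs).ge.trans
        (commutator_mono (le_OO ⟨h.S_le, h.centV_le⟩ (odd_OO _)) (zpowers_le.2 hb))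
  obtain ⟨k, hk, h2⟩ := (h.e8.syl' h.A_le_centV).frattini_elt ((normalIn_cent_norm _).norm hg)
  refine (mul_mem_cancel_left (h.centV_le hk)).1 ?_
  rw [← h1]
  exact H1.le_normalizer_commutator (zpowers_le.2 (norm_le_norm_core _ _
    ((normalIn_cent_norm _).norm (mul_mem (cent_le_norm hk) hg)))) (zpowers_le.2 h2)
    (mem_zpowers _)

theorem St.normV : 𝒩(V4 t v) ⊓ 𝒞[t] ≤ 𝒞[v] := fun g hg => by
  have h1 := conj_mem_of_mem_normalizer (h.tN hg.2) h.vL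
  refine mem_cent1.2 (mul_inv_eq_iff_eq_mul.1 ?_)
  rcases h.two.conj_cases hg.1 h.two.b_mem h.v1 with e | e | e
  · exact absurd (h.LE (e ▸ h1)) h.tq.nmem
  · exact e
  · exact absurd (h.LE ((mul_mem_cancel_right h.vL).1 (e ▸ h1))) h.tq.nmem

theorem St.exists_mul (hx : x ∈ 𝒞(V4 t v)) :
    ∃ s ∈ OO (L ⊓ 𝒞[v]), ∃ c ∈ OO 𝒞(A), ∃ a ∈ A, x = s * (c * a) := by
  rw [h.cent_V, sup_comm A, sup_assoc, sup_comm A] at hx
  have h1 : OO 𝒞(A) ≤ 𝒞(V4 t v) := (core_le _ _).trans (cent_le_cent h.V_le)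
  obtain ⟨s, hs, y, hy, rfl⟩ := NormalIn.exists_mul_of_mem_sup
    ((sup_le h1 h.A_le_centV).trans h.centV_le) hx
  obtain ⟨c, hc, a, ha, rfl⟩ := NormalIn.exists_mul_of_mem_sup
    (le_normalizer.trans h.norm_C0) hy
  exact ⟨s, hs, c, hc, a, ha, rfl⟩

section
variable (hs : s ∈ OO (L ⊓ 𝒞[v])) (h1 : s ≠ 1)
include hs h1

theorem St.C0_eq_one (hc : c ∈ OO 𝒞(A)) (h2 : c ∈ 𝒞[s]) : c = 1 := by
  by_contra h3
  have h4 : s ∈ OO (L ⊓ 𝒞[v]) ⊓ 𝒞[c] := ⟨hs, mem_cent1_comm.1 h2⟩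
  rw [h.fpf hc h3] at h4
  exact h1 h4

theorem St.le_cent_s : V4 t v ⊔ OO (L ⊓ 𝒞[v]) ≤ 𝒞[s] :=
  sup_le (le_cent1_iff.2 (h.S_le hs)) ((comm_iff.1 h.S_comm).trans (cent_le_cent1 hs))

theorem St.inf_cent_s : A ⊓ 𝒞[s] = V4 t v := by
  refine le_antisymm (fun a ha => by_contra fun e => h1 ?_)
    (le_inf h.V_le (le_sup_left.trans (h.le_cent_s hs h1)))
  exact eq_one_of_inverts_of_cent (odd_orderOf (odd_OO _) hs) (h.inv ha.1 e hs)
    (mem_cent1_comm.1 ha.2)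

theorem St.norm_t : 𝒞[t] ⊓ 𝒩(zpowers s) ≤ 𝒞(V4 t v) := fun x hx => by
  have h2 : ∀ x ∈ E, x ∈ 𝒩(zpowers s) → x ∈ 𝒞[v] := fun x hE hx => by
    refine mem_cent1.2 (mul_inv_eq_iff_eq_mul.1 (h.tq.lt.eq_of_cent (z := x * s * x⁻¹)
      (h.LE h.vL) h.vord (zpowers_le.2 hs (conj_mem_of_mem_normalizer hx (mem_zpowers s)))
      (fun e => h1 (conj_eq_one_iff.1 e)) (mul_mem (mul_mem hE (h.LE h.vL)) (inv_mem hE))
      ((orderOf_conj x v).trans h.vord) ?_))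
    rw [← cj_centralizer_singleton]
    exact conj_mem_cj (mem_cent1_comm.1 (core_le _ _ hs).2)
  rw [h.two.cent_eq]
  refine ⟨hx.1, (h.tq.cover x hx.1).elim (fun e => h2 x e hx.2) fun e => ?_⟩
  have h3 : t ∈ 𝒞[s] := h.le_cent_s hs h1 (mem_sup_left h.two.a_mem)
  exact (mul_mem_cancel_left (h.A_le h.vA h.tA)).1
    (h2 _ e (mul_mem (cent1_le_norm_zpowers h3) hx.2))

theorem St.cent_ts : 𝒞[t] ⊓ 𝒞[s] ≤ V4 t v ⊔ OO (L ⊓ 𝒞[v]) := fun x hx => by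
  obtain ⟨s', hs', c, hc, a, ha, rfl⟩ :=
    h.exists_mul (h.norm_t hs h1 ⟨hx.1, cent1_le_norm_zpowers hx.2⟩)
  have h2 : c * a ∈ 𝒞[s] := (mul_mem_cancel_left (h.le_cent_s hs h1 (mem_sup_right hs'))).1 hx.2
  have h3 : c * a * (c * a) = c * c := by
    rw [mul_assoc, ← mul_assoc a, mem_cent.1 (core_le _ _ hc) a ha, mul_assoc c a, h.e8.sq a ha,
      mul_one]
  obtain rfl := h.C0_eq_one hs h1 hc (s2_sq (odd_orderOf (odd_OO _) hc) (h3 ▸ mul_mem h2 h2))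
  rw [one_mul] at h2 ⊢
  exact mul_mem (mem_sup_right hs') (mem_sup_left (h.inf_cent_s hs h1 ▸ ⟨ha, h2⟩))

end

theorem St.norm_s (hs : s ∈ OO (L ⊓ 𝒞[v])) (h1 : s ≠ 1) : 𝒩(zpowers s) = 𝒩(V4 t v) := by
  have h2 : 𝒩(V4 t v) ≤ 𝒩(zpowers s) := h.norm_S.trans
    (norm_le_norm_of_cyclic (h.tq.lt.cyc (h.LE h.vL) h.vord) (zpowers_le.2 hs))
  refine le_antisymm ?_ h2
  have h3 : A ≤ 𝒩(zpowers s) := (h.A_le_centV.trans cent_le_norm).trans h2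
  obtain ⟨b, hb, v0, E', L', q', b1, b2, b3⟩ := h.exists_b
  obtain ⟨w, -, -, hw⟩ := b1.exists_w
  have b4 := b1.Vb_eq.trans b2
  obtain ⟨v', w1, w2, w3⟩ := hw.cyc h.e8 (b4 ▸ h.two.a_mem) h.t1
  rw [b4] at w2
  have w4 : w ∈ 𝒩(V4 t v) := w2 ▸ w3.mem_norm w1
  by_cases hsol : Group.IsSolvable 𝒩(zpowers s)
  · refine (h.e8.le_sup_of_sol h3 hsol).trans (sup_le (le_trans ?_ cent_le_norm) ?_)
    · have h4 : ∀ a, 𝒩(zpowers s) ⊓ 𝒞[a] ≤ 𝒞(V4 t v) →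
          𝒩(zpowers s) ⊓ 𝒞[w * a * w⁻¹] ≤ 𝒞(V4 t v) := fun a e => by
        have := cj_mono w e
        rwa [cj_inf, cj_eq_self_of_mem (h2 w4), cj_centralizer_singleton, cj_centralizer,
          cj_eq_self_iff.2 w4] at this
      have h5 : 𝒩(zpowers s) ⊓ 𝒞[t] ≤ 𝒞(V4 t v) := (inf_comm _ _).le.trans (h.norm_t hs h1)
      have h6 := h4 _ h5
      rw [w3.ab] at h6
      have h7 := h4 _ h6
      rw [w3.bc] at h7
      have h8 : A ≤ 𝒩(OO 𝒩(zpowers s)) := h3.trans (core_normal _ _).norm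
      have h9 : ∀ a, OO 𝒩(zpowers s) ⊓ 𝒞[a] ≤ 𝒩(zpowers s) ⊓ 𝒞[a] := fun a =>
        inf_le_inf_right _ (core_le _ _)
      exact w1.gen (odd_OO _) (h8 h.tA) (h8 (h.V_le (w2 ▸ w1.b_mem))) ((h9 _).trans h5)
        ((h9 _).trans h6) ((h9 _).trans h7)
    · rw [← h.inf_cent_s hs h1, ← cent_zpowers]
      exact H1.le_normalizer_inf inf_le_right (inf_le_left.trans (normalIn_cent_norm _).norm)
  exfalso
  obtain ⟨c, hc⟩ := h.min.exists_ty h3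
    (h.min.norm_ne_top (zpowers_ne_bot.2 h1) inferInstance) hsol
  have h4 := inf_eq_bot_of_odd (odd_OO 𝒩(zpowers s)) h.e8.two
  obtain rfl : c = b := by
    have h5 : w * c * w⁻¹ * c⁻¹ ∈ OO 𝒩(zpowers s) ⊓ A :=
      ⟨hc.comm_le h.min (commutator_mem_comm (h2 w4) c),
        A.mul_mem (conj_mem_of_mem_normalizer hw.norm hc.mem) (A.inv_mem hc.mem)⟩
    rw [h4, mem_bot, mul_inv_eq_one, mul_inv_eq_iff_eq_mul] at h5
    have h6 : c ∈ zpowers b := hw.inf_cent h.e8 ▸ ⟨hc.mem, mem_cent1.2 h5.symm⟩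
    exact (s1_zp b1.tq.ord h6).resolve_left hc.ne
  have h5 : NormalIn 𝒞[s] 𝒩(zpowers s) := cent_zpowers (x := s) ▸ normalIn_cent_norm _
  have h6 := h.le_cent_s hs h1
  obtain ⟨-, h7⟩ := hc.of_normal h.min h5 fun e => by
    obtain ⟨o, ho, a, ha, e'⟩ := NormalIn.exists_mul_of_mem_sup
      ((zpowers_le.2 (h3 hb)).trans (core_normal _ _).norm) (e (h6 (mem_sup_left h.two.a_mem)))
    have h8 : o ∈ OO 𝒩(zpowers s) ⊓ A :=
      ⟨ho, (A.mul_mem_cancel_right (zpowers_le.2 hb ha)).1 (e' ▸ h.tA)⟩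
    rw [h4, mem_bot] at h8
    rw [h8, one_mul] at e'
    exact b3 (((s1_zp b1.tq.ord (e' ▸ ha)).resolve_left h.t1) ▸ h.two.a_mem)
  have h8 : Ty A ((𝒞[s] ⊔ A) ⊓ 𝒞[c]) c :=
    ⟨le_inf le_sup_right (h.A_le hb), fun e => h.min.cent_ne_top hc.ne (top_le_iff.1
      (e.ge.trans inf_le_right)), hb, hc.ne, fun e => h7 (sol_of_le e
        (le_inf (inf_le_inf_right _ le_sup_left) inf_le_right))⟩
  refine h8.not_le h.min (b4 ▸ h.two.a_mem) h.t1 fun x hx => ?_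
  obtain ⟨m, hm, a, ha, rfl⟩ := NormalIn.exists_mul_of_mem_sup (h3.trans h5.norm) hx.1.1
  have h9 : m ∈ OO (L ⊓ 𝒞[v]) ⊔ V4 t v := sup_comm (V4 t v) _ ▸
    h.cent_ts hs h1 ⟨(mul_mem_cancel_right (h.A_le h.tA ha)).1 hx.2, hm⟩
  obtain ⟨s', hs', a', ha', rfl⟩ := NormalIn.exists_mul_of_mem_sup
    ((h.V_le.trans h.A_le_centV).trans h.centV_le) h9
  have h10 : s' ∈ 𝒞[c] := (mul_mem_cancel_right (h.A_le hb (h.V_le ha'))).1
    ((mul_mem_cancel_right (h.A_le hb ha)).1 hx.1.2)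
  rw [eq_one_of_inverts_of_cent (odd_orderOf (odd_OO _) hs') (h.inv hb b3 hs') h10, one_mul]
  exact mul_mem (h.V_le ha') ha

theorem St.cent_aux (hs : s ∈ OO (L ⊓ 𝒞[v])) (h1 : s ≠ 1) {v0 : G} {E' L' : Subgroup G} {q' : ℕ}
    (b1 : St A b v0 E' L' q') (b2 : A ⊓ L' = V4 t v) (b3 : b ∉ V4 t v) (w1 : w ∈ L')
    (w2 : orderOf w = 3) (w3 : w ∈ 𝒩(A)) (hg : g ∈ 𝒞[s]) (hy : g⁻¹ * w ∈ 𝒞(V4 t v)) : False := by
  have := Fact.mk Nat.prime_three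
  have h6 := h.le_cent_s hs h1
  have hws : w ∈ 𝒞[s] := by
    obtain ⟨s', hs', c, hc, a, ha, e⟩ := h.exists_mul hy
    obtain ⟨β, hβ, a', ha', e'⟩ := NormalIn.exists_mul_of_mem_sup
      ((inf_le_left.trans (h.A_le b1.tA)).trans cent1_le_norm_zpowers) (b1.A_le_sup (inv_mem ha))
    have hβA : β ∈ A := zpowers_le.2 b1.tA hβ
    have h2 : w * β * c⁻¹ ∈ 𝒞[s] := by
      refine (mul_mem_cancel_right (h6 (mem_sup_left (b2 ▸ ha')))).1 ?_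
      convert mul_mem hg (h6 (mem_sup_right hs')) using 1
      rw [mul_assoc, ← mem_cent.1 (inv_mem (core_le _ _ hc)) a' ha'.1, ← mul_assoc, mul_assoc w,
        ← e', eq_mul_inv_of_mul_eq e.symm]
      group
    have h3 : Commute w β := by
      rcases s1_zp b1.tq.ord hβ with rfl | rfl
      · exact Commute.one_right w
      · exact mem_cent1.1 (b1.Lt w1)
    have h4 : w ^ 3 = 1 := w2 ▸ pow_orderOf_eq_one w
    have h5 : β ^ 2 = 1 := by rw [sq, h.e8.sq β hβA]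
    have h7 : Commute (w * β) c⁻¹ :=
      (mem_cent.1 (h.norm_le_cent (mul_mem w3 (le_normalizer hβA))) _ (inv_mem hc)).symm
    have h8 := pow_mem h2 6
    rw [h7.mul_pow, h3.mul_pow, show 6 = 3 * 2 from rfl, pow_mul w, pow_mul' β, h4, h5] at h8
    simp only [one_pow, one_mul] at h8
    have h9 := orderOf_dvd_of_pow_eq_one (h.C0_eq_one hs h1 (pow_mem (inv_mem hc) _) h8)
    have h10 : c⁻¹ = 1 := orderOf_eq_one_iff.1 (Nat.eq_one_of_dvd_coprimes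
      (Nat.Coprime.mul_left ((Nat.Prime.coprime_iff_not_dvd Nat.prime_three).2 h.not_three)
        (Nat.coprime_two_left.2 (odd_OO _))) h9
      (orderOf_dvd_card_of_mem (inv_mem hc)))
    rw [h10, mul_one] at h2
    have h11 := pow_mem h2 4
    rwa [h3.mul_pow, pow_succ w 3, show 4 = 2 * 2 from rfl, pow_mul β, h4, h5, one_pow, one_mul,
      mul_one] at h11
  obtain ⟨K, hK⟩ := b1.tq.exists_ku h.min.nr h.ab2 w1 w2
  have k1 : s ∈ K := by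
    refine s2_sq (odd_orderOf (odd_OO _) hs) ?_
    have := hK.comm s (mem_cent1_comm.1 hws)
    rwa [mul_assoc, mul_assoc, ← mul_assoc b, h.inv b1.tA b3 (inv_mem hs), inv_inv] at this
  have k2 : K ≤ 𝒞[s] := (comm_iff.1 (comm_of_inverts hK.inv)).trans (cent_le_cent1 k1)
  have k3 : K ≤ 𝒞(V4 t v) := relIndex_eq_one.1 (Nat.eq_one_of_dvd_coprimes
    (Nat.Coprime.mul_left ((Nat.Prime.coprime_iff_not_dvd Nat.prime_three).2 hK.three)
      (Nat.coprime_two_left.2 hK.odd))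
    (s2_six h.two ((k2.trans cent1_le_norm_zpowers).trans (h.norm_s hs h1).le))
    (relIndex_dvd_card _ _))
  have k4 : K ≤ OO (L ⊓ 𝒞[v]) := fun k hk => by
    obtain ⟨a, ha, s', hs', rfl⟩ := NormalIn.exists_mul_of_mem_sup (h.S_le.trans cent_le_norm)
      (h.cent_ts hs h1 ⟨cent_le_cent1 h.two.a_mem (k3 hk), k2 hk⟩)
    refine s2_sq (odd_orderOf hK.odd hk) ?_
    rw [mul_assoc, ← mul_assoc s', ← mem_cent.1 (h.S_le hs') a ha, ← mul_assoc, ← mul_assoc,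
      h.e8.sq a (h.V_le ha), one_mul]
    exact mul_mem hs' hs'
  have k5 : 𝒞[w] ≤ 𝒩(V4 t v) := (hK.norm.trans (norm_le_norm_of_cyclic (cyclic_of_le
    (h.tq.lt.cyc (h.LE h.vL) h.vord) k4) (zpowers_le.2 k1))).trans (h.norm_s hs h1).le
  obtain ⟨P, hP, p1⟩ := H1.exists_isSylowIn_ge (isPGroup_zpowers_of_orderOf_eq w2)
    (zpowers_le.2 w1)
  have p2 : P ≤ 𝒞[w] := (comm_iff.1 (syl_comm b1.tq.lt.l2 b1.tq.q3 hP)).trans
    (cent_le_cent1 (p1 (mem_zpowers w)))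
  have p3 := Nat.le_of_dvd (by norm_num) (s2_six h.two (p2.trans k5))
  have p4 : 𝒞(V4 t v) ⊓ P = ⊥ := by
    refine eq_bot_iff.2 (le_trans (le_inf inf_le_right ?_) (inf_eq_bot_of_odd
      (odd_of_pgroup Nat.prime_three (by norm_num) hP.isPGroup) h.e8.two).le)
    rw [← b2]
    exact ((le_inf (inf_le_right.trans hP.le) inf_le_left).trans b1.cent_four).trans inf_le_left
  have p5 := card_eq_relIndex_mul_inf 𝒞(V4 t v) P
  rw [p4, card_bot, syl_card b1.tq.lt.l2 b1.tq.q3 hP] at p5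
  have := b1.tq.q3.le
  omega

theorem St.cent_s (hs : s ∈ OO (L ⊓ 𝒞[v])) (h1 : s ≠ 1) :
    𝒞[s] = V4 t v ⊔ OO (L ⊓ 𝒞[v]) := by
  refine le_antisymm (fun g hg => h.cent_ts hs h1 ⟨by_contra fun h2 => ?_, hg⟩) (h.le_cent_s hs h1)
  have h3 : g ∈ 𝒩(V4 t v) := (h.norm_s hs h1).le (cent1_le_norm_zpowers hg)
  obtain ⟨b, hb, v0, E', L', q', b1, b2, b3⟩ := h.exists_b
  obtain ⟨w, u1, u2, hw⟩ := b1.exists_w
  have b4 := b1.Vb_eq.trans b2
  obtain ⟨v', w1, w2, w3⟩ := hw.cyc h.e8 (b4 ▸ h.two.a_mem) h.t1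
  rw [b4] at w2
  have w4 : w ∈ 𝒩(V4 t v) := w2 ▸ w3.mem_norm w1
  have h4 : ∀ x ∈ 𝒩(V4 t v), g * t * g⁻¹ = x * t * x⁻¹ → g⁻¹ * x ∈ 𝒞(V4 t v) := fun x hx e => by
    have h5 : g⁻¹ * x ∈ 𝒞[t] := mem_cent1.2 (by
      calc g⁻¹ * x * t = g⁻¹ * (x * t * x⁻¹) * x := by group
        _ = _ := by rw [← e]; group)
    rw [h.two.cent_eq]
    exact ⟨h5, h.normV ⟨(𝒩(V4 t v)).mul_mem ((𝒩(V4 t v)).inv_mem h3) hx, h5⟩⟩
  rcases w1.conj_cases (w2 ▸ h3) w1.a_mem h.t1 with e | e | e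
  · exact h2 (mem_cent1.2 (mul_inv_eq_iff_eq_mul.1 e))
  · exact h.cent_aux hs h1 b1 b2 b3 u1 u2 hw.norm hg (h4 w w4 (e.trans w3.ab.symm))
  · refine h.cent_aux hs h1 b1 b2 b3 (inv_mem u1) ((orderOf_inv w).trans u2) (inv_mem hw.norm) hg
      (h4 _ (inv_mem w4) (e.trans ?_))
    calc t * v' = w⁻¹ * (w * (t * v') * w⁻¹) * w⁻¹⁻¹ := by group
      _ = _ := by rw [w3.ca w1]

theorem St.relIndex_L (h1 : Y ≤ E) (h2 : L ⊔ Y = E) : L.relIndex Y = Nat.card (OO 𝒞(A)) := by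
  rw [← relIndex_sup_of_norm (h1.trans h.tq.lt.normal.norm), h2, ← h.sup_C0]
  exact (SDP.of_norm (h.C0_le.trans h.tq.lt.normal.norm) h.inf_C0).relIndex_eq

theorem St.exists_ch : ∃ (w u : G) (B P K : Subgroup G) (m f : ℕ),
    CH t v w u E B P (OO (L ⊓ 𝒞[v])) K q m f := by
  have := Fact.mk Nat.prime_three
  obtain ⟨w, hw⟩ : ∃ w, Cyc w t v := by
    obtain ⟨b, hb, v0, E', L', q', b1, b2, b3⟩ := h.exists_b
    obtain ⟨w, -, -, hw⟩ := b1.exists_w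
    have b4 := b1.Vb_eq.trans b2
    obtain ⟨v', w1, w2, w3⟩ := hw.cyc h.e8 (b4 ▸ h.two.a_mem) h.t1
    rw [b4] at w2
    rcases w1.mem_iff.1 (w2 ▸ h.two.b_mem : v ∈ V4 t v') with e | e | e | e
    · exact absurd e h.v1
    · exact absurd e.symm h.two.ne
    · exact ⟨w, e ▸ w3⟩
    · have := (w3.inv w1).next w1.symm
      rw [← w1.comm, ← e] at this
      exact ⟨_, this⟩
  obtain ⟨u, u1, u2, -⟩ := h.exists_w
  have u3 : u ≠ 1 := by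
    rintro rfl
    simp at u2
  obtain ⟨K, hK⟩ := h.tq.exists_ku h.min.nr h.ab2 u1 u2
  obtain ⟨P, hP, p1⟩ := H1.exists_isSylowIn_ge (isPGroup_zpowers_of_orderOf_eq u2)
    (zpowers_le.2 u1)
  have l2 := h.tq.lt.l2
  have q3 := h.tq.q3
  have hS := h.card_S
  have h27 := q3.le
  refine ⟨w, u, L ⊓ 𝒩(P), P, K, _, Nat.card (OO 𝒞(A)), h.two, hw, h.tq.le, h.tq.nmem, h.tq.cover,
    h.LE h.vL, ?_, odd_OO _, le_inf hP.le le_normalizer, inf_le_left.trans h.LE, inf_le_right,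
    hP.isPGroup, syl_comm l2 q3 hP, syl_card l2 q3 hP, syl_card_norm l2 q3 hP, ?_,
    fun x hx x1 => ?_, fun x hx x1 y hy y1 => syl_orb l2 q3 hP hx x1 hy y1,
    fun x hx x1 g hg e => syl_ti l2 q3 hP hx x1 (h.tq.lt.normal.norm hg) e,
    ((core_le _ _).trans inf_le_left).trans h.LE, h.S_comm, rfl, odd_OO _, hS, by omega, h.norm_S,
    fun s hs s1 g e => ?_, fun s hs s1 => h.cent_s hs s1, ?_, h.normV, p1 (mem_zpowers u), u3, hK⟩
  · rw [card_eq_relIndex_mul h.LE, h.relIndex_L le_rfl (sup_eq_right.2 h.LE), mul_left_comm,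
      l2_card l2, mul_assoc]
  · rw [card_eq_relIndex_mul_inf L, h.relIndex_L inf_le_left
      (hP.frattini h.LE h.tq.lt.normal.norm), ← inf_assoc, inf_eq_left.2 h.LE]
  · refine le_antisymm ((inf_le_inf_right _ inf_le_left).trans (syl_cent1 l2 q3 hP hx x1).le)
      (le_inf (le_inf hP.le le_normalizer) ?_)
    exact (comm_iff.1 (syl_comm l2 q3 hP)).trans (cent_le_cent1 hx)
  · rw [← h.norm_s hs s1, ← cj_eq_self_iff, cj_zpowers]
    exact eq_of_cyclic_of_card_eq (h.tq.lt.cyc (h.LE h.vL) h.vord) (zpowers_le.2 e)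
      (zpowers_le.2 hs) (by rw [Nat.card_zpowers, Nat.card_zpowers, orderOf_conj])
  · have h1 := h.sdp.card_mul
    rw [h.card_V] at h1
    rw [card_eq_relIndex_mul_inf L, h.relIndex_L inf_le_left (le_antisymm (sup_le h.LE inf_le_left)
      (h.sup_C0.ge.trans (sup_le_sup_left (le_inf h.C0_le
        ((core_le _ _).trans (cent_le_cent1 h.vA))) _))), ← inf_assoc, inf_eq_left.2 h.LE, ← h1]
    ring

end Cfsg.Agent.RE
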