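import Cfsg.Agent.Lib.BD.P1z
import Cfsg.Agent.Lib.GW.Basic

/-!
# A relative `ZJ`-theorem
-/

set_option autoImplicit false
set_option linter.unusedVariables false
set_option linter.unusedSectionVars false

namespace Cfsg.Agent.RE

open Subgroup Cfsg.Agent.FT Cfsg.Agent.GW
open Cfsg.Agent.H6 hiding Op cent_sup fit_le le_fit
open scoped commutatorElement

universe u

variable {G : Type*} [Group G] [Finite G] {A B D E H K L M N P Q R S T U V X Y : Subgroup G}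
  {p q m f : ℕ} {a b c d g k s t u v w x y z φ : G}

theorem rzj_stab (hp : p.Prime) (h2 : p ≠ 2) (hY : BD.P1.Ex2 Y) (hK : NormalIn K Y)
    (hKK : ⁅K, K⁆ = K)
    (hL : ∀ L, NormalIn L Y → ¬ K ≤ L → ∀ R ≤ L, IsPGroup p R → R ≤ Q) (hB : IsPGroup p B)
    (hYB : Y ≤ 𝒩(B)) (hKB : ¬ K ≤ 𝒞(B)) (hA : H1.IsAb A) (pA : IsPGroup p A) (hAY : A ≤ Y)
    (hBA : B ≤ 𝒩(A)) : A ≤ Q := by
  haveI := Fact.mk hp
  set f := B.normalizerMonoidHom with hf
  have e : autInducedBy Y B = mim f Y := FusionSystem.autInducedBy_eq_map Y B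
  have hN : NormalIn (mpre f (H7.pCoreIn p (mim f Y)) ⊓ Y) Y :=
    ⟨inf_le_right, (le_inf (le_norm_mpre hYB H7.le_normalizer_pCoreIn) le_normalizer).trans
      inf_normalizer_le_normalizer_inf⟩
  refine hL _ hN (fun h => hKB fun k hk => ?_) A (fun a ha => ⟨?_, hAY ha⟩) pA
  · have h3 : mim f K ≤ H7.pCoreIn p (mim f Y) :=
      (mim_le_iff (hK.le.trans hYB)).2 (h.trans inf_le_left)
    have h4 : mim f K = ⊥ := by
      by_contra h4
      have := der_lt_of_sol (sol_of_pgroup (H7.isPGroup_pCoreIn.to_le h3)) h4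
      rw [← mim_commutator (hK.le.trans hYB) (hK.le.trans hYB), hKK] at this
      exact this.ne rfl
    obtain ⟨h5, h6⟩ := mem_mpre.1 ((mim_eq_bot_iff (hK.le.trans hYB)).1 h4 hk)
    refine mem_cent.2 fun x hx => ?_
    have := congrArg Subtype.val (DFunLike.congr_fun (mem_bot.1 h6) ⟨x, hx⟩)
    exact (mul_inv_eq_iff_eq_mul.1 this).symm
  · refine mem_mpre.2 ⟨hYB (hAY ha), ?_⟩
    rw [← e]
    exact BD.P1.mem_pCoreIn_of_quad_of_ex2 h2 hB (hY.autInducedBy B)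
      (e ▸ mem_mim_of_mem (hAY ha) (hYB (hAY ha))) (H1.quad_conjAut_of_isAb hA hBA ha _)

theorem rzj (hp : p.Prime) (h2 : p ≠ 2) (hY : BD.P1.Ex2 Y) (hP : IsPGroup p P) (hPY : P ≤ Y)
    (hQP : Q ≤ P) (hQ : Y ≤ 𝒩(Q)) (hK : NormalIn K Y) (hKK : ⁅K, K⁆ = K)
    (hsup : Y ≤ K ⊔ (Y ⊓ 𝒩(P))) (hKQ : ¬ K ≤ 𝒞(Q))
    (hL : ∀ L, NormalIn L Y → ¬ K ≤ L → ∀ R ≤ L, IsPGroup p R → R ≤ Q) : Y ≤ 𝒩(ZJ P) := by
  haveI := Fact.mk hp
  have hPZ : P ≤ 𝒩(ZJ P) := le_normalizer.trans (norm_le_norm_ZJ P)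
  have hZQ : ZJ P ≤ Q := rzj_stab hp h2 hY hK hKK hL (hP.to_le hQP) hQ hKQ
    (H1.isAb_centerThompson P) (hP.to_le (ZJ_le P)) ((ZJ_le P).trans hPY) (hQP.trans hPZ)
  suffices key : ∀ B : Subgroup G, B ≤ Q → Y ≤ 𝒩(B) → Y ≤ 𝒩((ZJ P ⊓ B : Subgroup G)) by
    have := key Q le_rfl hQ
    rwa [inf_eq_left.2 hZQ] at this
  intro B
  induction B using (wellFounded_lt (α := Subgroup G)).induction with
  | _ B ih =>
  intro hBQ hYB
  by_contra hn
  have hBP := hBQ.trans hQP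
  have hinf : ∀ {U V : Subgroup G}, Y ≤ 𝒩(U) → Y ≤ 𝒩(V) → Y ≤ 𝒩((U ⊓ V : Subgroup G)) :=
    fun h h' => (le_inf h h').trans inf_normalizer_le_normalizer_inf
  have hgen : ∀ W : Subgroup G, Y ≤ 𝒩(W) → ZJ P ⊓ B ≤ W → B ≤ W := fun W h1 h3 => by
    by_contra h4
    have := ih (W ⊓ B) (lt_of_le_of_ne inf_le_right fun e => h4 (inf_eq_right.1 e))
      (inf_le_right.trans hBQ) (hinf h1 hYB)
    rw [inf_comm W, ← inf_assoc, inf_eq_left.2 h3] at this
    exact hn this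
  have hB0 : B ≠ ⊥ := fun e => hn (by rw [e, inf_bot_eq, norm_bot]; exact le_top)
  have hD := ih ⁅B, B⁆ (der_lt_of_sol (sol_of_pgroup (hP.to_le hBP)) hB0)
    ((der_le B).trans hBQ) (hYB.trans (norm_le_norm_der B))
  have h3 : ⁅B, B⁆ ≤ ZJ P := by
    have := hgen (centMod Y B (ZJ P ⊓ ⁅B, B⁆)) (centMod_normal hYB hD).norm
      (le_centMod_iff.2 ⟨inf_le_right.trans (hBP.trans hPY),
        inf_le_right.trans ((hBP.trans hPY).trans hD),
        le_inf ((commutator_mono le_rfl inf_le_left).trans (commutator_le_right (hBP.trans hPZ)))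
          (commutator_mono le_rfl inf_le_right)⟩)
    exact (le_centMod_iff.1 this).2.2.trans inf_le_left
  have h4 : B ≤ 𝒞(⁅B, B⁆) := hgen _
    ((hYB.trans (norm_le_norm_der B)).trans (normalIn_cent_norm _).norm)
    (inf_le_left.trans ((comm_iff.1 (ZJ_comm P)).trans (cent_le_cent h3)))
  have h5 : ¬ K ≤ 𝒞(B) := fun h => hn (hsup.trans (sup_le
    (h.trans ((cent_le_cent inf_le_right).trans cent_le_norm))
    ((le_inf (inf_le_right.trans (norm_le_norm_ZJ P)) (inf_le_left.trans hYB)).trans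
      inf_normalizer_le_normalizer_inf)))
  have h6 : ¬ thompsonSubgroupAOf P ≤ Q := fun h => hn (hinf (by
    have : ZJ Q = ZJ P := by
      simp only [ZJ, centerThompsonAOf, H1.thompson_eq_of_le h hQP]
    rw [← this]
    exact hQ.trans (norm_le_norm_ZJ Q)) hYB)
  rw [H1.thompson_le_iff] at h6
  push Not at h6
  obtain ⟨A₀, hA₀, h6⟩ := h6
  obtain ⟨A, hA, -, h7, h8⟩ := H1.exists_maxAb_normalized hP hBP (hPY.trans hYB)
    (fun x hx y hy z hz => (mem_cent.1 (h4 hz) _ (commutator_mem_commutator hx hy)).symm)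
    (Or.inl h2) (fun A => ¬ A ≤ Q)
    ⟨A₀, hA₀, fun x hx y hy => H1.mem_centerThompson_iff.1
      (h3 (commutator_mem_commutator hx hy)) A₀ hA₀, h6⟩
    fun A hA h => (hgen (ZJ Q) (hQ.trans (norm_le_norm_ZJ Q)) fun x hx =>
      H1.mem_centerThompson_iff.2 fun A' hA' => H1.mem_centerThompson_iff.1 hx.1 A'
        (hA'.of_le hA (not_not.1 h) hQP)).trans fun x hx =>
          H1.mem_centerThompson_iff.1 hx A (hA.mono (not_not.1 h) hQP)
  exact h7 (rzj_stab hp h2 hY hK hKK hL (hP.to_le hBP) hYB h5 hA.isAb (hP.to_le hA.le)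
    (hA.le.trans hPY) h8)

end Cfsg.Agent.RE
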