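import Cfsg.Agent.Lib.RE.Loc2
import Cfsg.Agent.Lib.RE.ZJ

/-!
# The uniqueness argument: `O(C(t)) = 1`
-/

set_option autoImplicit false
set_option linter.unusedVariables false
set_option linter.unusedSectionVars false

namespace Cfsg.Agent.RE

open Subgroup Cfsg.Agent.FT Cfsg.Agent.GW
open Cfsg.Agent.H6 hiding Op cent_sup fit_le le_fit
open scoped commutatorElement

universe u

variable {G : Type u} [Group G] [Finite G] {A B D E H K L M N P Q R S T U V X Y : Subgroup G}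
  {p q m f : ℕ} {a b c d g k s t u v w x y z φ : G}

/-- An `A`-invariant `r`-subgroup. -/
structure IR (A : Subgroup G) (r : ℕ) (Q : Subgroup G) : Prop where
  pg : IsPGroup r Q
  norm : A ≤ 𝒩(Q)

/-- `X` has type `(a, r)`. -/
def TyR (A : Subgroup G) (r : ℕ) (X : Subgroup G) (a : G) : Prop :=
  Ty A X a ∧ ∃ Q ≤ OO X, IR A r Q ∧ ¬ Vb A a ≤ 𝒞(Q)

/-- A maximal `A`-invariant `r`-subgroup inside a group of type `(a, r)`. -/
def RA (A : Subgroup G) (r : ℕ) (a : G) (R : Subgroup G) : Prop :=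
  Maximal (IR A r) R ∧ ∃ X, TyR A r X a ∧ R ≤ X

/-- No four-subgroup of `A` centralizes `Q`. -/
def UqLarge (A Q : Subgroup G) : Prop := ∀ T ≤ A, Nat.card T = 4 → ¬ T ≤ 𝒞(Q)

variable {r : ℕ}

theorem UqLarge.mono (h : UqLarge A Q) (hR : Q ≤ R) : UqLarge A R :=
  fun T h1 h2 h3 => h T h1 h2 (h3.trans (cent_le_cent hR))

theorem IR.inf (h : IR A r Q) (hX : A ≤ 𝒩(X)) : IR A r (Q ⊓ X) :=
  ⟨h.pg.to_le inf_le_left, H1.le_normalizer_inf h.norm hX⟩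

theorem IR.inf_norm (h : IR A r R) (hQ : A ≤ 𝒩(Q)) : IR A r (R ⊓ 𝒩(Q)) :=
  h.inf (hQ.trans le_normalizer)

theorem IR.cj (h : IR A r Q) (hg : g ∈ 𝒩(A)) : IR A r (cj g Q) :=
  ⟨isPGroup_cj g h.pg, by
    rw [← cj_normalizer]
    exact (cj_eq_self_iff.2 hg).ge.trans (cj_mono g h.norm)⟩

theorem uq_ty_cj (h : Ty A X a) (hg : g ∈ 𝒩(A)) : Ty A (cj g X) (g * a * g⁻¹) where
  le := (cj_eq_self_iff.2 hg).ge.trans (cj_mono g h.le)
  ne_top := fun e => h.ne_top (cj_injective g (e.trans (cj_top g).symm))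
  mem := conj_mem_of_mem_normalizer hg h.mem
  ne := fun e => h.ne (by simpa using e)
  ns := by
    rw [← cj_centralizer_singleton, ← cj_inf, sol_cj]
    exact h.ns

theorem TyR.cj (h : TyR A r X a) (hg : g ∈ 𝒩(A)) : TyR A r (cj g X) (g * a * g⁻¹) := by
  obtain ⟨h1, Q, h2, h3, h4⟩ := h
  refine ⟨uq_ty_cj h1 hg, H6.cj g Q, (cj_mono g h2).trans (cj_core g _ X).le, h3.cj hg, ?_⟩
  rwa [← cj_Vb hg, ← cj_centralizer, cj_le_cj_iff]

theorem RA.cj (h : RA A r a R) (hc : c ∈ 𝒞(A)) : RA A r a (cj c R) := by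
  obtain ⟨h1, X, h2, h3⟩ := h
  have hc' := cent_le_norm hc
  refine ⟨⟨h1.prop.cj hc', fun R' h4 h5 => ?_⟩, H6.cj c X, ?_, cj_mono c h3⟩
  · have := h1.le_of_ge (h4.cj (inv_mem hc')) (cj_le_iff_le_cj.1 h5)
    rwa [cj_le_iff_le_cj, inv_inv] at this
  · have := h2.cj hc'
    rwa [← mem_cent.1 hc a h2.1.mem, mul_inv_cancel_right] at this

theorem E8.uq_cop (e : E8 A) (ho : Odd (Nat.card H)) : (Nat.card H).Coprime (Nat.card A) := by
  rw [e.card]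
  exact Nat.Coprime.pow_right 3 (Nat.coprime_two_right.2 ho)

theorem E8.uq_four_lt (e : E8 A) (h4 : Nat.card T = 4) (h : T < U) (hU : U ≤ A) : U = A := by
  have h1 := card_dvd_of_le hU
  have h2 := H1.card_lt_of_lt h
  rw [e.card] at h1
  refine eq_of_le_of_card_le hU ?_
  rw [e.card]
  have := Nat.le_of_dvd (by norm_num) h1
  generalize Nat.card U = n at *
  interval_cases n <;> omega

theorem E8.uq_cent (e : E8 A) (hT : T ≤ A) (h4 : Nat.card T = 4) (hc : c ∈ A)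
    (h1 : c ∉ T) (h2 : D ≤ 𝒞(T)) (h3 : D ≤ 𝒞[c]) : D ≤ 𝒞(A) := by
  rw [cent_comm, ← e.uq_four_lt h4 (lt_of_le_of_ne (le_sup_left (b := zpowers c)) fun h =>
    h1 (h ▸ mem_sup_right (mem_zpowers c))) (sup_le hT (zpowers_le.2 hc))]
  exact sup_le (cent_comm.1 h2) (zpowers_le.2 (le_cent1_iff.1 h3))

theorem E8.uq_syl (e : E8 A) (hr : r.Prime) (ho : Odd (Nat.card H)) (hn : A ≤ 𝒩(H))
    (hQ : IR A r Q) (hle : Q ≤ H) : ∃ S, Syl r S H ∧ IR A r S ∧ Q ≤ S :=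
  let ⟨S, h1, h2, h3⟩ := coprime_Syl_subset hr hn (e.uq_cop ho) (Or.inr (sol_of_odd ho)) hle hQ.pg
    hQ.norm
  ⟨S, h1, ⟨h1.isPGroup, h2⟩, h3⟩

theorem E8.uq_cj (e : E8 A) (hr : r.Prime) (ho : Odd (Nat.card H)) (hn : A ≤ 𝒩(H))
    (hS : Syl r S H) (hA : A ≤ 𝒩(S)) (hQ : IR A r Q) (hle : Q ≤ H) :
    ∃ c ∈ H ⊓ 𝒞(A), Q ≤ cj c S := by
  obtain ⟨S', h1, h2, h3⟩ := e.uq_syl hr ho hn hQ hle
  obtain ⟨c, hc, rfl⟩ := coprime_Hall_trans hn (e.uq_cop ho) (sol_of_odd ho)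
    ((hall_singleton hr).2 h1) h2.norm ((hall_singleton hr).2 hS) hA
  exact ⟨c, hc, h3⟩

theorem TyR.ncent (e : E8 A) (hr : r.Prime) (h : TyR A r X a) (hS : Syl r S (OO X))
    (hA : A ≤ 𝒩(S)) : ¬ Vb A a ≤ 𝒞(S) := fun h1 => by
  obtain ⟨h2, Q, h3, h4, h5⟩ := h
  obtain ⟨c, hc, h6⟩ := e.uq_cj hr (odd_OO X) (h2.le.trans (core_normal _ _).norm) hS hA h4 h3
  refine h5 (le_trans ?_ (cent_le_cent h6))
  rw [← cj_centralizer]
  exact (cj_eq_self_iff.2 (cent_le_norm (cent_le_cent Vb_le hc.2))).ge.trans (cj_mono c h1)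

theorem E8.uq_le_OO (e : E8 A) (ha : a ∈ A) (hA : A ≤ X) (hR : R ≤ OO X ⊔ zpowers a)
    (ho : Odd (Nat.card R)) : R ≤ OO X := by
  have hn : zpowers a ≤ 𝒩(OO X) := (zpowers_le.2 (hA ha)).trans (core_normal _ _).norm
  refine PiG.le_of_relIndex (piN_odd.2 ho) hR (sup_le le_normalizer hn) ?_
  rw [relIndex_sup_of_norm hn, compl_compl]
  exact ((piG_singleton Nat.prime_two).2 (e.two.to_le (zpowers_le.2 ha))).relIndex _

theorem uq_exists_perfect (hs : ¬ Group.IsSolvable X) :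
    ∃ K, NormalIn K X ∧ ⁅K, K⁆ = K ∧ K ≠ ⊥ := by
  obtain ⟨K, hK⟩ := exists_minimal_of_wellFoundedLT
    (fun K : Subgroup G => NormalIn K X ∧ ¬ Group.IsSolvable K) ⟨X, NormalIn.refl X, hs⟩
  refine ⟨K, hK.prop.1, le_antisymm (der_le K) (hK.le_of_le ⟨hK.prop.1.commutator hK.prop.1,
    fun h => hK.prop.2 (sol_of_quo (NormalIn.der K) h (sol_of_nil (nil_of_comm
      ((quo_comm_iff (NormalIn.der K).norm).2 le_rfl))))⟩ (der_le K)), fun e => hK.prop.2 ?_⟩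
  rw [e]
  infer_instance

variable [IsSimpleGroup G]

section
variable (h : Min A) (hr : r.Prime) (h2 : r ≠ 2)
include h hr h2

theorem TyR.zj (ht : TyR A r X a) (hR : IR A r R) (hRX : R ≤ X)
    (hm : ∀ R', IR A r R' → R ≤ R' → R' ≤ X → R' ≤ R) : TyR A r 𝒩(ZJ R) a := by
  haveI := Fact.mk hr
  have e := h.toE8
  have hX := ht.1
  have hO := core_normal {2}ᶜ X
  have hAO := hX.le.trans hO.norm
  have hQ : Syl r (R ⊓ OO X) (OO X) := by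
    obtain ⟨S, h3, h4, h5⟩ := e.uq_syl hr (H := R ⊔ OO X)
      (piN_odd.1 (PiG.sup (piN_odd.2 (odd_of_pgroup hr h2 hR.pg)) (core_pi _ _)
        (hRX.trans hO.norm))) (H1.le_normalizer_sup hR.norm hAO) hR le_sup_left
    obtain rfl : S = R := le_antisymm (hm S h4 h5 (h3.le.trans (sup_le hRX hO.le))) h5
    exact h3.inf_of_le (sup_le (hRX.trans hO.norm) le_normalizer) le_sup_right
  have hQA := hR.inf hAO
  set Q := R ⊓ OO X with hQdef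
  have hfr := hQ.frattini hO.le hO.norm
  obtain ⟨K, hK, hKK, hK0⟩ := uq_exists_perfect (X := X ⊓ 𝒩(Q)) fun hs => hX.ns (by
    have := sol_OO X
    have := H1.isSolvable_sup_of_le_normalizer (A := X ⊓ 𝒩(Q)) (inf_le_left.trans hO.norm)
    rw [sup_comm, hfr] at this
    exact sol_of_le this inf_le_left)
  have hKX := hK.le.trans inf_le_left
  have hKQ := hK.le.trans inf_le_right
  have hn : X ≤ 𝒩((K ⊔ OO X : Subgroup G)) := hfr.ge.trans (sup_le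
    (le_sup_right.trans le_normalizer) (H1.le_normalizer_sup hK.norm (inf_le_left.trans hO.norm)))
  have hAK := (le_inf hX.le hQA.norm).trans hK.norm
  have hV := ht.ncent e hr hQ hQA.norm
  have hRN : R ≤ X ⊓ 𝒩(Q) := le_inf hRX (H1.le_normalizer_inf le_normalizer (hRX.trans hO.norm))
  have hY : K ⊔ R ≤ X ⊓ 𝒩(Q) := sup_le hK.le hRN
  have hz := rzj hr h2 (e.ex2 (K ⊔ R)) hR.pg le_sup_right inf_le_left (hY.trans inf_le_right)
    (hK.mono le_sup_left hY) hKK (sup_le_sup_left (le_inf le_sup_right le_normalizer) _)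
    (fun h3 => hV ((hX.perf_Vb h hKX hKK hK0 hn hAK).trans h3)) fun L hL h3 R' h4 h5 => by
      have h6 := h4.trans (hL.le.trans hY)
      exact hQ.le_of_le_normalizer' h5 (e.uq_le_OO hX.mem hX.le (h4.trans
        ((hX.perf_cases h hKX hKK hK0 hn (hL.le.trans (hY.trans inf_le_left))
          (le_sup_left.trans hL.norm)).resolve_left h3)) (odd_of_pgroup hr h2 h5))
        (h6.trans inf_le_right)
  have hKN := le_sup_left.trans hz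
  have hN : Ty A 𝒩(ZJ R) a :=
    ⟨hR.norm.trans (norm_le_norm_ZJ R), h.norm_ne_top (ZJ_ne_bot hr hR.pg fun e => hV (by
      rw [hQdef, e, bot_inf_eq, cent_bot]; exact le_top)) (sol_of_pgroup (hR.pg.to_le (ZJ_le R))),
      hX.mem, hX.ne, fun hs => hX.perf_ns h hKX hKK hK0 hn hAK
        (sol_of_le hs (inf_le_inf_right _ hKN))⟩
  have oQ := odd_of_pgroup hr h2 hQA.pg
  obtain ⟨u, hu, hu1, h3⟩ := hN.exists_comm h (inf_le_left.trans (le_sup_right.trans hz)) oQ hQA.norm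
  obtain ⟨w, hw, hW⟩ := hX.perf_w h hKX hKK hK0 hn hAK
  obtain ⟨u', htwo, hV4, hcyc⟩ := hW.cyc e hu hu1
  have hON := core_normal {2}ᶜ 𝒩(ZJ R)
  have h4 : ⁅Q, Vb A a⁆ ≤ OO 𝒩(ZJ R) := by
    have hc := centMod_normal (M := 𝒩(ZJ R) ⊓ 𝒩(Q)) inf_le_right (inf_le_left.trans hON.norm)
    have h5 : u ∈ centMod (𝒩(ZJ R) ⊓ 𝒩(Q)) Q (OO 𝒩(ZJ R)) :=
      le_centMod_iff.2 ⟨zpowers_le.2 (mem_inf.2 ⟨hN.le (Vb_le hu), hQA.norm (Vb_le hu)⟩),
        zpowers_le.2 (hON.norm (hN.le (Vb_le hu))), h3⟩ (mem_zpowers u)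
    have h6 := hc.conj_mem ⟨hKN hw, hKQ hw⟩ h5
    rw [hcyc.ab] at h6
    refine (le_centMod_iff.1 (?_ : _ ≤ centMod (𝒩(ZJ R) ⊓ 𝒩(Q)) Q _)).2.2
    rw [← hV4, closure_le]
    rintro _ (rfl | rfl)
    exacts [h5, h6]
  have hVQ : Vb A a ≤ 𝒩(Q) := Vb_le.trans hQA.norm
  refine ⟨hN, _, h4, ⟨hQA.pg.to_le (commutator_le_left hVQ), H1.le_normalizer_commutator hQA.norm
    (e.le_cent.trans ((cent_le_cent Vb_le).trans cent_le_norm))⟩, fun h5 => hV ?_⟩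
  exact coprime_commGG1P hVQ ((e.uq_cop oQ).coprime_dvd_right (card_dvd_of_le Vb_le))
    (commutator_eq_bot_iff.2 (cent_comm.1 h5))

theorem TyR.exists_ra (ht : TyR A r X a) (hQ : IR A r Q) (hle : Q ≤ X) :
    ∃ R, RA A r a R ∧ Q ≤ R := by
  haveI := Fact.mk hr
  obtain ⟨R, h3, hR⟩ := exists_maximal_ge_of_wellFoundedGT
    (fun R : Subgroup G => IR A r R ∧ ∃ X, TyR A r X a ∧ R ≤ X) Q ⟨hQ, X, ht, hle⟩
  obtain ⟨h4, Y, h5, h6⟩ := hR.prop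
  refine ⟨R, ⟨⟨h4, fun R' h7 h8 => ?_⟩, Y, h5, h6⟩, h3⟩
  by_contra h9
  exact (H1.lt_inf_normalizer_of_isPGroup h7.pg (lt_of_le_not_ge h8 h9)).not_ge (hR.le_of_ge
    ⟨h7.inf_norm h4.norm, _, h5.zj h hr h2 h4 h6 fun R' a b c => hR.le_of_ge ⟨a, Y, h5, c⟩ b,
      inf_le_right.trans (norm_le_norm_ZJ R)⟩ (le_inf h8 le_normalizer))

theorem RA.eq (ha : RA A r a R) (hb : RA A r b R) : a = b := by
  obtain ⟨h3, X, h4, h5⟩ := ha
  obtain ⟨-, Y, h6, h7⟩ := hb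
  exact Ty.unique h (h4.zj h hr h2 h3.prop h5 fun R' a b _ => h3.le_of_ge a b).1
    (h6.zj h hr h2 h3.prop h7 fun R' a b _ => h3.le_of_ge a b).1

omit h2 in
theorem uq_link (hA : A ≤ X) (hs : Group.IsSolvable X) (h2 : r ≠ 2) (hP : IR A r P) (hPX : P ≤ X)
    (hQ : IR A r Q) (hQX : Q ≤ X) :
    ∃ R, Maximal (IR A r) R ∧ P ≤ R ∧ ∃ c ∈ 𝒞(A), Q ≤ cj c R := by
  have e := h.toE8
  have hn := hA.trans (core_normal {2}ᶜ X).norm
  obtain ⟨S, h3, h4, h5⟩ := e.uq_syl hr (odd_OO X) hn hP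
    (e.le_OO_of_sol hA hs hPX (odd_of_pgroup hr h2 hP.pg) hP.norm)
  obtain ⟨c, hc, h6⟩ := e.uq_cj hr (odd_OO X) hn h3 h4.norm hQ
    (e.le_OO_of_sol hA hs hQX (odd_of_pgroup hr h2 hQ.pg) hQ.norm)
  obtain ⟨R, h7, hR⟩ := exists_maximal_ge_of_wellFoundedGT (IR A r) S h4
  exact ⟨R, hR, h5.trans h7, c, hc.2, h6.trans (cj_mono c h7)⟩

theorem uq_norm_cases (hQ : IR A r Q) (h0 : Q ≠ ⊥) : Group.IsSolvable 𝒩(Q) ∨
    (∃ b, TyR A r 𝒩(Q) b) ∨ ∃ b, Ty A 𝒩(Q) b ∧ Vb A b ≤ 𝒞(Q) := by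
  haveI := Fact.mk hr
  refine or_iff_not_imp_left.2 fun hs => ?_
  obtain ⟨b, hb⟩ := h.exists_ty hQ.norm (h.norm_ne_top h0 (sol_of_pgroup hQ.pg)) hs
  by_cases h3 : Vb A b ≤ 𝒞(Q)
  · exact Or.inr ⟨b, hb, h3⟩
  · exact Or.inl ⟨b, hb, Q, le_OO (normalIn_norm Q) (odd_of_pgroup hr h2 hQ.pg), hQ, h3⟩

theorem RA.of_large (ha : RA A r a R) (hS : Maximal (IR A r) S) (hl : UqLarge A (R ⊓ S)) :
    RA A r a S := by
  haveI := Fact.mk hr
  have e := h.toE8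
  generalize hQ : R ⊓ S = Q at hl
  induction Q using (wellFounded_gt (α := Subgroup G)).induction generalizing R S with
  | _ Q ih =>
  subst hQ
  by_cases hRS : R ≤ S
  · rwa [← ha.1.eq_of_le hS.prop hRS]
  have hSR : ¬ S ≤ R := fun h3 => hRS (hS.le_of_ge ha.1.prop h3)
  have hQ := ha.1.prop.inf hS.prop.norm
  have l1 := H1.lt_inf_normalizer_of_isPGroup ha.1.prop.pg (inf_lt_left.2 hRS)
  have l2 := H1.lt_inf_normalizer_of_isPGroup hS.prop.pg (inf_lt_right.2 hSR)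
  have i1 := ha.1.prop.inf_norm hQ.norm
  have i2 := hS.prop.inf_norm hQ.norm
  have k1 : ∀ R', Maximal (IR A r) R' → R ⊓ 𝒩((R ⊓ S : Subgroup G)) ≤ R' → RA A r a R' :=
    fun R' h3 h4 => have := l1.trans_le (le_inf inf_le_left h4)
      ih _ this ha h3 rfl (hl.mono this.le)
  have k2 : ∀ R', RA A r a R' → S ⊓ 𝒩((R ⊓ S : Subgroup G)) ≤ R' → RA A r a S :=
    fun R' h3 h4 => have := l2.trans_le (le_inf h4 inf_le_left)
      ih _ this h3 hS rfl (hl.mono this.le)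
  obtain ⟨X, hX, -⟩ := ha.2
  obtain ⟨w, -, hw⟩ := hX.1.exists_w h
  obtain hs | ⟨b, hb⟩ | ⟨b, hb, h3⟩ := uq_norm_cases h hr h2 hQ fun e0 =>
    hl _ Vb_le (hw.card e) (by rw [e0, cent_bot]; exact le_top)
  · obtain ⟨R', h3, h4, c, hc, h5⟩ := uq_link h hr hQ.norm hs h2 i1 inf_le_right i2 inf_le_right
    exact k2 _ ((k1 R' h3 h4).cj hc) h5
  · obtain ⟨R₁, h3, h4⟩ := hb.exists_ra h hr h2 i1 inf_le_right
    obtain ⟨R₂, h5, h6⟩ := hb.exists_ra h hr h2 i2 inf_le_right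
    obtain rfl := (k1 R₁ h3.1 h4).eq h hr h2 h3
    exact k2 _ h5 h6
  · obtain ⟨w', -, hw'⟩ := hb.exists_w h
    exact absurd h3 (hl _ Vb_le (hw'.card e))

theorem RA.eq_of_large (ha : RA A r a R) (hb : RA A r b S) (hl : UqLarge A Q) (h3 : Q ≤ R)
    (h4 : Q ≤ S) : a = b :=
  (ha.of_large h hr h2 hb.1 (hl.mono (le_inf h3 h4))).eq h hr h2 hb

theorem TyR.eq_of_large (ha : RA A r a R) (hb : TyR A r X b) (hQ : IR A r Q) (hl : UqLarge A Q)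
    (h3 : Q ≤ R) (h4 : Q ≤ X) : a = b :=
  let ⟨_, h5, h6⟩ := hb.exists_ra h hr h2 hQ h4
  ha.eq_of_large h hr h2 h5 hl h3 h6

theorem not_tyR (hall : ∀ a ∈ A, a ≠ 1 → TyR A r 𝒞[a] a) (ha : a ∈ A) (ha1 : a ≠ 1) : False := by
  haveI := Fact.mk hr
  have e := h.toE8
  have hCa := hall a ha ha1
  have hO := core_normal {2}ᶜ (𝒞[a] : Subgroup G)
  have hAO := hCa.1.le.trans hO.norm
  obtain ⟨W, hW, iW, -⟩ := e.uq_syl hr (odd_OO 𝒞[a]) hAO (Q := ⊥)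
    ⟨IsPGroup.of_bot, by rw [norm_bot]; exact le_top⟩ bot_le
  have hWa : W ≤ 𝒞[a] := hW.le.trans hO.le
  have oW := odd_of_pgroup hr h2 iW.pg
  obtain ⟨w, hw, hwW⟩ : ∃ w, Wb A a w ∧ w ∈ 𝒩(W) := by
    obtain ⟨w, hw⟩ := h.exists_w ha ha1
    obtain ⟨c, hc, h3⟩ := e.uq_cj hr (odd_OO 𝒞[a]) hAO (hW.cj_of_mem (hO.norm hw.cent))
      (iW.cj hw.norm).norm iW hW.le
    rw [cj_cj] at h3
    exact ⟨c * w, ⟨ha, ha1, mul_mem (cent_le_norm hc.2) hw.norm, mul_mem (hO.le hc.1) hw.cent,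
      fun h4 => hw.ncent ((mul_mem_cancel_left (mem_inf.1 hc).2).1 h4)⟩,
      cj_eq_self_iff.1 (eq_of_le_of_card_le h3 (card_cj _ _).le).symm⟩
  have hV := hCa.ncent e hr hW iW.norm
  have lW : UqLarge A W := fun T h3 h4 h5 => by
    have h6 := card_le_of_le (le_inf h3 h5)
    obtain h7 | h7 | h7 | h7 := hw.inv_cases e (U := A ⊓ 𝒞(W)) inf_le_left
      (inf_normalizer_le_normalizer_inf ⟨hw.norm, (normalIn_cent_norm W).norm hwW⟩)
    · rw [h7, card_bot] at h6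
      omega
    · rw [h7, Nat.card_zpowers, e.ord ha ha1] at h6
      omega
    · exact hV (h7.ge.trans inf_le_right)
    · exact hV (Vb_le.trans (h7.ge.trans inf_le_right))
  obtain ⟨u, hu, hu1⟩ := (bot_or_exists_ne_one (Vb A a)).resolve_left fun e0 => by
    have := hw.card e
    rw [e0, card_bot] at this
    omega
  obtain ⟨u', htwo, hV4, hcyc⟩ := hw.cyc e hu hu1
  have hgen : ∀ {D L : Subgroup G}, D ≤ W → A ≤ 𝒩(D) → w ∈ 𝒩(D) → w ∈ 𝒩(L) →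
      ∀ x ∈ Vb A a, x ≠ 1 → D ⊓ 𝒞[x] ≤ L → D ≤ L := by
    intro D L h3 h4 h5 h6 x hx hx1 h7
    obtain ⟨y, h8, h9, h10⟩ := hw.cyc e hx hx1
    have step : ∀ z : G, D ⊓ 𝒞[z] ≤ L → D ⊓ 𝒞[w * z * w⁻¹] ≤ L := fun z hz => by
      have := cj_mono w hz
      rwa [cj_inf, cj_eq_self_iff.2 h5, cj_eq_self_iff.2 h6, cj_centralizer_singleton] at this
    have h11 := step _ h7
    rw [h10.ab] at h11
    have h12 := step _ h11
    rw [h10.bc] at h12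
    exact h8.gen (odd_of_le oW h3) (h4 (Vb_le hx)) (h4 (Vb_le (h9 ▸ h8.b_mem))) h7 h11 h12
  have c1 : ∀ x ∈ Vb A a, x ≠ 1 → ¬ W ⊓ 𝒞[x] ≤ 𝒞(A) := fun x hx hx1 h3 =>
    hV (Vb_le.trans (cent_comm.1 (hgen le_rfl iW.norm hwW ((normalIn_cent_norm A).norm hw.norm)
      x hx hx1 h3)))
  have hne : ∀ x ∈ Vb A a, a ≠ x := fun x hx e0 => hw.nmem e (e0 ▸ hx)
  have hAc : ∀ x ∈ A, A ≤ 𝒩((𝒞[x] : Subgroup G)) := fun x hx =>
    (e.le_cent.trans (cent_le_cent1 hx)).trans le_normalizer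
  have uA := Vb_le hu
  have hT := e.two_of ha ha1 uA hu1 (hne u hu)
  have hTA : V4 a u ≤ A := (closure_le _).2 (by rintro _ (rfl | rfl); exacts [ha, uA])
  have hWT : W ⊓ 𝒞[u] ≤ 𝒞(V4 a u) := by
    rw [hT.cent_eq]
    exact inf_le_inf_right _ hWa
  obtain ⟨Q, hQ1, hQ⟩ := exists_maximal_ge_of_wellFoundedGT
    (fun Q : Subgroup G => IR A r Q ∧ Q ≤ 𝒞(V4 a u)) _ ⟨iW.inf (hAc u uA), hWT⟩
  obtain ⟨iQ, hQT⟩ := hQ.prop
  have hQA : ∀ T' ≤ A, Nat.card T' = 4 → T' ≤ 𝒞(Q) → T' = V4 a u := fun T' h3 h4 h5 => by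
    by_contra h6
    have h7 : ¬ T' ≤ V4 a u := fun h7 => h6 (eq_of_le_of_card_le h7 (by rw [h4, hT.card]))
    obtain ⟨x, hx, hx'⟩ := SetLike.not_le_iff_exists.1 h7
    exact c1 u hu hu1 (hQ1.trans (e.uq_cent hTA hT.card (h3 hx) hx' hQT
      (le_cent1_iff.2 (h5 hx))))
  obtain ⟨R₁, hR₁, q1⟩ := hCa.exists_ra h hr h2 iQ (hQT.trans (cent_le_cent1 hT.a_mem))
  obtain ⟨R₂, hR₂, q2⟩ := (hall u uA hu1).exists_ra h hr h2 iQ
    (hQT.trans (cent_le_cent1 hT.b_mem))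
  have hlarge : ∀ R, IR A r R → Q < R → UqLarge A (R ⊓ 𝒩(Q)) := fun R h3 h4 T' h5 h6 h7 => by
    have h8 := H1.lt_inf_normalizer_of_isPGroup h3.pg h4
    obtain rfl := hQA T' h5 h6 (h7.trans (cent_le_cent h8.le))
    exact h8.not_ge (hQ.le_of_ge ⟨h3.inf_norm iQ.norm, cent_comm.1 h7⟩ h8.le)
  have l1 := hlarge R₁ hR₁.1.prop (lt_of_le_of_ne q1 fun e0 => hT.ne (by
    subst e0
    rw [hR₁.1.eq_of_le hR₂.1.prop q2] at hR₁
    exact hR₁.eq h hr h2 hR₂))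
  have l2 := hlarge R₂ hR₂.1.prop (lt_of_le_of_ne q2 fun e0 => hT.ne (by
    subst e0
    rw [← hR₂.1.eq_of_le hR₁.1.prop q1] at hR₁
    exact hR₁.eq h hr h2 hR₂))
  have i1 := hR₁.1.prop.inf_norm iQ.norm
  have i2 := hR₂.1.prop.inf_norm iQ.norm
  obtain hs | ⟨b, hb⟩ | ⟨b, hb, hbQ⟩ := uq_norm_cases h hr h2 iQ fun e0 =>
    c1 u hu hu1 (hQ1.trans (e0.le.trans bot_le))
  · obtain ⟨R, h3, h4, c, hc, h5⟩ := uq_link h hr iQ.norm hs h2 i1 inf_le_right i2 inf_le_right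
    exact hT.ne (((hR₁.of_large h hr h2 h3 (l1.mono (le_inf inf_le_left h4))).cj hc).eq_of_large
      h hr h2 hR₂ l2 h5 inf_le_left)
  · exact hT.ne ((hb.eq_of_large h hr h2 hR₁ i1 l1 inf_le_left inf_le_right).trans
      (hb.eq_of_large h hr h2 hR₂ i2 l2 inf_le_left inf_le_right).symm)
  obtain ⟨wb, -, hwb⟩ := hb.exists_w h
  have hVb := hQA _ Vb_le (hwb.card e) hbQ
  have hab : a ≠ b := fun e0 => hwb.nmem e (hVb ▸ e0 ▸ hT.a_mem)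
  have hns := (hb.of_normal h (normalIn_cent_norm Q) fun h3 => by
    have hn : zpowers b ≤ 𝒩(OO 𝒩(Q)) := (zpowers_le.2 (hb.le hb.mem)).trans (core_normal _ _).norm
    obtain ⟨o, ho, y, hy, e0⟩ := NormalIn.exists_mul_of_mem_sup hn
      (h3 (cent_comm.1 hQT hT.a_mem))
    have h4 : o ∈ OO 𝒩(Q) ⊓ A := ⟨ho, by
      rw [eq_mul_inv_of_mul_eq e0.symm]
      exact A.mul_mem ha (A.inv_mem (zpowers_le.2 hb.mem hy))⟩
    rw [inf_eq_bot_of_odd (odd_OO _) e.two, mem_bot] at h4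
    rw [h4, one_mul] at e0
    exact hab (eq_of_mem_zpowers_of_mul_self (e0 ▸ hy) (mem_zpowers b) (e.ord ha ha1)
      (e.ord hb.mem hb.ne))).2
  have hZ : Zc W ⊓ 𝒞[u] ≠ ⊥ := fun e0 => Zc_ne_bot (nil_of_pgroup iW.pg)
    (fun e1 => hV (by rw [e1, cent_bot]; exact le_top)) (le_bot_iff.1 (hgen inf_le_left
      (iW.norm.trans (norm_le_norm_Zc W)) (norm_le_norm_Zc W hwW) (by rw [norm_bot]; trivial)
      u hu hu1 e0.le))
  have iZ : IR A r (Zc W ⊓ 𝒞[u]) :=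
    IR.inf ⟨iW.pg.to_le inf_le_left, iW.norm.trans (norm_le_norm_Zc W)⟩ (hAc u uA)
  have hWZ : W ≤ 𝒩((Zc W ⊓ 𝒞[u] : Subgroup G)) :=
    (cent_comm.1 (inf_le_left.trans inf_le_right)).trans cent_le_norm
  have hb' : Ty A 𝒩((Zc W ⊓ 𝒞[u] : Subgroup G)) b :=
    ⟨iZ.norm, h.norm_ne_top hZ (sol_of_pgroup iZ.pg), hb.mem, hb.ne, fun hs => hns (sol_of_le hs
      (inf_le_inf_right _ ((cent_le_cent ((inf_le_inf_right _ inf_le_left).trans hQ1)).trans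
        cent_le_norm)))⟩
  have hbA := zpowers_le.2 hb.mem
  have hWb : V4 a u ≤ 𝒞(⁅W, zpowers b⁆) := by
    by_contra h3
    obtain ⟨R, h4, h5⟩ := hCa.exists_ra h hr h2 iW hWa
    exact hab (TyR.eq_of_large h hr h2 h4 ⟨hb', _, (commutator_mono hWZ le_rfl).trans
      (hb'.comm_le h), ⟨iW.pg.to_le (commutator_le_left (hbA.trans iW.norm)),
        H1.le_normalizer_commutator iW.norm
          (e.le_cent.trans ((cent_le_cent hbA).trans cent_le_norm))⟩, hVb ▸ h3⟩ iW lW h5 hWZ)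
  have fin : ∀ x ∈ Vb A a, x ≠ 1 → x ≠ u → x ∈ V4 a b := fun x hx hx1 hxu => by
    have xA := Vb_le hx
    have hx2 := e.two_of ha ha1 xA hx1 (hne x hx)
    have hn : zpowers b ≤ 𝒩((W ⊓ 𝒞[x] : Subgroup G)) := hbA.trans (iW.inf (hAc x xA)).norm
    have h3 : x ∉ V4 a u := fun h3 => by
      obtain h4 | h4 | h4 | h4 := hT.mem_iff.1 h3
      exacts [hx1 h4, hne x hx h4.symm, hxu h4, hw.nmem e ((mul_mem_cancel_right hu).1 (h4 ▸ hx))]
    have h4 : W ⊓ 𝒞[x] ≤ 𝒞[b] := cent_zpowers (x := b) ▸ cent_comm.1 (coprime_commGG1P hn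
      ((e.uq_cop (odd_of_le oW inf_le_left)).coprime_dvd_right (card_dvd_of_le hbA))
      (commutator_eq_bot_iff.2 ((e.uq_cent hTA hT.card xA h3
        ((commutator_mono inf_le_left le_rfl).trans (cent_comm.1 hWb))
        ((commutator_le_left hn).trans inf_le_right)).trans (cent_le_cent hbA))))
    have hab2 := e.two_of ha ha1 hb.mem hb.ne hab
    by_contra h5
    refine c1 x hx hx1 (e.uq_cent (T := V4 a b)
      ((closure_le _).2 (by rintro _ (rfl | rfl); exacts [ha, hb.mem])) hab2.card xA h5 ?_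
      inf_le_right)
    rw [hab2.cent_eq]
    exact le_inf (inf_le_left.trans hWa) h4
  have h3 := fin u' (hV4 ▸ htwo.b_mem) htwo.b_ne htwo.ne.symm
  have h4 := fin (u * u') (hV4 ▸ htwo.ab_mem) htwo.left.b_ne htwo.left.ne.symm
  have h5 : Vb A a ≤ V4 a b := by
    rw [← hV4, closure_le]
    rintro _ (rfl | rfl)
    exacts [(mul_mem_cancel_right h3).1 h4, h3]
  have hab2 := e.two_of ha ha1 hb.mem hb.ne hab
  exact hw.nmem e (eq_of_le_of_card_le h5 (by rw [hab2.card, hw.card e]) ▸ hab2.a_mem)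

end

theorem Min.Vb_cent (h : Min A) (ht : t ∈ A) (h1 : t ≠ 1) : Vb A t ≤ 𝒞(OO 𝒞[t]) := by
  have e := h.toE8
  have hT := h.ty_cent ht h1
  have hn := hT.le.trans (core_normal {2}ᶜ _).norm
  refine cent_comm.1 (H1.le_of_forall_isSylowIn fun r hr => ?_)
  obtain ⟨S, h2, h3, -⟩ := e.uq_syl hr.out (odd_OO 𝒞[t]) hn (Q := ⊥)
    ⟨IsPGroup.of_bot, by rw [norm_bot]; exact le_top⟩ bot_le
  refine ⟨S, h2, cent_comm.1 ?_⟩
  by_contra h4
  refine not_tyR h hr.out (fun e0 => h4 ?_) (fun a ha ha1 => ?_) ht h1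
  · subst e0
    rw [← inf_eq_right.2 h2.le, inf_eq_bot_of_odd (odd_OO _) h3.pg, cent_bot]
    exact le_top
  · obtain ⟨g, hg, rfl⟩ := h.tr t ht h1 a ha ha1
    rw [← cj_centralizer_singleton]
    exact TyR.cj ⟨hT, S, h2.le, h3, h4⟩ hg

theorem Min.OO_cent (h : Min A) (ht : t ∈ A) (h1 : t ≠ 1) : OO 𝒞[t] = ⊥ := by
  have e := h.toE8
  have key : ∀ t ∈ A, t ≠ 1 → ∀ v ∈ A, v ≠ 1 → t ≠ v → OO 𝒞[t] ≤ OO 𝒞[v] := by
    intro t ht h1 v hv h2 h3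
    obtain ⟨w, hw⟩ := h.exists_w ht h1
    have h4 := e.uq_cent Vb_le (hw.card e) ht (hw.nmem e) (cent_comm.1 (h.Vb_cent ht h1))
      (core_le _ _)
    exact (h.ty_cent hv h2).le_OO h ht h1 h3 (h4.trans (cent_le_cent1 hv)) (odd_OO _)
      (inf_le_right.trans (core_normal _ _).norm) h4
  obtain ⟨w, hw⟩ := h.exists_w ht h1
  obtain ⟨v, hv, hv1⟩ := (bot_or_exists_ne_one (Vb A t)).resolve_left fun e0 => by
    have := hw.card e
    rw [e0, card_bot] at this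
    omega
  have htv : t ≠ v := fun e0 => hw.nmem e (e0 ▸ hv)
  by_contra h2
  have h3 := h.norm_ne_top h2 (sol_OO _)
  refine htv (Ty.unique h ((h.ty_cent ht h1).mono (core_normal _ _).norm h3)
    ((h.ty_cent (Vb_le hv) hv1).mono (?_ : _ ≤ 𝒩(OO 𝒞[t])) h3))
  rw [le_antisymm (key t ht h1 v (Vb_le hv) hv1 htv) (key v (Vb_le hv) hv1 t ht h1 htv.symm)]
  exact (core_normal _ _).norm

theorem Min.tq_cent (h : Min A) (ht : t ∈ A) (h1 : t ≠ 1) : ∃ E L q, TQ 𝒞[t] t E L q := by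
  obtain ⟨E, L, q, h2⟩ := (h.ty_cent ht h1).exists_tq h
  obtain ⟨E', L', h3⟩ := TQ.of_bot (mem_cent1.2 rfl) (h.OO_cent ht h1) h2
  exact ⟨E', L', q, h3⟩

end Cfsg.Agent.RE
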